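import Cfsg.Agent.JComp.Outside
import Cfsg.Agent.S2947
import Cfsg.Agent.StronglyEmbedded.Basic

/-!
The cases for a largest straddler: properly contained in the Sylow subgroup, or equal to it with
another straddling configuration relative to `L`.
-/

set_option autoImplicit false

open Cfsg
open scoped Pointwise commutatorElement

namespace CfsgLib.JComp

variable {G : Type*} [Group G] [Finite G]

local instance : Fact (Nat.Prime 2) := ⟨Nat.prime_two⟩

namespace Setup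

variable {S : Sylow 2 G} {M T L : Subgroup G} (P : Setup S M T L)

include P

theorem exists_moved_of_lt (hTS : T ≤ (S : Subgroup G)) (hne : T ≠ (S : Subgroup G)) :
    ∃ g, g ∈ (S : Subgroup G) ∧ g ∈ Subgroup.normalizer (T : Set G) ∧ g ∉ L := by
  obtain ⟨g, hg, hgN, hgT⟩ := CfsgLib.LocalP.exists_normalizes_not_mem S.isPGroup' hTS hne
  refine ⟨g, hg, hgN, fun hgL => hgT ?_⟩
  have h := sylowIn_maximal P.hLj.1
    (S.isPGroup'.to_le (sup_le hTS (Subgroup.zpowers_le.mpr hg)))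
    (sup_le P.T_le_L (Subgroup.zpowers_le.mpr hgL)) (le_sup_left : T ≤ T ⊔ Subgroup.zpowers g)
  rw [← h]
  exact Subgroup.mem_sup_right (Subgroup.mem_zpowers g)

theorem card_ZJ_le_four {K : Subgroup G} (hK : IsJComponent T K)
    (hc : ∀ a ∈ ctr T K, ∀ b ∈ ctr T K, a ≠ 1 → b ≠ 1 → a = b) : Nat.card ↥(ZJ T) ≤ 4 := by
  have h1 : Nat.card ↥(ctr T K) ≤ 2 := by
    by_cases h : ∃ a ∈ ctr T K, a ≠ 1
    · obtain ⟨a, ha, ha1⟩ := h
      have hsub : (ctr T K : Set G) ⊆ {1, a} := fun b hb => by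
        rcases eq_or_ne b 1 with hb1 | hb1
        · exact Or.inl hb1
        · exact Or.inr (hc b hb a ha hb1 ha1)
      have h2 := Set.ncard_le_ncard hsub (Set.toFinite _)
      rw [Set.ncard_pair (Ne.symm ha1), ← Nat.card_coe_set_eq] at h2
      exact h2
    · push Not at h
      rw [(Subgroup.eq_bot_iff_forall _).mpr h, Subgroup.card_bot]
      norm_num
  exact (P.card_ZJ_le hK).trans (by omega)

theorem card_ZJ {K : Subgroup G} (hK : IsJComponent T K)
    (hc : ∀ a ∈ ctr T K, ∀ b ∈ ctr T K, a ≠ 1 → b ≠ 1 → a = b) :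
    Nat.card ↥(ZJ T) = 2 ∨ Nat.card ↥(ZJ T) = 4 := by
  obtain ⟨e, he⟩ := IsPGroup.iff_card.mp
    (CfsgLib.LocalP.isPGroup_of_isElementaryAbelian (omegaCenterOf_elem (thompsonSubgroupOf 2 T)))
  have h4 := P.card_ZJ_le_four hK hc
  obtain ⟨w, hw, -, hw1, -⟩ := P.split hK
  have h1 : 1 < Nat.card ↥(ZJ T) := (Subgroup.one_lt_card_iff_ne_bot _).mpr fun h => by
    rw [h, Subgroup.mem_bot] at hw
    exact hw1 hw
  rw [show Nat.card ↥(ZJ T) = 2 ^ e from he] at h4 h1 ⊢
  rcases e with _ | _ | _ | e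
  · simp at h1
  · exact Or.inl rfl
  · exact Or.inr rfl
  · exfalso
    have : 1 ≤ 2 ^ e := Nat.one_le_two_pow
    rw [pow_succ, pow_succ, pow_succ] at h4
    omega

/-- Conclusions for `T` properly contained in `S`. -/
theorem lt_facts (hTS : T ≤ (S : Subgroup G)) (hne : T ≠ (S : Subgroup G)) {K : Subgroup G}
    (hK : K ∈ outComps M T L) :
    (∀ K' ∈ outComps M T L, K' = K) ∧ T ≤ Subgroup.normalizer (K : Set G) ∧
      omegaCenterOf T = ZJ T ∧
      (∀ a ∈ ctr T K, ∀ b ∈ ctr T K, a ≠ 1 → b ≠ 1 → a = b) ∧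
      ∃ z, z ∈ omegaCenterOf (S : Subgroup G) ∧ z ≠ 1 ∧
        (∀ x ∈ omegaCenterOf (S : Subgroup G), x = 1 ∨ x = z) ∧
        (∀ a ∈ ZJ T, a = 1 ∨ a = z ∨ ¬ Subgroup.centralizer ({a} : Set G) ≤ M) ∧
        ((∀ x ∈ ctr T K, x = 1) ∨
          ∃ h g, h ∈ ctr T K ∧ h ≠ 1 ∧ h ≠ z ∧ g ∈ (S : Subgroup G) ∧
            g ∈ Subgroup.normalizer (T : Set G) ∧ g * h * g⁻¹ ≠ h ∧
            g * h * g⁻¹ ≠ z ∧ g * h * g⁻¹ ∈ ZJ T ∧
            (∀ a ∈ ZJ T, a = 1 ∨ a = h ∨ a = g * h * g⁻¹ ∨ a = z)) := by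
  obtain ⟨g, hgS, hgT, hgL⟩ := P.exists_moved_of_lt hTS hne
  have hgJ := CfsgLib.LocalP.le_normalizer_thompsonSubgroupOf (p := 2) T hgT
  have huniq : ∀ K' ∈ outComps M T L, K' = K := fun K' hK' => P.unique_of_moved hgJ hgL hK hK'
  have hTK := P.normalizer_of_unique hK huniq
  have hsm := P.ctr_small_of_moved hgJ hgL hK
  have hcent := P.centralizes_ZJ hK.1 hTK hsm
  have hel := CfsgLib.LocalP.isElementaryAbelian_iff.mp (omegaCenterOf_elem (thompsonSubgroupOf 2 T))
  have hOT : omegaCenterOf T = ZJ T := by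
    refine le_antisymm P.omegaCenter_T_le fun x hx => mem_omegaCenterOf.mpr ⟨?_, hcent hx, hel.2 x hx⟩
    exact CfsgLib.LocalP.thompsonSubgroupOf_le T (omegaCenterOf_le _ hx)
  refine ⟨huniq, hTK, hOT, hsm, ?_⟩
  have hSne : (S : Subgroup G) ≠ ⊥ := ne_bot_of_le_ne_bot P.hT.1.2.1 hTS
  obtain ⟨z, hz, hz1⟩ := (Subgroup.bot_or_exists_ne_one _).resolve_left (omegaCenter_sylow_ne_bot S hSne)
  have hgz : ∀ x ∈ omegaCenterOf (S : Subgroup G), g * x * g⁻¹ = x := fun x hx => by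
    rw [← omegaCenterOf_comm hx hgS, mul_inv_cancel_right]
  have hSM : (S : Subgroup G) ≤ M := sylow_le_of_normalizer_J_le S P.hMJ
  by_cases hh : ∃ h ∈ ctr T K, h ≠ 1
  · obtain ⟨h, hh, hh1⟩ := hh
    obtain ⟨hk1, hk2⟩ := P.moved hgJ hgL hK hK hh hh1
    set h' := g * h * g⁻¹ with hh'
    have hk0 : h' ≠ 1 := fun e => hh1 (conj_eq_one_iff.mp e)
    have hne' : h' ≠ h := fun e => hk2 (e ▸ hh)
    have hinv : ∀ {u : G}, u ∈ ZJ T → u * u = 1 := fun hu => by rw [← sq]; exact hel.2 _ hu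
    -- the elements of `Ω₁Z(J(T))`
    have hall : ∀ x ∈ ZJ T, x = 1 ∨ x = h ∨ x = h' ∨ x = h * h' := by
      intro x hx
      by_cases hxc : x ∈ ctr T K
      · rcases eq_or_ne x 1 with e | e
        · exact Or.inl e
        · exact Or.inr (Or.inl (hsm x hxc h hh e hh1))
      · have h2 := P.mul_mem_ctr hK.1 hx hk1 hxc hk2
        have hx' : x = x * h' * h' := by rw [mul_assoc, hinv hk1, mul_one]
        rcases eq_or_ne (x * h') 1 with e | e
        · right; right; left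
          rw [hx', e, one_mul]
        · right; right; right
          rw [hx', hsm _ h2 h hh e hh1]
    have hzZ : ∀ x ∈ omegaCenterOf (S : Subgroup G), x = 1 ∨ x = h * h' := by
      intro x hx
      have hxg := hgz x hx
      rcases hall x (P.omegaCenter_S_le hTS hx) with e | e | e | e
      · exact Or.inl e
      · rw [e] at hxg; exact absurd hxg hne'
      · rw [e, hh'] at hxg
        exact absurd (mul_left_cancel (mul_right_cancel hxg)) hne'
      · exact Or.inr e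
    have hze : z = h * h' := (hzZ z hz).resolve_left hz1
    have hhz : h ≠ z := fun e => hk0 (by
      rw [hze] at e
      exact mul_left_cancel (e.symm.trans (mul_one h).symm))
    have hh'z : h' ≠ z := fun e => hh1 (by
      rw [hze] at e
      exact mul_right_cancel (e.symm.trans (one_mul h').symm))
    have hall' : ∀ a ∈ ZJ T, a = 1 ∨ a = h ∨ a = h' ∨ a = z := fun a ha => hze ▸ hall a ha
    refine ⟨z, hz, hz1, fun x hx => hze ▸ hzZ x hx, fun a ha => ?_,
      Or.inr ⟨h, g, hh, hh1, hhz, hgS, hgT, hne', hh'z, hk1, hall'⟩⟩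
    rcases hall' a ha with e | e | e | e
    · exact Or.inl e
    · exact Or.inr (Or.inr fun hle => hK.2.2 ((le_centralizer_singleton (e ▸ hh.2)).trans hle))
    · refine Or.inr (Or.inr fun hle => hK.2.2 fun y hy => ?_)
      rw [e] at hle
      have h3 := hle (conj_mem_centralizer_singleton (m := g) (le_centralizer_singleton hh.2 hy))
      have h4 := mul_mem (mul_mem (inv_mem (hSM hgS)) h3) (hSM hgS)
      simpa [mul_assoc] using h4
    · exact Or.inr (Or.inl e)
  · push Not at hh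
    obtain ⟨w, hw, -, hw1, -, hall, -⟩ := P.split hK.1
    have h2 : ∀ x ∈ ZJ T, x = 1 ∨ x = w := fun x hx => by
      rcases hall x hx with h | h
      · exact Or.inl (hh x h)
      · exact Or.inr (mul_left_cancel ((hh _ h).trans (by rw [← sq, hel.2 w hw])))
    have hze : z = w := (h2 z (P.omegaCenter_S_le hTS hz)).resolve_left hz1
    refine ⟨z, hz, hz1, fun x hx => hze ▸ h2 x (P.omegaCenter_S_le hTS hx), fun a ha => ?_, Or.inl hh⟩
    rcases h2 a ha with e | e
    · exact Or.inl e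
    · exact Or.inr (Or.inl (e.trans hze.symm))

end Setup

theorem centralizer_le_of_unique {S : Sylow 2 G} (hG : ZN G) {z : G}
    (hall : ∀ x ∈ omegaCenterOf (S : Subgroup G), x = 1 ∨ x = z) :
    Subgroup.centralizer ({z} : Set G) ≤ Subgroup.normalizer ((S : Subgroup G) : Set G) := by
  refine le_trans (fun c hc => Subgroup.mem_centralizer_iff.mpr fun x hx => ?_) (hG.cent S)
  rcases hall x hx with rfl | rfl
  · simp
  · exact (Subgroup.mem_centralizer_singleton_iff.mp hc).symm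

/-! ### Largest straddlers relative to a subgroup containing `N(J(S))` -/

theorem straddling_conj {L T : Subgroup G} (hT : T ∈ straddlingTwoSubgroups L) {l : G} (hl : l ∈ L) :
    T.map (MulAut.conj l).toMonoidHom ∈ straddlingTwoSubgroups L := by
  obtain ⟨h1, h2, h3, N, hN, hTN, hNL⟩ := hT
  refine ⟨h1.map _, fun h => h2 ?_, ?_, N.map (MulAut.conj l).toMonoidHom, isTwoLocal_map hN l,
    Subgroup.map_mono hTN, fun h => hNL fun x hx => ?_⟩
  · exact Subgroup.map_injective (MulAut.conj l).injective (h.trans (Subgroup.map_bot _).symm)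
  · rintro _ ⟨x, hx, rfl⟩
    exact mul_mem (mul_mem hl (h3 hx)) (inv_mem hl)
  · have h4 := mul_mem (mul_mem (inv_mem hl) (h (Subgroup.mem_map_of_mem _ hx))) hl
    simpa [mul_assoc] using h4

theorem maxStraddling_conj {L T : Subgroup G} (hT : T ∈ maxStraddlingTwoSubgroups L) {l : G} (hl : l ∈ L) :
    T.map (MulAut.conj l).toMonoidHom ∈ maxStraddlingTwoSubgroups L := by
  refine ⟨straddling_conj hT.1 hl, fun T' hT' => ?_⟩
  rw [maxElemAbelianOrder_map, J_map, Subgroup.card_map_of_injective (MulAut.conj l).injective,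
    Subgroup.card_map_of_injective (MulAut.conj l).injective]
  exact hT.2 T' hT'

theorem exists_maxStraddling {L : Subgroup G} (h : (straddlingTwoSubgroups L).Nonempty) :
    ∃ T, T ∈ maxStraddlingTwoSubgroups L := by
  classical
  haveI : Fintype (Subgroup G) := Fintype.ofFinite _
  obtain ⟨T₀, hT₀⟩ := h
  obtain ⟨T₁, h1, m1⟩ := (Finset.univ.filter fun T : Subgroup G => T ∈ straddlingTwoSubgroups L).exists_max_image
    maxElemAbelianOrder ⟨T₀, by simp [hT₀]⟩
  obtain ⟨T₂, h2, m2⟩ := (Finset.univ.filter fun T : Subgroup G => T ∈ straddlingTwoSubgroups L ∧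
    maxElemAbelianOrder T = maxElemAbelianOrder T₁).exists_max_image
    (fun T => Nat.card ↥(thompsonSubgroupOf 2 T)) ⟨T₁, by simpa using h1⟩
  obtain ⟨T₃, h3, m3⟩ := (Finset.univ.filter fun T : Subgroup G => T ∈ straddlingTwoSubgroups L ∧
    maxElemAbelianOrder T = maxElemAbelianOrder T₁ ∧
    Nat.card ↥(thompsonSubgroupOf 2 T) = Nat.card ↥(thompsonSubgroupOf 2 T₂)).exists_max_image
    (fun T => Nat.card ↥T) ⟨T₂, by simpa using h2⟩
  simp only [Finset.mem_filter, Finset.mem_univ, true_and] at h1 m1 h2 m2 h3 m3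
  refine ⟨T₃, h3.1, fun T hT => ⟨h3.2.1 ▸ m1 T hT, fun he => ⟨h3.2.2 ▸ m2 T ⟨hT, he.trans h3.2.1⟩, fun hj => ?_⟩⟩⟩
  exact m3 T ⟨hT, he.trans h3.2.1, hj.trans h3.2.2⟩

theorem sylow_maxStraddling {L : Subgroup G} (S : Sylow 2 G) (hS : (S : Subgroup G) ∈ straddlingTwoSubgroups L) :
    (S : Subgroup G) ∈ maxStraddlingTwoSubgroups L := by
  refine ⟨hS, fun T hT => ?_⟩
  obtain ⟨x, -, hle⟩ := exists_sylowIn_ge_conj
    (sylowIn_of_sylow_le S (le_top : (S : Subgroup G) ≤ ⊤)) hT.1 le_top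
  have h1 := (maxElemAbelianOrder_mono hle).trans (maxElemAbelianOrder_map _ x).le
  refine ⟨h1, fun he => ⟨?_, fun _ => ?_⟩⟩
  · have h2 := J_le_J ((CfsgLib.LocalP.thompsonSubgroupOf_le T).trans hle)
      ((maxElemAbelianOrder_map _ x).le.trans he.ge)
    refine (Subgroup.card_le_of_le h2).trans ?_
    rw [J_map, Subgroup.card_map_of_injective (MulAut.conj x).injective]
  · refine (Subgroup.card_le_of_le hle).trans ?_
    rw [Subgroup.card_map_of_injective (MulAut.conj x).injective]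

/-- The maximal 2-local attached to a largest straddler comes with a component outside. -/
theorem exists_setup (S : Sylow 2 G) {M T : Subgroup G} (hG : ZN G)
    (hMJ : Subgroup.normalizer (thompsonSubgroupOf 2 (S : Subgroup G) : Set G) ≤ M)
    (hT : T ∈ maxStraddlingTwoSubgroups M) {K : Subgroup G} (hK : K ∈ jComponentsOutside M T) :
    ∃ L, Setup S M T L ∧ K ∈ outComps M T L ∧
      ∀ L' : Subgroup G, IsMaximalTwoLocal L' → K ⊔ thompsonSubgroupOf 2 T ≤ L' → L' = L := by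
  obtain ⟨L, h1, h2, h3, -, -, h6⟩ := exists_unique_maximal S hMJ hG hT hK
  exact ⟨L, ⟨hG, hMJ, hT, h1, h6⟩, ⟨hK.1.1, le_sup_left.trans h2, hK.2.1⟩, h3⟩

/-- `L` is not strongly embedded: some 2-subgroup straddles it. -/
theorem straddling_nonempty (S : Sylow 2 G) {M L : Subgroup G} (P : Setup S M (S : Subgroup G) L)
    (hO : pCore 2 G = ⊥)
    (hNJ : Subgroup.normalizer (thompsonSubgroupOf 2 (S : Subgroup G) : Set G) ≤ L) :
    (straddlingTwoSubgroups L).Nonempty := by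
  by_contra hcon
  have hse := (Cfsg.Agent.S2947.result P.hG.char2 P.hG.solv P.hG.cent hO S L P.hLmax.1 hNJ).mpr
    (Set.not_nonempty_iff_eq_empty.mp hcon)
  set V := sylowCenterClosure 2 L
  have hSne : (S : Subgroup G) ≠ ⊥ := two_ne_bot_of_mem P.hLj
  obtain ⟨z, hz, hz1⟩ := (Subgroup.bot_or_exists_ne_one _).resolve_left (omegaCenter_sylow_ne_bot S hSne)
  have hzL : z ∈ L := P.T_le_L (omegaCenterOf_le _ hz)
  have hz2 : orderOf z = 2 := orderOf_eq_prime (mem_omegaCenterOf.mp hz).2.2 hz1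
  refine P.hLj.2.1 (J_le_iff.mpr fun A hA a ha => ?_)
  rcases eq_or_ne a 1 with rfl | ha1
  · exact one_mem _
  have ha2 : orderOf a = 2 :=
    orderOf_eq_prime ((CfsgLib.LocalP.isElementaryAbelian_iff.mp hA.2.1).2 a ha) ha1
  obtain ⟨l, hl, rfl⟩ :=
    CfsgLib.StronglyEmbedded.exists_mem_conj hse hz2 hzL ha2 (P.T_le_L (hA.1 ha))
  exact ((module_le P.hLj).trans inf_le_left)
    (conj_mem (CfsgLib.LocalCharP.le_normalizer_sylowCenterClosure L hl) (omegaCenter_le_module P.hLj hz))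

/-- A second straddling configuration on the same Sylow subgroup forces `|Ω₁Z(J(S))| ≤ 4`. -/
theorem both_facts (S : Sylow 2 G) {M L L' K K' : Subgroup G} (P : Setup S M (S : Subgroup G) L)
    (P' : Setup S L (S : Subgroup G) L') (hK : K ∈ outComps M (S : Subgroup G) L)
    (hK' : K' ∈ outComps L (S : Subgroup G) L') :
    (S : Subgroup G) ≤ Subgroup.normalizer (K : Set G) ∧
      ∀ a ∈ ctr (S : Subgroup G) K, ∀ b ∈ ctr (S : Subgroup G) K, a ≠ 1 → b ≠ 1 → a = b := by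
  set T := (S : Subgroup G)
  have hel := CfsgLib.LocalP.isElementaryAbelian_iff.mp (omegaCenterOf_elem (thompsonSubgroupOf 2 T))
  have hdis : ∀ X ∈ outComps M T L, ∀ Y ∈ outComps L T L', ∀ x ∈ ctr T X, x ∈ ctr T Y → x = 1 := by
    intro X hX Y hY x hxX hxY
    by_contra hx1
    exact hY.2.2 ((le_centralizer_singleton hxY.2).trans (P.cent_le hX hxX hx1))
  have hmul1 : ∀ {a b : G}, b ∈ ZJ T → a * b = 1 → a = b := fun hb h =>
    (eq_inv_of_mul_eq_one_left h).trans (CompGen.elem_inv (omegaCenterOf_elem _) hb)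
  have hsmall : ∀ X ∈ outComps M T L, ∀ a ∈ ctr T X, ∀ b ∈ ctr T X, a ≠ 1 → b ≠ 1 → a = b := by
    intro X hX a ha b hb ha1 hb1
    have h := P'.mul_mem_ctr hK'.1 ha.1 hb.1 (fun h => ha1 (hdis X hX K' hK' a ha h))
      (fun h => hb1 (hdis X hX K' hK' b hb h))
    exact hmul1 hb.1 (hdis X hX K' hK' _ (mul_mem ha hb) h)
  have hsmall' : ∀ a ∈ ctr T K', ∀ b ∈ ctr T K', a ≠ 1 → b ≠ 1 → a = b := by
    intro a ha b hb ha1 hb1
    have h := P.mul_mem_ctr hK.1 ha.1 hb.1 (fun h => ha1 (hdis K hK K' hK' a h ha))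
      (fun h => hb1 (hdis K hK K' hK' b h hb))
    exact hmul1 hb.1 (hdis K hK K' hK' _ h (mul_mem ha hb))
  refine ⟨?_, hsmall K hK⟩
  by_cases h1 : ∀ X ∈ outComps M T L, X = K
  · exact P.normalizer_of_unique hK h1
  push Not at h1
  obtain ⟨K₂, hK₂, hne⟩ := h1
  -- then `K'` is the only component on the other side
  have huniq' : ∀ Y ∈ outComps L T L', Y = K' := by
    intro Y hY
    by_contra hYne
    obtain ⟨w1, hw1, hwK1, hw1ne, hw1c, -, -⟩ := P.split hK.1
    obtain ⟨w2, hw2, hwK2, hw2ne, hw2c, -, -⟩ := P.split hK₂.1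
    obtain ⟨v, hv, hvK, hvne, hvc, -, -⟩ := P'.split hY.1
    obtain ⟨v', hv', hvK', hv'ne, hv'c, -, -⟩ := P'.split hK'.1
    have hw1in : w1 ∈ ctr T K₂ := P.mem_ctr_of_ne hK hK₂ hne hw1 hwK1
    have hw2in : w2 ∈ ctr T K := P.mem_ctr_of_ne hK₂ hK (Ne.symm hne) hw2 hwK2
    have hvin : v ∈ ctr T K' := P'.mem_ctr_of_ne hY hK' (Ne.symm hYne) hv hvK
    have hv'in : v' ∈ ctr T Y := P'.mem_ctr_of_ne hK' hY hYne hv' hvK'
    have key : ∀ u : G, ∀ Z ∈ outComps L T L', u ∈ ctr T Z → u ≠ 1 → u = w2 * w1 := by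
      intro u Z hZ hu hu1
      have h := P.mul_mem_ctr hK.1 hu.1 hw1 (fun h => hu1 (hdis K hK Z hZ u h hu))
        (fun h => hw1c h.2)
      have hne1 : u * w1 ≠ 1 := fun e =>
        hu1 (hdis K₂ hK₂ Z hZ u ((hmul1 hw1 e).symm ▸ hw1in) hu)
      have he := hsmall K hK _ h w2 hw2in hne1 hw2ne
      calc u = u * (w1 * w1) := by rw [← sq, hel.2 w1 hw1, mul_one]
        _ = _ := by rw [← mul_assoc, he]
    have e : v = v' := (key v K' hK' hvin hvne).trans (key v' Y hY hv'in hv'ne).symm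
    exact hv'c (e ▸ hvin).2
  -- so `S` centralizes `Ω₁Z(J(S))` and fixes every component
  have hcent := P'.centralizes_ZJ hK'.1 (P'.normalizer_of_unique hK' huniq') hsmall'
  intro t ht
  refine Subgroup.mem_normalizer_iff_map_conj_eq.mpr ?_
  obtain ⟨w, hw, hwK, hw1, -, -, -⟩ := P.split hK.1
  have hKt := P.conj_outComp hK (P.T_le_L ht) (P.T_le_M ht)
  refine eq_of_wOf_inf P.hG P.hLj hKt.1 hKt.2.1 hK.1 hK.2.1 fun h => hw1 ?_
  have hmem : w ∈ wOf (K.map (MulAut.conj t).toMonoidHom) ⊓ wOf K := by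
    refine ⟨?_, hwK⟩
    rw [← map_wOf]
    exact ⟨w, hwK, by
      show t * w * t⁻¹ = w
      rw [Subgroup.mem_centralizer_iff.mp (hcent hw) t ht, mul_inv_cancel_right]⟩
  exact Subgroup.mem_bot.mp (h ▸ hmem)

end CfsgLib.JComp
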