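import Cfsg.Agent.JComp.Proper

/-!
The three possibilities for the centre of the Thompson subgroup of a largest straddler.
-/

set_option autoImplicit false

open Cfsg
open scoped Pointwise commutatorElement

namespace CfsgLib.JComp

variable {G : Type*} [Group G] [Finite G]

local instance : Fact (Nat.Prime 2) := ⟨Nat.prime_two⟩

theorem component_cases (S : Sylow 2 G) {M T : Subgroup G} (hG : ZN G) (hO : pCore 2 G = ⊥)
    (hMJ : Subgroup.normalizer (thompsonSubgroupOf 2 (S : Subgroup G) : Set G) ≤ M)
    (hT : T ∈ maxStraddlingTwoSubgroups M) (hTS : T ≤ (S : Subgroup G)) {K : Subgroup G}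
    (hK : K ∈ jComponentsOutside M T) {L : Subgroup G} (hLmax : IsMaximalTwoLocal L)
    (hKL : K ⊔ thompsonSubgroupOf 2 T ≤ L) :
    T ≤ Subgroup.normalizer (K : Set G) ∧
      ((omegaCenterOf (S : Subgroup G) = ZJ T ∧ Nat.card ↥(ZJ T) = 2) ∨
        (omegaCenterOf (S : Subgroup G) = ZJ T ∧ Nat.card ↥(ZJ T) = 4 ∧ T = (S : Subgroup G)) ∨
        (omegaCenterOf T = ZJ T ∧ Nat.card ↥(ZJ T) = 4 ∧
          (L ⊓ Subgroup.centralizer (ZJ T : Set G)).relIndex (Subgroup.normalizer (ZJ T : Set G)) = 2)) := by
  classical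
  obtain ⟨L₀, P, hKout, huq⟩ := exists_setup S hG hMJ hT hK
  obtain rfl := huq L hLmax hKL
  rcases eq_or_ne T (S : Subgroup G) with hTeq | hne
  · subst hTeq
    -- `T = S`
    have hsmall : (S : Subgroup G) ≤ Subgroup.normalizer (K : Set G) ∧
        ∀ a ∈ ctr (S : Subgroup G) K, ∀ b ∈ ctr (S : Subgroup G) K, a ≠ 1 → b ≠ 1 → a = b := by
      by_cases hNJ : Subgroup.normalizer (thompsonSubgroupOf 2 (S : Subgroup G) : Set G) ≤ L
      · obtain ⟨T', hT'⟩ := exists_maxStraddling (straddling_nonempty S P hO hNJ)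
        by_cases hS : (S : Subgroup G) ∈ straddlingTwoSubgroups L
        · have hSmax := sylow_maxStraddling S hS
          obtain ⟨K', hK'⟩ := exists_component_outside S hNJ hG hSmax
          obtain ⟨L', P', hK'out, -⟩ := exists_setup S hG hNJ hSmax hK'
          exact both_facts S P P' hKout hK'out
        · -- replace `T'` by a conjugate inside `S`
          obtain ⟨l, hl, hle⟩ := exists_sylowIn_ge_conj (sylowIn_of_sylow_le S P.T_le_L) hT'.1.1 hT'.1.2.2.1
          set T'' := T'.map (MulAut.conj l⁻¹).toMonoidHom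
          have hT'' : T'' ∈ maxStraddlingTwoSubgroups L := maxStraddling_conj hT' (inv_mem hl)
          have hT''S : T'' ≤ (S : Subgroup G) := by
            rintro _ ⟨x, hx, rfl⟩
            simpa [mul_assoc] using mem_map_conj.mp (hle hx)
          have hne' : T'' ≠ (S : Subgroup G) := fun h => hS (h ▸ hT''.1)
          obtain ⟨K', hK'⟩ := exists_component_outside S hNJ hG hT''
          obtain ⟨L', P', hK'out, -⟩ := exists_setup S hG hNJ hT'' hK'
          have huniq : ∀ X ∈ outComps M (S : Subgroup G) L, X = K := fun X hX =>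
            proper_unique S P hNJ P' hT''S hne' hK'out hX hKout
          have hSK := P.normalizer_of_unique hKout huniq
          refine ⟨hSK, ?_⟩
          obtain ⟨-, -, -, -, z, -, -, hzall, -, -⟩ := P'.lt_facts hT''S hne' hK'out
          have hbot : ctr (S : Subgroup G) K = ⊥ := by
            by_contra hB
            have hn : (S : Subgroup G) ≤ Subgroup.normalizer (ctr (S : Subgroup G) K : Set G) := fun s hs =>
              Subgroup.inf_normalizer_le_normalizer_inf
                ⟨P.normalizer_J_le_normalizer_ZJ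
                    (CfsgLib.LocalP.le_normalizer_thompsonSubgroupOf _ (Subgroup.le_normalizer hs)),
                  CfsgLib.Coprime.le_normalizer_centralizer hSK hs⟩
            obtain ⟨b, hb, hb1⟩ := (Subgroup.bot_or_exists_ne_one _).resolve_left
              (CfsgLib.LocalCharP.inf_centralizer_ne_bot (CfsgLib.LocalP.isPGroup_of_isElementaryAbelian
                (CfsgLib.LocalP.isElementaryAbelian_mono (omegaCenterOf_elem _) inf_le_left)) hB
                S.isPGroup' hn)
            have hbz : b = z := (hzall b (mem_omegaCenterOf.mpr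
              ⟨CfsgLib.LocalP.thompsonSubgroupOf_le _ (omegaCenterOf_le _ hb.1.1), hb.2,
                (mem_omegaCenterOf.mp hb.1.1).2.2⟩)).resolve_left hb1
            exact not_ctr_of_conj S.isPGroup' hKout.1 S (centralizer_le_of_unique hG hzall) hb.1.1 hb.1.2
              (m := 1) (by rw [hbz]; group)
          intro a ha b hb ha1
          rw [hbot, Subgroup.mem_bot] at ha
          exact absurd ha ha1
      · obtain ⟨g, hgJ, hgL⟩ := Set.not_subset.mp hNJ
        exact ⟨P.normalizer_of_unique hKout fun X hX => P.unique_of_moved hgJ hgL hKout hX,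
          P.ctr_small_of_moved hgJ hgL hKout⟩
    obtain ⟨hSK, hsm⟩ := hsmall
    refine ⟨hSK, ?_⟩
    have hcent := P.centralizes_ZJ hKout.1 hSK hsm
    have heq : omegaCenterOf (S : Subgroup G) = ZJ (S : Subgroup G) :=
      le_antisymm P.omegaCenter_T_le fun x hx => mem_omegaCenterOf.mpr
        ⟨CfsgLib.LocalP.thompsonSubgroupOf_le _ (omegaCenterOf_le _ hx), hcent hx,
          (mem_omegaCenterOf.mp hx).2.2⟩
    rcases P.card_ZJ hKout.1 hsm with h | h
    · exact Or.inl ⟨heq, h⟩
    · exact Or.inr (Or.inl ⟨heq, h, rfl⟩)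
  · obtain ⟨-, hTK, hOT, hsm, z, hz, hz1, hzall, -, hdesc⟩ := P.lt_facts hTS hne hKout
    refine ⟨hTK, ?_⟩
    have hzJ : z ∈ ZJ T := P.omegaCenter_S_le hTS hz
    rcases hdesc with hbot | ⟨h, g, hh, hh1, hhz, hgS, hgT, hne', hh'z, hk1, hall⟩
    · left
      obtain ⟨w, hw, -, hw1, -, hsplit, -⟩ := P.split hKout.1
      have hel := CfsgLib.LocalP.isElementaryAbelian_iff.mp (omegaCenterOf_elem (thompsonSubgroupOf 2 T))
      have h2 : ∀ x ∈ ZJ T, x = 1 ∨ x = w := fun x hx => by
        rcases hsplit x hx with h | h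
        · exact Or.inl (hbot x h)
        · exact Or.inr (mul_left_cancel ((hbot _ h).trans (by rw [← sq, hel.2 w hw])))
      have hzw : z = w := (h2 z hzJ).resolve_left hz1
      refine ⟨le_antisymm (P.omegaCenter_S_le hTS) fun x hx => ?_, ?_⟩
      · rcases h2 x hx with rfl | rfl
        · exact one_mem _
        · exact hzw ▸ hz
      · rcases P.card_ZJ hKout.1 hsm with h | h
        · exact h
        · exfalso
          have hsub : (ZJ T : Set G) ⊆ {1, w} := fun x hx => h2 x hx
          have h1 := Set.ncard_le_ncard hsub (Set.toFinite _)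
          rw [Set.ncard_pair (Ne.symm hw1), ← Nat.card_coe_set_eq] at h1
          have h1' : Nat.card ↥(ZJ T) ≤ 2 := h1
          omega
    · right; right
      set h' := g * h * g⁻¹ with hh'
      have hh'1 : h' ≠ 1 := fun e => hh1 (conj_eq_one_iff.mp e)
      refine ⟨hOT, ?_, ?_⟩
      · refine (P.card_ZJ hKout.1 hsm).resolve_left fun hc => ?_
        have hsub : ({1, h, h'} : Set G) ⊆ (ZJ T : Set G) := by
          rintro x (rfl | rfl | rfl)
          exacts [one_mem _, hh.1, hk1]
        have h1 := Set.ncard_le_ncard hsub (Set.toFinite _)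
        rw [Set.ncard_insert_of_notMem (by simp [Ne.symm hh1, Ne.symm hh'1]) (Set.toFinite _),
          Set.ncard_pair (Ne.symm hne'), ← Nat.card_coe_set_eq] at h1
        have h1' : 3 ≤ Nat.card ↥(ZJ T) := h1
        omega
      set N := Subgroup.normalizer (ZJ T : Set G) with hN
      set C := L ⊓ Subgroup.centralizer (ZJ T : Set G) with hC
      have hCz := centralizer_le_of_unique hG hzall
      -- nothing carries `h` or its image to `z`
      have hnoth : ∀ m : G, m * h * m⁻¹ ≠ z := fun m e =>
        not_ctr_of_conj P.Tp hKout.1 S hCz hh.1 hh.2 e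
      have hnoth' : ∀ m : G, m * h' * m⁻¹ ≠ z := fun m e =>
        hnoth (m * g) (by rw [← e, hh']; group)
      have hfixz : ∀ n ∈ N, n * z * n⁻¹ = z := by
        intro n hn
        rcases hall _ (conj_mem hn hzJ) with e | e | e | e
        · exact absurd (conj_eq_one_iff.mp e) hz1
        · exact absurd (show n⁻¹ * h * n⁻¹⁻¹ = z by rw [← e]; group) (hnoth n⁻¹)
        · exact absurd (show n⁻¹ * h' * n⁻¹⁻¹ = z by rw [← e]; group) (hnoth' n⁻¹)
        · exact e
      have hpair : ∀ n ∈ N, n * h * n⁻¹ = h ∨ n * h * n⁻¹ = h' := by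
        intro n hn
        rcases hall _ (conj_mem hn hh.1) with e | e | e | e
        · exact absurd (conj_eq_one_iff.mp e) hh1
        · exact Or.inl e
        · exact Or.inr e
        · exact absurd e (hnoth n)
      have hiff : ∀ n ∈ N, (n ∈ C ↔ n * h * n⁻¹ = h) := by
        intro n hn
        refine ⟨fun hc => mul_inv_eq_iff_eq_mul.mpr (Subgroup.mem_centralizer_iff.mp hc.2 h hh.1).symm, fun e => ?_⟩
        refine ⟨P.cent_le hKout hh hh1
          (Subgroup.mem_centralizer_singleton_iff.mpr (mul_inv_eq_iff_eq_mul.mp e)),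
          Subgroup.mem_centralizer_iff.mpr fun x hx => (mul_inv_eq_iff_eq_mul.mp ?_).symm⟩
        have e' : n * h' * n⁻¹ = h' := by
          rcases hall _ (conj_mem hn hk1) with e' | e' | e' | e'
          · exact absurd (conj_eq_one_iff.mp e') hh'1
          · exact absurd (mul_left_cancel (mul_right_cancel (e'.trans e.symm))) hne'
          · exact e'
          · exact absurd e' (hnoth' n)
        rcases hall x hx with rfl | rfl | rfl | rfl
        · group
        · exact e
        · exact e'
        · exact hfixz n hn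
      have hgN : g ∈ N := P.normalizer_J_le_normalizer_ZJ (CfsgLib.LocalP.le_normalizer_thompsonSubgroupOf T hgT)
      have hgz : g * z * g⁻¹ = z := hfixz g hgN
      have hgh' : g * h' * g⁻¹ = h := by
        rcases hall _ (conj_mem hgN hk1) with e | e | e | e
        · exact absurd (conj_eq_one_iff.mp e) hh'1
        · exact e
        · exact absurd (mul_left_cancel (mul_right_cancel (e.trans hh'))) hne'
        · exact absurd e (hnoth' g)
      rw [Subgroup.relIndex, Subgroup.index_eq_two_iff']
      refine ⟨⟨g, hgN⟩, fun b => ?_⟩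
      rw [Subgroup.mem_subgroupOf, Subgroup.mem_subgroupOf, hiff _ (g * (b : G) |> fun _ => (⟨g, hgN⟩ * b).2),
        hiff _ b.2]
      have e1 : g * (b : G) * h * (g * (b : G))⁻¹ = g * ((b : G) * h * (b : G)⁻¹) * g⁻¹ := by group
      show Xor (g * (b : G) * h * (g * (b : G))⁻¹ = h) _
      rw [e1]
      rcases hpair b b.2 with e | e
      · exact Or.inr ⟨e, by rw [e]; exact hne'⟩
      · exact Or.inl ⟨by rw [e, hgh'], by rw [e]; exact hne'⟩

/-- `T` normalizes every component outside `M`. -/
theorem normalizer_component_outside (S : Sylow 2 G) {M T : Subgroup G} (hG : ZN G) (hO : pCore 2 G = ⊥)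
    (hMJ : Subgroup.normalizer (thompsonSubgroupOf 2 (S : Subgroup G) : Set G) ≤ M)
    (hT : T ∈ maxStraddlingTwoSubgroups M) {K : Subgroup G} (hK : K ∈ jComponentsOutside M T) :
    T ≤ Subgroup.normalizer (K : Set G) := by
  obtain ⟨m, hm, hle⟩ := exists_sylowIn_ge_conj (sylowIn_of_sylow_le S (sylow_le_of_normalizer_J_le S hMJ))
    hT.1.1 hT.1.2.2.1
  let S₁ : Sylow 2 G := m • S
  have hS₁ : (S₁ : Subgroup G) = (S : Subgroup G).map (MulAut.conj m).toMonoidHom := rfl
  have hMJ₁ : Subgroup.normalizer (thompsonSubgroupOf 2 (S₁ : Subgroup G) : Set G) ≤ M := by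
    intro x hx
    rw [hS₁, J_map] at hx
    have h1 : m⁻¹ * x * m ∈ Subgroup.normalizer (thompsonSubgroupOf 2 (S : Subgroup G) : Set G) := by
      rw [Subgroup.mem_normalizer_iff] at hx ⊢
      intro y
      have h := hx (m * y * m⁻¹)
      rw [mem_map_conj, mem_map_conj] at h
      simpa [mul_assoc] using h
    simpa [mul_assoc] using mul_mem (mul_mem hm (hMJ h1)) (inv_mem hm)
  obtain ⟨L, h1, h2, -⟩ := exists_unique_maximal S₁ hMJ₁ hG hT hK
  exact (component_cases S₁ hG hO hMJ₁ hT (hS₁ ▸ hle) hK h1 h2).1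

end CfsgLib.JComp
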