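import Cfsg.Agent.JComp.Basic
import Cfsg.Agent.JComp.FFStructure
import Cfsg.Agent.LocalCharP.FrakH

/-!
The structure of an overgroup `L` of `T` in the family `jOvergroups T`: modulo `O₂(L)` the subgroup
generated by the conjugates of `J(T)` is a direct product of symmetric groups of degree 3.
-/

set_option autoImplicit false

open Cfsg
open scoped Pointwise commutatorElement

namespace CfsgLib.JComp

variable {G : Type*} [Group G] [Finite G]

local instance : Fact (Nat.Prime 2) := ⟨Nat.prime_two⟩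

/-- Generators of the 3-part and of the 2-part of the normal closure of `J(T)` in `L`, modulo `O₂(L)`. -/
structure LSystem (T L : Subgroup G) (r : ℕ) (τ g : Fin r → G) : Prop where
  pos : 0 < r
  τ_mem : ∀ i, τ i ∈ thompsonSubgroupOf 2 T
  g_mem : ∀ i, g i ∈ L
  g_not : ∀ i, g i ∉ Subgroup.centralizer (sylowCenterClosure 2 L : Set G)
  g_cube : ∀ i, g i ^ 3 ∈ pCoreOf 2 L
  inv : ∀ i, τ i * g i * (τ i)⁻¹ * g i ∈ pCoreOf 2 L
  comm_tg : ∀ i j, i ≠ j → ⁅τ i, g j⁆ ∈ pCoreOf 2 L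
  comm_gg : ∀ i j, ⁅g i, g j⁆ ∈ pCoreOf 2 L
  comm_tt : ∀ i j, ⁅τ i, τ j⁆ ∈ pCoreOf 2 L
  sep : ∀ i j, i ≠ j → g i ∉ pCoreOf 2 L ⊔ Subgroup.zpowers (g j)
  J_le : thompsonSubgroupOf 2 T ≤ pCoreOf 2 L ⊔ Subgroup.closure (Set.range τ)
  normal : L ≤ Subgroup.normalizer
    ((pCoreOf 2 L ⊔ Subgroup.closure (Set.range g) ⊔ thompsonSubgroupOf 2 T : Subgroup G) : Set G)
  factor : L ≤ (pCoreOf 2 L ⊔ Subgroup.closure (Set.range g) ⊔ thompsonSubgroupOf 2 T) ⊔
    (L ⊓ Subgroup.normalizer (thompsonSubgroupOf 2 T : Set G))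
  perm : ∀ n ∈ L ⊓ Subgroup.normalizer (thompsonSubgroupOf 2 T : Set G), ∀ i, ∃ j,
    n * g i * n⁻¹ ∈ pCoreOf 2 L ⊔ Subgroup.zpowers (g j)

section Hyp

variable {T L : Subgroup G}

theorem pCoreOf_le_T (hL : L ∈ jOvergroups T) : pCoreOf 2 L ≤ T := pCoreOf_le_sylowIn hL.1

theorem charP_of_mem (hL : L ∈ jOvergroups T) :
    Subgroup.centralizer (pCore 2 ↥L : Set ↥L) ≤ pCore 2 ↥L :=
  CfsgLib.LocalCharP.charP_of_inf_centralizer_le (inf_le_right.trans hL.2.2)

/-- The module attached to `L`: it is elementary abelian, central in `O₂(L)`, and contains `Ω₁Z(T)`. -/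
theorem module_le (hL : L ∈ jOvergroups T) :
    sylowCenterClosure 2 L ≤ pCoreOf 2 L ⊓ Subgroup.centralizer (pCoreOf 2 L : Set G) :=
  CfsgLib.LocalCharP.sylowCenterClosure_le_pCoreOf (charP_of_mem hL)

theorem omegaCenter_le_module (hL : L ∈ jOvergroups T) :
    omegaCenterOf T ≤ sylowCenterClosure 2 L := by
  obtain ⟨P, hP⟩ := exists_sylow_of_sylowIn hL.1
  intro z hz
  refine le_iSup (fun S : Sylow 2 ↥L => omegaOne 2 (((S : Subgroup ↥L).map L.subtype) ⊓
    Subgroup.centralizer (((S : Subgroup ↥L).map L.subtype : Subgroup G) : Set G))) P ?_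
  show z ∈ omegaCenterOf ((P : Subgroup ↥L).map L.subtype)
  rw [hP]
  exact hz

theorem moduleCentralizer_le_normalizer_sylow (hG : ZN G) (hL : L ∈ jOvergroups T) (S : Sylow 2 G)
    (hTS : T ≤ (S : Subgroup G)) :
    Subgroup.centralizer (sylowCenterClosure 2 L : Set G) ≤
      Subgroup.normalizer ((S : Subgroup G) : Set G) := by
  refine le_trans (Subgroup.centralizer_le ?_) (hG.cent S)
  exact (omegaCenter_le (pCoreOf_le_T hL) hTS hL.2.2).trans (omegaCenter_le_module hL)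

theorem moduleCentralizer_inf_T_le (hG : ZN G) (hL : L ∈ jOvergroups T) :
    L ⊓ Subgroup.centralizer (sylowCenterClosure 2 L : Set G) ⊓ T ≤ pCoreOf 2 L := by
  obtain ⟨S, hS⟩ := hL.1.2.1.exists_le_sylow
  set C := L ⊓ Subgroup.centralizer (sylowCenterClosure 2 L : Set G)
  have hLC : L ≤ Subgroup.normalizer (C : Set G) := fun l hl =>
    Subgroup.inf_normalizer_le_normalizer_inf ⟨Subgroup.le_normalizer hl,
      CfsgLib.Coprime.le_normalizer_centralizer (CfsgLib.LocalCharP.le_normalizer_sylowCenterClosure L) hl⟩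
  have h1 : C ⊓ (S : Subgroup G) ≤ pCoreOf 2 C :=
    CfsgLib.LocalCharP.le_pCoreOf inf_le_left (S.isPGroup'.to_le inf_le_right) fun c hc =>
      Subgroup.inf_normalizer_le_normalizer_inf ⟨Subgroup.le_normalizer hc,
        moduleCentralizer_le_normalizer_sylow hG hL S hS hc.2⟩
  have h2 : pCoreOf 2 C ≤ pCoreOf 2 L :=
    CfsgLib.LocalCharP.le_pCoreOf ((CfsgLib.LocalCharP.pCoreOf_le C).trans inf_le_left)
      (CfsgLib.LocalCharP.isPGroup_pCoreOf C)
      (hLC.trans (CfsgLib.LocalCharP.normalizer_le_normalizer_pCoreOf C))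
  exact fun x hx => h2 (h1 ⟨hx.1, hS hx.2⟩)

/-- The centralizer of the module commutes with `T` modulo `O₂(L)`. -/
theorem moduleCentralizer_commutator (hG : ZN G) (hL : L ∈ jOvergroups T) {c t : G}
    (hc : c ∈ L ⊓ Subgroup.centralizer (sylowCenterClosure 2 L : Set G)) (ht : t ∈ T) :
    c * t * c⁻¹ * t⁻¹ ∈ pCoreOf 2 L := by
  obtain ⟨S, hS⟩ := hL.1.2.1.exists_le_sylow
  set C := L ⊓ Subgroup.centralizer (sylowCenterClosure 2 L : Set G) with hC
  have hLC : L ≤ Subgroup.normalizer (C : Set G) := fun l hl =>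
    Subgroup.inf_normalizer_le_normalizer_inf ⟨Subgroup.le_normalizer hl,
      CfsgLib.Coprime.le_normalizer_centralizer (CfsgLib.LocalCharP.le_normalizer_sylowCenterClosure L) hl⟩
  have h1 : C ⊓ (S : Subgroup G) ≤ pCoreOf 2 C :=
    CfsgLib.LocalCharP.le_pCoreOf inf_le_left (S.isPGroup'.to_le inf_le_right) fun c hc =>
      Subgroup.inf_normalizer_le_normalizer_inf ⟨Subgroup.le_normalizer hc,
        moduleCentralizer_le_normalizer_sylow hG hL S hS hc.2⟩
  have h2 : pCoreOf 2 C ≤ pCoreOf 2 L :=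
    CfsgLib.LocalCharP.le_pCoreOf ((CfsgLib.LocalCharP.pCoreOf_le C).trans inf_le_left)
      (CfsgLib.LocalCharP.isPGroup_pCoreOf C)
      (hLC.trans (CfsgLib.LocalCharP.normalizer_le_normalizer_pCoreOf C))
  refine h2 (h1 ⟨?_, ?_⟩)
  · have h3 := conj_mem (hLC (hL.1.1 ht)) (inv_mem hc)
    have := mul_mem hc h3
    simpa [mul_assoc] using this
  · exact Subgroup.mul_mem _ (conj_mem (moduleCentralizer_le_normalizer_sylow hG hL S hS hc.2) (hS ht))
      (Subgroup.inv_mem _ (hS ht))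

theorem moduleCentralizer_le_normalizer_J (hG : ZN G) (hL : L ∈ jOvergroups T) :
    L ⊓ Subgroup.centralizer (sylowCenterClosure 2 L : Set G) ≤
      Subgroup.normalizer (thompsonSubgroupOf 2 T : Set G) := by
  refine le_trans (CfsgLib.LocalCharP.le_normalizer_of_conj_mem fun c hc t ht => ?_)
    (CfsgLib.LocalP.le_normalizer_thompsonSubgroupOf T)
  have h := mul_mem (pCoreOf_le_T hL (moduleCentralizer_commutator hG hL hc ht)) ht
  simpa [mul_assoc] using h

end Hyp

theorem exists_lSystem {T L : Subgroup G} (hG : ZN G) (hL : L ∈ jOvergroups T) :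
    ∃ (r : ℕ) (τ g : Fin r → G), LSystem T L r τ g := by
  classical
  set J := thompsonSubgroupOf 2 T with hJdef
  set V := sylowCenterClosure 2 L with hV
  set C := L ⊓ Subgroup.centralizer (V : Set G) with hC
  set Q := pCoreOf 2 L with hQ
  have hTL : T ≤ L := hL.1.1
  have hJT : J ≤ T := CfsgLib.LocalP.thompsonSubgroupOf_le T
  have hVQ : V ≤ Q := (module_le hL).trans inf_le_left
  have hVT : V ≤ T := hVQ.trans (pCoreOf_le_T hL)
  have hVel : IsElementaryAbelian 2 V :=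
    CfsgLib.LocalCharP.sylowCenterClosure_elementaryAbelian (charP_of_mem hL)
  have hLV : L ≤ Subgroup.normalizer (V : Set G) := CfsgLib.LocalCharP.le_normalizer_sylowCenterClosure L
  let φ : ↥L →* MulAut ↥V := V.normalizerMonoidHom.comp (Subgroup.inclusion hLV)
  have hφker : ∀ l : ↥L, φ l = 1 ↔ (l : G) ∈ C := by
    intro l
    rw [← MonoidHom.mem_ker]
    constructor
    · intro h
      have h' : Subgroup.inclusion hLV l ∈ (V.normalizerMonoidHom).ker := h
      rw [Subgroup.normalizerMonoidHom_ker] at h'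
      exact ⟨l.2, h'⟩
    · intro h
      show Subgroup.inclusion hLV l ∈ (V.normalizerMonoidHom).ker
      rw [Subgroup.normalizerMonoidHom_ker]
      exact h.2
  have hCT : ∀ x : G, x ∈ C → x ∈ T → x ∈ Q := fun x h1 h2 => moduleCentralizer_inf_T_le hG hL ⟨h1, h2⟩
  set J' := J.subgroupOf L with hJ'
  set Y : Subgroup ↥L := Subgroup.normalClosure (J' : Set ↥L) with hY
  have hJY : J' ≤ Y := Subgroup.le_normalClosure
  set X := Y.map φ with hX
  set J₀ := J'.map φ with hJ₀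
  have hYn : Y.Normal := Subgroup.normalClosure_normal
  -- Frattini
  have hfrat : ∀ l : ↥L, ∃ y ∈ Y, ∃ n : ↥L, (n : G) ∈ Subgroup.normalizer (J : Set G) ∧ l = y * n := by
    obtain ⟨P, hP⟩ := (((hL.1.2.1.to_le hJT).comap_of_injective L.subtype L.subtype_injective :
      IsPGroup 2 ↥J').comap_of_injective Y.subtype Y.subtype_injective :
      IsPGroup 2 ↥(J'.subgroupOf Y)).exists_le_sylow
    intro l
    have hl : l ∈ Subgroup.normalizer (((P : Subgroup ↥Y).map Y.subtype : Subgroup ↥L) : Set ↥L) ⊔ Y := by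
      rw [Sylow.normalizer_sup_eq_top P]; exact Subgroup.mem_top l
    rw [sup_comm] at hl
    have hl' : l ∈ (Y : Set ↥L) *
        (Subgroup.normalizer (((P : Subgroup ↥Y).map Y.subtype : Subgroup ↥L) : Set ↥L) : Set ↥L) := by
      rw [← Subgroup.coe_mul_of_right_le_normalizer_left Y _ (by
        rw [Subgroup.normalizer_eq_top_iff.mpr hYn]; exact le_top)]
      exact hl
    obtain ⟨y, hy, n, hn, rfl⟩ := hl'
    refine ⟨y, hy, n, ?_, rfl⟩
    set R := ((P : Subgroup ↥Y).map Y.subtype).map L.subtype with hR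
    have hJR : J ≤ R := fun j hj =>
      ⟨⟨j, hTL (hJT hj)⟩, ⟨⟨⟨j, hTL (hJT hj)⟩, hJY (show (⟨j, hTL (hJT hj)⟩ : ↥L) ∈ J' from hj)⟩,
        hP (show (⟨j, hTL (hJT hj)⟩ : ↥L) ∈ J' from hj), rfl⟩, rfl⟩
    have hJe := J_eq_of_sylowIn hL.1 (((P.isPGroup').map Y.subtype).map L.subtype)
      (Subgroup.map_subtype_le _) hJR
    show (n : G) ∈ Subgroup.normalizer (J : Set G)
    rw [hJdef, ← hJe]
    refine CfsgLib.LocalP.le_normalizer_thompsonSubgroupOf R ?_
    exact Subgroup.le_normalizer_map L.subtype ⟨n, hn, rfl⟩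
  -- hypotheses of the structure theorem
  have hsol : Group.IsSolvable ↥X := by
    haveI := hG.isSolvable hL
    exact CfsgLib.Coprime.isSolvable_map φ Y inferInstance
  have hJ₀X : J₀ ≤ X := Subgroup.map_mono hJY
  have hJ₀p : IsPGroup 2 ↥J₀ :=
    ((hL.1.2.1.to_le hJT).comap_of_injective L.subtype L.subtype_injective : IsPGroup 2 ↥J').map φ
  have hcore : pCore 2 ↥X = ⊥ := by
    set N := (pCore 2 ↥X).map X.subtype with hN
    have hNX : N ≤ X := Subgroup.map_subtype_le _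
    have hXn : φ.range ≤ Subgroup.normalizer (X : Set (MulAut ↥V)) := by
      rw [hX, MonoidHom.range_eq_map]
      refine (Subgroup.map_mono ?_).trans (Subgroup.le_normalizer_map φ)
      rw [Subgroup.normalizer_eq_top]
    have hNn : φ.range ≤ Subgroup.normalizer (N : Set (MulAut ↥V)) :=
      hXn.trans (CfsgLib.LocalCharP.normalizer_le_normalizer_pCoreOf X)
    set N' := (N.comap φ).map L.subtype with hN'
    have hN'L : N' ≤ L := Subgroup.map_subtype_le _
    have hLN' : L ≤ Subgroup.normalizer (N' : Set G) := by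
      refine CfsgLib.LocalCharP.le_normalizer_of_conj_mem fun l hl x hx => ?_
      obtain ⟨⟨x', hx'L⟩, hx', rfl⟩ := hx
      refine ⟨⟨l, hl⟩ * ⟨x', hx'L⟩ * ⟨l, hl⟩⁻¹, ?_, rfl⟩
      show φ _ ∈ N
      rw [map_mul, map_mul, map_inv]
      exact conj_mem (hNn ⟨_, rfl⟩) hx'
    have hCN' : C ≤ N' := fun c hc => ⟨⟨c, hc.1⟩, by
      show φ ⟨c, hc.1⟩ ∈ N
      rw [(hφker _).mpr hc]; exact one_mem _, rfl⟩
    have hT1 : IsSylowTwoIn (T ⊓ N') N' := sylowIn_inf_normal hL.1 hN'L hLN'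
    have hCn : C ≤ Subgroup.normalizer ((T ⊓ N' : Subgroup G) : Set G) := fun c hc => by
      refine Subgroup.inf_normalizer_le_normalizer_inf ⟨?_, hLN' hc.1⟩
      refine CfsgLib.LocalCharP.le_normalizer_of_conj_mem (L := C) (fun c hc t ht => ?_) hc
      have h := mul_mem (pCoreOf_le_T hL (moduleCentralizer_commutator hG hL hc ht)) ht
      simpa [mul_assoc] using h
    have hpow : ∀ x ∈ N', ∃ k : ℕ, x ^ 2 ^ k ∈ C := by
      rintro _ ⟨x, hx, rfl⟩
      obtain ⟨k, hk⟩ := (CfsgLib.LocalCharP.isPGroup_pCoreOf X : IsPGroup 2 ↥N) ⟨φ x, hx⟩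
      refine ⟨k, ?_⟩
      rw [← map_pow]
      exact (hφker (x ^ 2 ^ k)).mp (by rw [map_pow]; exact congrArg Subtype.val hk)
    have hindex : ∀ D : Subgroup G, C ≤ D → T ⊓ N' ≤ D → N' ≤ D := by
      intro D hCD hTD
      haveI : (C.subgroupOf N').Normal :=
        Subgroup.normal_subgroupOf_of_le_normalizer fun x hx =>
          Subgroup.inf_normalizer_le_normalizer_inf ⟨Subgroup.le_normalizer (hN'L hx),
            CfsgLib.Coprime.le_normalizer_centralizer hLV (hN'L hx)⟩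
      have hq : IsPGroup 2 (↥N' ⧸ C.subgroupOf N') := by
        intro q
        obtain ⟨x, rfl⟩ := QuotientGroup.mk'_surjective (C.subgroupOf N') q
        obtain ⟨k, hk⟩ := hpow x x.2
        exact ⟨k, by rw [← map_pow]; exact (QuotientGroup.eq_one_iff _).mpr hk⟩
      obtain ⟨k, hk⟩ := IsPGroup.iff_card.mp hq
      have h1 : Odd (D.relIndex N') := hT1.2.2.of_dvd_nat (Subgroup.relIndex_dvd_of_le_left N' hTD)
      have h2 : D.relIndex N' ∣ 2 ^ k := hk ▸ Subgroup.relIndex_dvd_of_le_left N' hCD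
      exact Subgroup.relIndex_eq_one.mp
        (Nat.Coprime.eq_one_of_dvd ((Nat.coprime_two_right.mpr h1).pow_right k) h2)
    have hD : N' ≤ Subgroup.normalizer ((T ⊓ N' : Subgroup G) : Set G) :=
      hindex _ hCn Subgroup.le_normalizer
    have hTN : T ⊓ N' ≤ C := by
      refine le_trans ?_ (show Q ≤ C from le_inf (CfsgLib.LocalCharP.pCoreOf_le L)
        (Subgroup.le_centralizer_iff.mp ((module_le hL).trans inf_le_right)))
      refine le_trans (CfsgLib.LocalCharP.le_pCoreOf inf_le_right hT1.2.1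
        hD) ?_
      exact CfsgLib.LocalCharP.le_pCoreOf ((CfsgLib.LocalCharP.pCoreOf_le _).trans hN'L)
        (CfsgLib.LocalCharP.isPGroup_pCoreOf _)
        (hLN'.trans (CfsgLib.LocalCharP.normalizer_le_normalizer_pCoreOf _))
    have hbot : N = ⊥ := by
      rw [eq_bot_iff]
      intro σ hσ
      obtain ⟨y, hy, rfl⟩ := hNX hσ
      have hyN : (y : G) ∈ N' := ⟨y, hσ, rfl⟩
      have : (y : G) ∈ C := hindex C le_rfl hTN hyN
      rw [(hφker y).mpr this]
      exact one_mem _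
    rwa [hN, Subgroup.map_eq_bot_iff_of_injective _ X.subtype_injective] at hbot
  let 𝒜 : Set (Subgroup (MulAut ↥V)) := {A' | ∃ A, MaxE T A ∧ A' = (A.subgroupOf L).map φ}
  have hJA : J₀ = sSup 𝒜 := by
    refine le_antisymm ?_ (sSup_le ?_)
    · have h : J ≤ ((sSup 𝒜).comap φ).map L.subtype := J_le_iff.mpr fun A hA a ha =>
        ⟨⟨a, hTL (hA.1 ha)⟩, (le_sSup (s := 𝒜) (a := (A.subgroupOf L).map φ) ⟨A, hA, rfl⟩)
          (Subgroup.mem_map_of_mem φ (show (⟨a, hTL (hA.1 ha)⟩ : ↥L) ∈ A.subgroupOf L from ha)), rfl⟩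
      rw [hJ₀, Subgroup.map_le_iff_le_comap]
      intro j hj
      obtain ⟨j', hj', he⟩ := h (show (j : G) ∈ J from hj)
      exact (L.subtype_injective he) ▸ hj'
    · rintro _ ⟨A, hA, rfl⟩
      exact Subgroup.map_mono (Subgroup.comap_mono (maxE_le_J hA))
  have hoff : ∀ A' ∈ 𝒜, IsElementaryAbelian 2 A' ∧
      Nat.card ↥V ≤ Nat.card A' * Nat.card ↥(fixAut A') := by
    rintro _ ⟨A, hA, rfl⟩
    have hAL : A ≤ L := hA.1.trans hTL
    refine ⟨CfsgLib.LocalP.isElementaryAbelian_map φ (CfsgLib.LocalP.isElementaryAbelian_of_map L.subtype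
      L.subtype_injective (by rw [Subgroup.map_subgroupOf_eq_of_le hAL]; exact hA.2.1)), ?_⟩
    have h1 := maxE_bound hA (inf_le_left : A ⊓ Subgroup.centralizer (V : Set G) ≤ A) hVT hVel
    rw [inf_eq_left.mpr (Subgroup.le_centralizer_iff.mp inf_le_right :
      V ≤ Subgroup.centralizer ((A ⊓ Subgroup.centralizer (V : Set G) : Subgroup G) : Set G))] at h1
    let ψ : ↥A →* MulAut ↥V := φ.comp (Subgroup.inclusion hAL)
    have hker : ψ.ker = (A ⊓ Subgroup.centralizer (V : Set G)).subgroupOf A := by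
      ext a
      rw [MonoidHom.mem_ker]
      exact (hφker _).trans ⟨fun h => ⟨a.2, h.2⟩, fun h => ⟨hAL a.2, h.2⟩⟩
    have hrange : ψ.range = (A.subgroupOf L).map φ := by
      ext σ
      constructor
      · rintro ⟨a, rfl⟩
        exact Subgroup.mem_map_of_mem φ (show Subgroup.inclusion hAL a ∈ A.subgroupOf L from a.2)
      · rintro ⟨l, hl, rfl⟩
        exact ⟨⟨l, hl⟩, rfl⟩
    have h2 : Nat.card ↥((A.subgroupOf L).map φ) * Nat.card ↥(A ⊓ Subgroup.centralizer (V : Set G)) =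
        Nat.card A := by
      have := ψ.ker.index_mul_card
      rw [Subgroup.index_ker, hrange, hker,
        Nat.card_congr (Subgroup.subgroupOfEquivOfLe (inf_le_left)).toEquiv] at this
      exact this
    have h3 : Nat.card ↥(V ⊓ Subgroup.centralizer (A : Set G)) ≤
        Nat.card ↥(fixAut ((A.subgroupOf L).map φ)) := by
      rw [← Nat.card_congr (Subgroup.subgroupOfEquivOfLe
        (inf_le_left : V ⊓ Subgroup.centralizer (A : Set G) ≤ V)).toEquiv]
      refine Subgroup.card_le_of_le ?_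
      rintro v hv _ ⟨a, ha, rfl⟩
      refine Subtype.ext ?_
      show (a : G) * (v : G) * (a : G)⁻¹ = v
      rw [show (a : G) * (v : G) = (v : G) * a from Subgroup.mem_centralizer_iff.mp hv.2 _ ha,
        mul_inv_cancel_right]
    rw [← h2] at h1
    refine Nat.le_of_mul_le_mul_left (show Nat.card ↥(A ⊓ Subgroup.centralizer (V : Set G)) * Nat.card ↥V ≤
      Nat.card ↥(A ⊓ Subgroup.centralizer (V : Set G)) * (Nat.card ↥((A.subgroupOf L).map φ) *
        Nat.card ↥(fixAut ((A.subgroupOf L).map φ))) from ?_) Nat.card_pos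
    calc _ ≤ _ := h1
      _ = Nat.card ↥(A ⊓ Subgroup.centralizer (V : Set G)) * (Nat.card ↥((A.subgroupOf L).map φ) *
          Nat.card ↥(V ⊓ Subgroup.centralizer (A : Set G))) := by ring
      _ ≤ _ := Nat.mul_le_mul_left _ (Nat.mul_le_mul_left _ h3)
  have hgen : ∀ N ≤ X, X ≤ Subgroup.normalizer (N : Set (MulAut ↥V)) → J₀ ≤ N → X ≤ N := by
    intro N _ hn hJN
    rw [hX, Subgroup.map_le_iff_le_comap, hY]
    refine (Subgroup.closure_le _).mpr fun z hz => ?_
    obtain ⟨j, hj, hjz⟩ := Group.mem_conjugatesOfSet_iff.mp hz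
    obtain ⟨c, rfl⟩ := isConj_iff.mp hjz
    obtain ⟨y, hy, n, hn', rfl⟩ := hfrat c
    show φ (y * n * j * (y * n)⁻¹) ∈ N
    have hjn : n * j * n⁻¹ ∈ J' := show ((n * j * n⁻¹ : ↥L) : G) ∈ J from conj_mem hn' hj
    rw [show y * n * j * (y * n)⁻¹ = y * (n * j * n⁻¹) * y⁻¹ by group, map_mul, map_mul, map_inv]
    exact conj_mem (hn (Subgroup.mem_map_of_mem φ hy)) (hJN (Subgroup.mem_map_of_mem φ hjn))
  obtain ⟨r, t, x, S⟩ := exists_s3System (W := ↥V)
    (fun v w => Subtype.ext ((CfsgLib.LocalP.isElementaryAbelian_iff.mp hVel).1 v v.2 w w.2))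
    (fun v => Subtype.ext ((CfsgLib.LocalP.isElementaryAbelian_iff.mp hVel).2 v v.2))
    X J₀ hsol hcore hJ₀p hJ₀X 𝒜 hJA hoff hgen
  choose τ hτJ hτ using fun i => S.mem i
  choose u huY hu using fun i => S.mem_x i
  haveI hQn : (pCore 2 ↥L).Normal := pCore_normal 2 ↥L
  set π := QuotientGroup.mk' (pCore 2 ↥L) with hπdef
  have hπ : ∀ l : ↥L, π l = 1 ↔ (l : G) ∈ Q := fun l =>
    (QuotientGroup.eq_one_iff l).trans ⟨fun h => ⟨l, h, rfl⟩, fun ⟨l', hl', he⟩ =>
      L.subtype_injective he ▸ hl'⟩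
  have hJcan : ∀ a b : ↥L, (a : G) ∈ T → (b : G) ∈ T → φ a = φ b → π a = π b := by
    intro a b ha hb hab
    have h1 : (((a⁻¹ * b : ↥L)) : G) ∈ C := (hφker _).mp (by rw [map_mul, map_inv, hab, inv_mul_cancel])
    have h2 := (hπ _).mpr (hCT _ h1 (mul_mem (inv_mem ha) hb))
    rw [map_mul, map_inv, inv_mul_eq_one] at h2
    exact h2
  have hcan : ∀ a v v' : ↥L, (a : G) ∈ T → φ v = φ v' → π ⁅a, v⁆ = π ⁅a, v'⁆ := by
    intro a v v' ha hv
    have hc : ((v⁻¹ * v' : ↥L) : G) ∈ C :=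
      (hφker _).mp (by rw [map_mul, map_inv, hv, inv_mul_cancel])
    have h1 := moduleCentralizer_commutator hG hL hc ha
    have h2 : π (v⁻¹ * v' * a * (v⁻¹ * v')⁻¹ * a⁻¹) = 1 := (hπ _).mpr (by simpa using h1)
    rw [map_mul, map_mul, map_mul, map_inv, map_inv] at h2
    have hcomm : Commute (π a) (π (v⁻¹ * v')) :=
      (mul_inv_eq_iff_eq_mul.mp (mul_inv_eq_one.mp h2)).symm
    have e : v' = v * (v⁻¹ * v') := by group
    conv_rhs => rw [e, map_commutatorElement, map_mul]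
    rw [map_commutatorElement, commutatorElement_def, commutatorElement_def]
    calc π a * π v * (π a)⁻¹ * (π v)⁻¹
        = π a * π v * ((π a)⁻¹ * π (v⁻¹ * v')) * (π (v⁻¹ * v'))⁻¹ * (π v)⁻¹ := by group
      _ = _ := by
          rw [(Commute.inv_left hcomm).eq]
          simp [mul_assoc]
  have hconjcan : ∀ (σ : ↥L) i j, π σ * π (τ i) * (π σ)⁻¹ = π (τ j) →
      π σ * π ⁅τ i, u i⁆ * (π σ)⁻¹ = π ⁅τ j, σ * u i * σ⁻¹⁆ := by
    intro σ i j h
    rw [map_commutatorElement, map_commutatorElement, map_mul, map_mul, map_inv, ← h]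
    exact conjugate_commutatorElement _ _ _
  set g := fun i => ⁅τ i, u i⁆ with hg
  have hτT : ∀ i, ((τ i : ↥L) : G) ∈ T := fun i => hJT (hτJ i)
  have hxg : ∀ i, φ (g i) = x i := fun i => by
    rw [hg, map_commutatorElement, hτ, hu, commutatorElement_def, S.inv]
    calc (x i)⁻¹ * (x i)⁻¹ = x i ^ 3 * ((x i)⁻¹ * (x i)⁻¹) := by rw [S.x_pow, one_mul]
      _ = x i := by group
  have hsq : ∀ i, π (τ i) * π (τ i) = 1 := fun i => by
    rw [← map_mul]
    refine (hπ _).mpr (hCT _ ((hφker _).mp ?_) (mul_mem (hτT i) (hτT i)))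
    rw [map_mul, hτ, S.t_sq]
  have htg : ∀ i, π (τ i) * π (g i) * (π (τ i))⁻¹ = π (g i) * π (g i) := fun i => by
    have h := hcan (τ i) (g i) (u i) (hτT i) (by rw [hxg, hu])
    rw [map_commutatorElement, commutatorElement_def] at h
    exact mul_inv_eq_iff_eq_mul.mp h
  have hcube : ∀ i, π (g i) ^ 3 = 1 := fun i => by
    have h4 : π (g i) = π (g i) * π (g i) * (π (g i) * π (g i)) := by
      calc π (g i) = (π (τ i) * π (τ i)) * π (g i) * (π (τ i) * π (τ i))⁻¹ := by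
            rw [hsq]; group
        _ = π (τ i) * (π (τ i) * π (g i) * (π (τ i))⁻¹) * (π (τ i))⁻¹ := by group
        _ = _ := by
            rw [htg]
            conv_rhs => rw [← htg]
            group
    calc π (g i) ^ 3 = (π (g i))⁻¹ * (π (g i) * π (g i) * (π (g i) * π (g i))) := by
          rw [mul_assoc (π (g i)), inv_mul_cancel_left, ← mul_assoc, pow_three]
          simp [mul_assoc]
      _ = 1 := by rw [← h4, inv_mul_cancel]
  have hinv : ∀ i, π (τ i * g i * (τ i)⁻¹ * g i) = 1 := fun i => by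
    rw [map_mul, map_mul, map_mul, map_inv, htg, ← pow_three', hcube]
  have hπcomm : ∀ a b : ↥L, π ⁅a, b⁆ = 1 ↔ π a * π b * (π a)⁻¹ = π b := fun a b => by
    rw [map_commutatorElement, commutatorElement_def, mul_inv_eq_one]
  have htt : ∀ i j, π (τ i) * π (τ j) * (π (τ i))⁻¹ = π (τ j) := fun i j => by
    rw [← map_inv, ← map_mul, ← map_mul]
    refine hJcan _ _ (mul_mem (mul_mem (hτT i) (hτT j)) (inv_mem (hτT i))) (hτT j) ?_
    rw [map_mul, map_mul, map_inv, hτ, hτ, (S.comm_tt i j).eq, mul_inv_cancel_right]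
  have htg' : ∀ i j, i ≠ j → π (τ i) * π (g j) * (π (τ i))⁻¹ = π (g j) := fun i j hij => by
    rw [hconjcan (τ i) j j (htt i j)]
    refine hcan _ _ _ (hτT j) ?_
    rw [map_mul, map_mul, map_inv, hτ, hu, (S.comm_tx i j hij).eq, mul_inv_cancel_right]
  have hgg : ∀ i j, π (g i) * π (g j) * (π (g i))⁻¹ = π (g j) := fun i j => by
    rcases eq_or_ne i j with rfl | hij
    · exact mul_inv_cancel_right _ _
    have h : π (g i) * π (τ j) * (π (g i))⁻¹ = π (τ j) := by
      have h1 := mul_inv_eq_iff_eq_mul.mp (htg' j i hij.symm)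
      rw [← h1, mul_inv_cancel_right]
    rw [hconjcan (g i) j j h]
    refine hcan _ _ _ (hτT j) ?_
    rw [map_mul, map_mul, map_inv, hxg, hu, (S.comm_xx i j).eq, mul_inv_cancel_right]
  set M0 : Subgroup ↥L := pCore 2 ↥L ⊔ Subgroup.closure (Set.range g) ⊔ J' with hM0
  have hperm : ∀ n : ↥L, (n : G) ∈ Subgroup.normalizer (J : Set G) → ∀ i, ∃ j,
      π (n * g i * n⁻¹) ∈ Subgroup.zpowers (π (g j)) := by
    intro n hn i
    have hσX : φ n ∈ Subgroup.normalizer (X : Set (MulAut ↥V)) := by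
      refine Subgroup.le_normalizer_map φ ⟨n, ?_, rfl⟩
      rw [Subgroup.normalizer_eq_top]; trivial
    have hσJ : φ n ∈ Subgroup.normalizer (J₀ : Set (MulAut ↥V)) := by
      refine Subgroup.le_normalizer_map φ ⟨n, ?_, rfl⟩
      exact Subgroup.mem_normalizer_iff.mpr fun z => Subgroup.mem_normalizer_iff.mp hn (z : G)
    obtain ⟨j, hjt, e, he⟩ := S.exists_perm hσX hσJ i
    refine ⟨j, e, ?_⟩
    show π (g j) ^ e = _
    have hτn : π n * π (τ i) * (π n)⁻¹ = π (τ j) := by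
      rw [← map_inv, ← map_mul, ← map_mul]
      refine hJcan _ _ (hJT (conj_mem hn (hτJ i))) (hτT j) ?_
      rw [map_mul, map_mul, map_inv, hτ, hτ, hjt]
    rw [map_mul, map_mul, map_inv, hconjcan n i j hτn,
      hcan (τ j) (n * u i * n⁻¹) (g j ^ e) (hτT j) (by rw [map_mul, map_mul, map_inv, hu, map_zpow, hxg]; exact he.symm),
      map_commutatorElement π (τ j) (g j ^ e), commutatorElement_def, map_zpow, ← conj_zpow, htg,
      (Commute.refl (π (g j))).mul_zpow, mul_inv_cancel_right]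
  have hgY : ∀ i, g i ∈ Y := fun i =>
    mul_mem (hYn.conj_mem _ (huY i) _) (inv_mem (huY i))
  have hYM : ∀ y ∈ Y, ∃ m ∈ M0, (((m⁻¹ * y : ↥L)) : G) ∈ C := by
    intro y hy
    have h : X ≤ M0.map φ := by
      rw [S.gen_X, Subgroup.closure_le]
      rintro _ (⟨i, rfl⟩ | ⟨i, rfl⟩)
      · exact ⟨τ i, Subgroup.mem_sup_right (hτJ i), hτ i⟩
      · exact ⟨g i, Subgroup.mem_sup_left (Subgroup.mem_sup_right (Subgroup.subset_closure ⟨i, rfl⟩)), hxg i⟩
    obtain ⟨m, hm, hme⟩ := h (Subgroup.mem_map_of_mem φ hy)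
    exact ⟨m, hm, (hφker _).mp (by rw [map_mul, map_inv, hme, inv_mul_cancel])⟩
  have hfact : ∀ l : ↥L, ∃ m ∈ M0, ∃ n : ↥L, (n : G) ∈ Subgroup.normalizer (J : Set G) ∧ l = m * n := by
    intro l
    obtain ⟨y, hy, n, hn, rfl⟩ := hfrat l
    obtain ⟨m, hm, hc⟩ := hYM y hy
    exact ⟨m, hm, m⁻¹ * y * n, mul_mem (moduleCentralizer_le_normalizer_J hG hL hc) hn, by group⟩
  have hM0n : ∀ (l : ↥L), ∀ z ∈ M0, l * z * l⁻¹ ∈ M0 := by
    intro l z hz
    obtain ⟨m, hm, n, hn, rfl⟩ := hfact l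
    have hle : M0 ≤ M0.comap (MulAut.conj n).toMonoidHom := by
      refine sup_le (sup_le ?_ ((Subgroup.closure_le _).mpr ?_)) ?_
      · exact fun q hq => Subgroup.mem_sup_left (Subgroup.mem_sup_left (hQn.conj_mem q hq n))
      · rintro _ ⟨i, rfl⟩
        obtain ⟨j, e, he⟩ := hperm n hn i
        show n * g i * n⁻¹ ∈ M0
        have he' : π (g j ^ e) = π (n * g i * n⁻¹) := by rw [map_zpow]; exact he
        rw [QuotientGroup.mk'_eq_mk'] at he'
        obtain ⟨q, hq, hqe⟩ := he'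
        rw [← hqe]
        exact mul_mem (Subgroup.mem_sup_left (Subgroup.mem_sup_right
          (zpow_mem (Subgroup.subset_closure (Set.mem_range_self j)) e)))
          (Subgroup.mem_sup_left (Subgroup.mem_sup_left hq))
      · exact fun j hj => Subgroup.mem_sup_right (show ((n * j * n⁻¹ : ↥L) : G) ∈ J from conj_mem hn hj)
    have h1 : n * z * n⁻¹ ∈ M0 := hle hz
    have h2 := mul_mem (mul_mem hm h1) (inv_mem hm)
    simpa [mul_assoc] using h2
  have hM0map : M0.map L.subtype = Q ⊔ Subgroup.closure (Set.range fun i => (g i : G)) ⊔ J := by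
    rw [hM0, Subgroup.map_sup, Subgroup.map_sup, MonoidHom.map_closure, ← Set.range_comp,
      Subgroup.map_subgroupOf_eq_of_le (hJT.trans hTL)]
    rfl
  refine ⟨r, fun i => (τ i : G), fun i => (g i : G), ?_, hτJ, fun i => (g i).2, ?_, ?_, ?_, ?_, ?_, ?_,
    ?_, ?_, ?_, ?_, ?_⟩
  · by_contra hr
    have hr0 : r = 0 := by omega
    subst hr0
    refine hL.2.1 fun j hj => hCT _ ((hφker ⟨j, hTL (hJT hj)⟩).mp ?_) (hJT hj)
    have h : φ ⟨j, hTL (hJT hj)⟩ ∈ J₀ := Subgroup.mem_map_of_mem φ (show _ ∈ J' from hj)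
    rw [S.gen_J, Set.range_eq_empty, Subgroup.closure_empty] at h
    exact h
  · intro i h
    exact S.x_ne i (by rw [← hxg]; exact (hφker _).mpr ⟨(g i).2, h⟩)
  · intro i
    exact (hπ (g i ^ 3)).mp (by rw [map_pow, hcube])
  · exact fun i => (hπ _).mp (hinv i)
  · exact fun i j hij => (hπ ⁅τ i, g j⁆).mp ((hπcomm _ _).mpr (htg' i j hij))
  · exact fun i j => (hπ ⁅g i, g j⁆).mp ((hπcomm _ _).mpr (hgg i j))
  · exact fun i j => (hπ ⁅τ i, τ j⁆).mp ((hπcomm _ _).mpr (htt i j))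
  · intro i j hij h
    have hle : Q ⊔ Subgroup.zpowers (g j : G) ≤ ((Subgroup.zpowers (x j)).comap φ).map L.subtype := by
      refine sup_le (fun q hq => ?_) (Subgroup.zpowers_le.mpr ⟨g j, ?_, rfl⟩)
      · refine ⟨⟨q, CfsgLib.LocalCharP.pCoreOf_le L hq⟩, ?_, rfl⟩
        show φ _ ∈ Subgroup.zpowers (x j)
        rw [(hφker _).mpr ⟨CfsgLib.LocalCharP.pCoreOf_le L hq,
          Subgroup.le_centralizer_iff.mp ((module_le hL).trans inf_le_right) hq⟩]
        exact one_mem _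
      · show φ (g j) ∈ Subgroup.zpowers (x j)
        rw [hxg]; exact Subgroup.mem_zpowers _
    obtain ⟨gi, ⟨e, he⟩, hgi⟩ := hle h
    obtain rfl : gi = g i := L.subtype_injective hgi
    rw [hxg] at he
    have hc : t i * x i * (t i)⁻¹ = x i := by
      rw [← he]
      rw [((S.comm_tx i j hij).zpow_right e).eq, mul_inv_cancel_right]
    rw [S.inv] at hc
    refine S.x_ne i ?_
    calc x i = x i ^ 3 * ((x i)⁻¹ * (x i)⁻¹) := by group
      _ = x i ^ 3 * ((x i)⁻¹ * x i) := by rw [hc]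
      _ = 1 := by rw [S.x_pow, inv_mul_cancel, one_mul]
  · intro j hj
    have h : φ ⟨j, hTL (hJT hj)⟩ ∈ J₀ := Subgroup.mem_map_of_mem φ (show _ ∈ J' from hj)
    rw [S.gen_J, ← funext hτ, show Subgroup.closure (Set.range fun i => φ (τ i)) =
      (Subgroup.closure (Set.range τ)).map φ by rw [MonoidHom.map_closure, ← Set.range_comp]; rfl] at h
    obtain ⟨w, hw, hwe⟩ := h
    have hwT : (w : G) ∈ T := by
      have hle : Subgroup.closure (Set.range τ) ≤ T.subgroupOf L :=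
        (Subgroup.closure_le _).mpr (by rintro _ ⟨i, rfl⟩; exact hτT i)
      exact hle hw
    have h1 : (w : G)⁻¹ * j ∈ Q := by
      refine (hπ (w⁻¹ * ⟨j, hTL (hJT hj)⟩)).mp ?_
      rw [map_mul, map_inv, inv_mul_eq_one]
      exact hJcan _ _ hwT (hJT hj) hwe
    have hwG : (w : G) ∈ Subgroup.closure (Set.range fun i => (τ i : G)) := by
      have := Subgroup.mem_map_of_mem L.subtype hw
      rwa [MonoidHom.map_closure, ← Set.range_comp] at this
    simpa using mul_mem (Subgroup.mem_sup_right (S := Q) hwG) (Subgroup.mem_sup_left h1)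
  · rw [← hM0map]
    refine CfsgLib.LocalCharP.le_normalizer_of_conj_mem fun l hl z hz => ?_
    obtain ⟨z', hz', rfl⟩ := hz
    exact ⟨_, hM0n ⟨l, hl⟩ z' hz', rfl⟩
  · intro l hl
    obtain ⟨m, hm, n, hn, he⟩ := hfact ⟨l, hl⟩
    have hl' : l = (m : G) * (n : G) := congrArg Subtype.val he
    rw [hl', ← hM0map]
    exact mul_mem (Subgroup.mem_sup_left ⟨m, hm, rfl⟩) (Subgroup.mem_sup_right ⟨n.2, hn⟩)
  · rintro n ⟨hnL, hn⟩ i
    obtain ⟨j, e, he⟩ := hperm ⟨n, hnL⟩ hn i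
    refine ⟨j, ?_⟩
    have he' : π (g j ^ e) = π (⟨n, hnL⟩ * g i * ⟨n, hnL⟩⁻¹) := by rw [map_zpow]; exact he
    rw [QuotientGroup.mk'_eq_mk'] at he'
    obtain ⟨q, hq, hqe⟩ := he'
    have hqe' : (g j : G) ^ e * (q : G) = n * (g i : G) * n⁻¹ := congrArg Subtype.val hqe
    rw [← hqe']
    exact mul_mem (Subgroup.mem_sup_right (zpow_mem (Subgroup.mem_zpowers _) e))
      (Subgroup.mem_sup_left ⟨q, hq, rfl⟩)

end CfsgLib.JComp
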