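import Cfsg.Agent.JComp.Basic
import Cfsg.Agent.JComp.System
import Cfsg.Agent.JComp.FixedBound

/-!
The subgroup `oddGen (O₂(L)⟨g⟩)` attached to an element `g` of order 3 modulo `O₂(L)` inverted by
`J(T)` is a `J(T)`-component; its four-group lies in the module of `L`.
-/

set_option autoImplicit false

open Cfsg
open scoped Pointwise commutatorElement

namespace CfsgLib.JComp

variable {G : Type*} [Group G] [Finite G]

local instance : Fact (Nat.Prime 2) := ⟨Nat.prime_two⟩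

/-- The subgroup attached to `g` in `L`. -/
def compOf (L : Subgroup G) (g : G) : Subgroup G := oddGen (pCoreOf 2 L ⊔ Subgroup.zpowers g)

/-- An element of order 3 modulo `O₂(L)`, nontrivial on the module, inverted by `J(T)`. -/
structure CompGen (T L : Subgroup G) (g : G) : Prop where
  hL : L ∈ jOvergroups T
  mem : g ∈ L
  cube : g ^ 3 ∈ pCoreOf 2 L
  notC : g ∉ Subgroup.centralizer (sylowCenterClosure 2 L : Set G)
  dich : ∀ j ∈ thompsonSubgroupOf 2 T,
    j * g * j⁻¹ * g⁻¹ ∈ pCoreOf 2 L ∨ j * g * j⁻¹ * g ∈ pCoreOf 2 L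
  ex_inv : ∃ j ∈ thompsonSubgroupOf 2 T, j * g * j⁻¹ * g ∈ pCoreOf 2 L

omit [Finite G] in
theorem mem_of_two_pow_cube {N : Subgroup G} {g : G} {m : ℕ} (h : g ^ 2 ^ m ∈ N) (h3 : g ^ 3 ∈ N) :
    g ∈ N := by
  induction m generalizing g with
  | zero => simpa using h
  | succ m ih =>
    have h2 : g ^ 2 ∈ N := by
      refine ih (g := g ^ 2) ?_ ?_
      · rwa [← pow_mul, ← pow_succ']
      · rw [← pow_mul, mul_comm, pow_mul]; exact pow_mem h3 2
    have := mul_mem (inv_mem h2) h3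
    simpa [pow_succ, mul_assoc] using this

omit [Finite G] in
theorem orderOf_pow_odd {g : G} {n : ℕ} (h : Odd (orderOf g)) : Odd (orderOf (g ^ n)) :=
  h.of_dvd_nat (orderOf_pow_dvd n)

/-- An element of odd order of `N R`, for a 2-group `R` normalizing `N`, lies in `N`. -/
theorem mem_of_odd_of_mem_sup {N R : Subgroup G} (hR : IsPGroup 2 ↥R)
    (hn : R ≤ Subgroup.normalizer (N : Set G)) {x : G} (hx : x ∈ N ⊔ R) (ho : Odd (orderOf x)) :
    x ∈ N := by
  set D := Subgroup.normalizer (N : Set G)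
  haveI : (N.subgroupOf D).Normal :=
    (Subgroup.normal_subgroupOf_iff_le_normalizer Subgroup.le_normalizer).mpr le_rfl
  have hxD : x ∈ D := sup_le Subgroup.le_normalizer hn hx
  have hx' : x ∈ (N : Set G) * (R : Set G) := by
    rw [← Subgroup.coe_mul_of_right_le_normalizer_left _ _ hn]; exact hx
  obtain ⟨a, ha, b, hb, rfl⟩ := hx'
  simp only [SetLike.mem_coe] at ha hb ⊢
  obtain ⟨e, he⟩ := hR ⟨b, hb⟩
  have he' : b ^ 2 ^ e = 1 := congrArg Subtype.val he
  refine mem_of_odd_of_pow_mem ho (k := e) ?_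
  set π := QuotientGroup.mk' (N.subgroupOf D)
  have h1 : π ⟨a * b, hxD⟩ ^ 2 ^ e = 1 := by
    rw [show (⟨a * b, hxD⟩ : ↥D) = ⟨a, Subgroup.le_normalizer ha⟩ * ⟨b, hn hb⟩ from rfl, map_mul,
      show π ⟨a, Subgroup.le_normalizer ha⟩ = 1 from (QuotientGroup.eq_one_iff _).mpr ha, one_mul,
      ← map_pow, show (⟨b, hn hb⟩ : ↥D) ^ 2 ^ e = 1 from Subtype.ext he', map_one]
  rw [← map_pow] at h1
  exact (QuotientGroup.eq_one_iff (N := N.subgroupOf D) _).mp h1

omit [Finite G] in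
theorem oddGen_oddGen (X : Subgroup G) : oddGen (oddGen X) = oddGen X :=
  le_antisymm (oddGen_le _) ((Subgroup.closure_le _).2 fun _ hx => mem_oddGen (mem_oddGen hx.1 hx.2) hx.2)

/-- In an elementary abelian group an element of cube trivial acting with `w = u · u^k` fixed moves nothing. -/
theorem shift_eq_one {k u : G} (h3 : k ^ 3 * u * (k ^ 3)⁻¹ = u)
    (hw : k * (u * (k * u * k⁻¹)) * k⁻¹ = u * (k * u * k⁻¹))
    (hcomm : (k * (k * u * k⁻¹) * k⁻¹) * (k * u * k⁻¹) = k * u * k⁻¹ * (k * (k * u * k⁻¹) * k⁻¹)) :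
    k * u * k⁻¹ = u := by
  have h1 : k * (k * u * k⁻¹) * k⁻¹ = u := by
    have e : k * (u * (k * u * k⁻¹)) * k⁻¹ = (k * u * k⁻¹) * (k * (k * u * k⁻¹) * k⁻¹) := by group
    rw [e, ← hcomm] at hw
    exact mul_right_cancel hw
  calc k * u * k⁻¹ = k * (k * (k * u * k⁻¹) * k⁻¹) * k⁻¹ := by rw [h1]
    _ = (k * k * k) * u * (k * k * k)⁻¹ := by group
    _ = u := by rw [← pow_three', h3]

namespace CompGen

variable {T L : Subgroup G} {g : G}

theorem Q_le_C (H : CompGen T L g) :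
    pCoreOf 2 L ≤ Subgroup.centralizer (sylowCenterClosure 2 L : Set G) :=
  Subgroup.le_centralizer_iff.mp ((module_le H.hL).trans inf_le_right)

theorem notQ (H : CompGen T L g) : g ∉ pCoreOf 2 L := fun h => H.notC (H.Q_le_C h)

theorem P_le (H : CompGen T L g) : pCoreOf 2 L ⊔ Subgroup.zpowers g ≤ L :=
  sup_le (CfsgLib.LocalCharP.pCoreOf_le L) (Subgroup.zpowers_le.mpr H.mem)

theorem comp_le_P (_H : CompGen T L g) : compOf L g ≤ pCoreOf 2 L ⊔ Subgroup.zpowers g := oddGen_le _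

theorem comp_le (H : CompGen T L g) : compOf L g ≤ L := H.comp_le_P.trans H.P_le

theorem exists_gen (H : CompGen T L g) :
    ∃ m : ℕ, Odd (orderOf (g ^ 2 ^ m)) ∧ g ^ 2 ^ m ∈ compOf L g ∧
      g ^ 2 ^ m ∉ Subgroup.centralizer (sylowCenterClosure 2 L : Set G) := by
  obtain ⟨m, hm⟩ := exists_odd_pow g
  exact ⟨m, hm, mem_oddGen (pow_mem (Subgroup.mem_sup_right (Subgroup.mem_zpowers g)) _) hm,
    fun h => H.notC (mem_of_two_pow_cube h (H.Q_le_C H.cube))⟩

/-- The odd-order generator of `compOf L g`. -/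
noncomputable def gen (H : CompGen T L g) : G := g ^ 2 ^ H.exists_gen.choose

theorem gen_odd (H : CompGen T L g) : Odd (orderOf H.gen) := H.exists_gen.choose_spec.1

theorem gen_mem (H : CompGen T L g) : H.gen ∈ compOf L g := H.exists_gen.choose_spec.2.1

theorem gen_notC (H : CompGen T L g) :
    H.gen ∉ Subgroup.centralizer (sylowCenterClosure 2 L : Set G) := H.exists_gen.choose_spec.2.2

theorem gen_notQ (H : CompGen T L g) : H.gen ∉ pCoreOf 2 L := fun h => H.gen_notC (H.Q_le_C h)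

theorem gen_cube (H : CompGen T L g) : H.gen ^ 3 ∈ pCoreOf 2 L := by
  rw [gen, ← pow_mul, mul_comm, pow_mul]
  exact pow_mem H.cube _

theorem gen_mem_L (H : CompGen T L g) : H.gen ∈ L := pow_mem H.mem _

theorem P_eq (H : CompGen T L g) :
    pCoreOf 2 L ⊔ Subgroup.zpowers g = pCoreOf 2 L ⊔ Subgroup.zpowers H.gen := by
  refine le_antisymm (sup_le le_sup_left (Subgroup.zpowers_le.mpr ?_))
    (sup_le le_sup_left (Subgroup.zpowers_le.mpr
      (Subgroup.mem_sup_right (pow_mem (Subgroup.mem_zpowers g) _))))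
  exact mem_of_two_pow_cube (m := H.exists_gen.choose)
    (Subgroup.mem_sup_right (Subgroup.mem_zpowers _)) (Subgroup.mem_sup_left H.cube)

theorem exists_rep (H : CompGen T L g) {x : G} (hx : x ∈ pCoreOf 2 L ⊔ Subgroup.zpowers g) :
    ∃ q ∈ pCoreOf 2 L, ∃ n : ℕ, x = q * H.gen ^ n := by
  rw [H.P_eq] at hx
  have hx' : x ∈ (pCoreOf 2 L : Set G) * (Subgroup.zpowers H.gen : Set G) := by
    rw [← Subgroup.coe_mul_of_right_le_normalizer_left _ _
      ((Subgroup.zpowers_le.mpr H.gen_mem_L).trans (CfsgLib.LocalCharP.le_normalizer_pCoreOf L))]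
    exact hx
  obtain ⟨q, hq, z, hz, rfl⟩ := hx'
  obtain ⟨n, rfl⟩ := (isOfFinOrder_of_finite H.gen).mem_powers_iff_mem_zpowers.mpr hz
  exact ⟨q, hq, n, rfl⟩

theorem exists_rep_comp (H : CompGen T L g) {x : G} (hx : x ∈ compOf L g) :
    ∃ q ∈ compOf L g ⊓ pCoreOf 2 L, ∃ n : ℕ, x = q * H.gen ^ n := by
  obtain ⟨q, hq, n, rfl⟩ := H.exists_rep (H.comp_le_P hx)
  exact ⟨q, ⟨by simpa using mul_mem hx (inv_mem (pow_mem H.gen_mem n)), hq⟩, n, rfl⟩

theorem P_le_normalizer (_H : CompGen T L g) :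
    pCoreOf 2 L ⊔ Subgroup.zpowers g ≤ Subgroup.normalizer (compOf L g : Set G) :=
  Subgroup.le_normalizer.trans (normalizer_le_normalizer_oddGen _)

theorem J_le_normalizer (H : CompGen T L g) :
    thompsonSubgroupOf 2 T ≤ Subgroup.normalizer (compOf L g : Set G) := by
  refine le_trans ?_ (normalizer_le_normalizer_oddGen _)
  have hJL : ∀ j ∈ thompsonSubgroupOf 2 T, j ∈ L := fun j hj =>
    H.hL.1.1 (CfsgLib.LocalP.thompsonSubgroupOf_le T hj)
  refine CfsgLib.LocalCharP.le_normalizer_of_conj_mem fun j hj x hx => ?_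
  have hle : pCoreOf 2 L ⊔ Subgroup.zpowers g ≤
      (pCoreOf 2 L ⊔ Subgroup.zpowers g).comap (MulAut.conj j).toMonoidHom := by
    refine sup_le (fun q hq => Subgroup.mem_sup_left
      (conj_mem (CfsgLib.LocalCharP.le_normalizer_pCoreOf L (hJL j hj)) hq)) (Subgroup.zpowers_le.mpr ?_)
    show j * g * j⁻¹ ∈ pCoreOf 2 L ⊔ Subgroup.zpowers g
    rcases H.dich j hj with h | h
    · simpa [mul_assoc] using
        mul_mem (Subgroup.mem_sup_left h) (Subgroup.mem_sup_right (Subgroup.mem_zpowers g))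
    · simpa [mul_assoc] using
        mul_mem (Subgroup.mem_sup_left h) (Subgroup.mem_sup_right (inv_mem (Subgroup.mem_zpowers g)))
  exact hle hx

theorem pCore_eq (H : CompGen T L g) :
    pCoreOf 2 (compOf L g) = compOf L g ⊓ pCoreOf 2 L := by
  set K := compOf L g
  set Q := pCoreOf 2 L
  refine le_antisymm (fun y hy => ⟨CfsgLib.LocalCharP.pCoreOf_le K hy, ?_⟩)
    (CfsgLib.LocalCharP.le_pCoreOf inf_le_left
      ((CfsgLib.LocalCharP.isPGroup_pCoreOf L).to_le inf_le_right) fun x hx =>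
        Subgroup.inf_normalizer_le_normalizer_inf ⟨Subgroup.le_normalizer hx,
          CfsgLib.LocalCharP.le_normalizer_pCoreOf L (H.comp_le hx)⟩)
  obtain ⟨q, hq, n, rfl⟩ := H.exists_rep (H.comp_le_P (CfsgLib.LocalCharP.pCoreOf_le K hy))
  have hR : IsPGroup 2 ↥(pCoreOf 2 K ⊔ Q) :=
    (CfsgLib.LocalCharP.isPGroup_pCoreOf K).to_sup_of_normal_right'
      (CfsgLib.LocalCharP.isPGroup_pCoreOf L)
      ((CfsgLib.LocalCharP.pCoreOf_le K).trans (H.comp_le.trans (CfsgLib.LocalCharP.le_normalizer_pCoreOf L)))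
  have h1 : H.gen ^ n = 1 := eq_one_of_odd hR (by
    simpa [mul_assoc] using mul_mem (inv_mem (Subgroup.mem_sup_right (S := pCoreOf 2 K) hq))
      (Subgroup.mem_sup_left (T := Q) hy)) (orderOf_pow_odd H.gen_odd)
  rw [h1, mul_one]
  exact hq

theorem relIndex_eq (H : CompGen T L g) : (pCoreOf 2 (compOf L g)).relIndex (compOf L g) = 3 := by
  rw [H.pCore_eq]
  set K := compOf L g
  set N := (K ⊓ pCoreOf 2 L).subgroupOf K with hN
  haveI hn : N.Normal := Subgroup.normal_subgroupOf_of_le_normalizer fun x hx =>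
    Subgroup.inf_normalizer_le_normalizer_inf ⟨Subgroup.le_normalizer hx,
      CfsgLib.LocalCharP.le_normalizer_pCoreOf L (H.comp_le hx)⟩
  set π := QuotientGroup.mk' N
  have hgen : ∀ y : ↥K ⧸ N, y ∈ Subgroup.zpowers (π ⟨H.gen, H.gen_mem⟩) := by
    intro y
    obtain ⟨⟨x, hx⟩, rfl⟩ := QuotientGroup.mk'_surjective N y
    obtain ⟨q, hq, n, rfl⟩ := H.exists_rep_comp hx
    have hqK : q ∈ K := hq.1
    rw [show (⟨q * H.gen ^ n, hx⟩ : ↥K) = ⟨q, hqK⟩ * ⟨H.gen, H.gen_mem⟩ ^ n from rfl, map_mul,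
      show π ⟨q, hqK⟩ = 1 from (QuotientGroup.eq_one_iff _).mpr hq, one_mul, map_pow]
    exact Subgroup.npow_mem_zpowers _ n
  rw [Subgroup.relIndex, ← hN, Subgroup.index, ← orderOf_eq_card_of_forall_mem_zpowers hgen]
  haveI : Fact (Nat.Prime 3) := ⟨Nat.prime_three⟩
  refine orderOf_eq_prime ?_ fun h => H.gen_notQ ((QuotientGroup.eq_one_iff _).mp h).2
  rw [← map_pow]
  exact (QuotientGroup.eq_one_iff _).mpr ⟨pow_mem H.gen_mem 3, H.gen_cube⟩

/-- An element inverting `g` modulo `O₂(L)` inverts the generator. -/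
theorem conj_gen_inv (H : CompGen T L g) {j : G} (hj : j ∈ L) (h : j * g * j⁻¹ * g ∈ pCoreOf 2 L) :
    j * H.gen * j⁻¹ * H.gen ∈ pCoreOf 2 L := by
  have key : ∀ n : ℕ, j * g ^ n * j⁻¹ * g ^ n ∈ pCoreOf 2 L := by
    intro n
    induction n with
    | zero => simp
    | succ n ih =>
      have h1 : g⁻¹ * (j * g ^ n * j⁻¹ * g ^ n) * g ∈ pCoreOf 2 L := by
        simpa using conj_mem (CfsgLib.LocalCharP.le_normalizer_pCoreOf L (inv_mem H.mem)) ih
      have := mul_mem h h1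
      have e : j * g ^ (n + 1) * j⁻¹ * g ^ (n + 1) =
          j * g * j⁻¹ * g * (g⁻¹ * (j * g ^ n * j⁻¹ * g ^ n) * g) := by
        calc _ = j * (g * g ^ n) * j⁻¹ * (g ^ n * g) := by rw [← pow_succ', ← pow_succ]
          _ = _ := by group
      rwa [e]
  exact key _

theorem commutator_eq (H : CompGen T L g) :
    ⁅compOf L g, thompsonSubgroupOf 2 T⁆ = compOf L g := by
  set K := compOf L g with hK
  set N := ⁅K, thompsonSubgroupOf 2 T⁆ with hN
  have hNK : N ≤ K := Subgroup.le_normalizer_iff_commutator_le_left.mp H.J_le_normalizer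
  refine le_antisymm hNK ?_
  have hKN : K ≤ Subgroup.normalizer (N : Set G) := by
    refine CfsgLib.LocalCharP.le_normalizer_of_conj_mem fun x hx y hy => ?_
    have hle : N ≤ N.comap (MulAut.conj x).toMonoidHom := Subgroup.commutator_le.mpr fun k hk j hj => by
      show x * ⁅k, j⁆ * x⁻¹ ∈ N
      have e : x * ⁅k, j⁆ * x⁻¹ = ⁅x * k, j⁆ * ⁅x, j⁆⁻¹ := by
        simp only [commutatorElement_def]; group
      rw [e]
      exact mul_mem (Subgroup.commutator_mem_commutator (mul_mem hx hk) hj)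
        (inv_mem (Subgroup.commutator_mem_commutator hx hj))
    exact hle hy
  obtain ⟨j, hj, hjg⟩ := H.ex_inv
  have hjL : j ∈ L := H.hL.1.1 (CfsgLib.LocalP.thompsonSubgroupOf_le T hj)
  set q := j * H.gen * j⁻¹ * H.gen with hq
  have hqQ : q ∈ pCoreOf 2 L := H.conj_gen_inv hjL hjg
  have hqK : q ∈ K := mul_mem (conj_mem (H.J_le_normalizer hj) H.gen_mem) H.gen_mem
  set O := K ⊓ pCoreOf 2 L with hO
  have hk2 : H.gen ^ 2 ∈ N ⊔ O := by
    have e : H.gen ^ 2 = ⁅H.gen, j⁆ * q := by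
      rw [hq, commutatorElement_def, sq]; group
    rw [e]
    exact mul_mem (Subgroup.mem_sup_left (Subgroup.commutator_mem_commutator H.gen_mem hj))
      (Subgroup.mem_sup_right ⟨hqK, hqQ⟩)
  have hgen : H.gen ∈ N ⊔ O := by
    refine mem_of_two_pow_cube (m := 1) (by rwa [pow_one]) ?_
    exact Subgroup.mem_sup_right ⟨pow_mem H.gen_mem 3, H.gen_cube⟩
  refine (Subgroup.closure_le _).mpr ?_
  rintro x ⟨hxP, ho⟩
  obtain ⟨q', hq', n, rfl⟩ := H.exists_rep_comp (mem_oddGen hxP ho)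
  exact mem_of_odd_of_mem_sup ((CfsgLib.LocalCharP.isPGroup_pCoreOf L).to_le inf_le_right)
    (inf_le_left.trans hKN) (mul_mem (Subgroup.mem_sup_right hq') (pow_mem hgen n)) ho

/-! ### The four-group -/

theorem U_le_T (H : CompGen T L g) : omegaCenterOf (pCoreOf 2 (compOf L g)) ≤ T := by
  refine (omegaCenterOf_le _).trans ?_
  rw [H.pCore_eq]
  exact inf_le_right.trans (pCoreOf_le_T H.hL)

theorem conj_U (H : CompGen T L g) {x u : G} (hx : x ∈ compOf L g)
    (hu : u ∈ omegaCenterOf (pCoreOf 2 (compOf L g))) :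
    x * u * x⁻¹ ∈ omegaCenterOf (pCoreOf 2 (compOf L g)) :=
  conj_mem (normalizer_le_normalizer_omegaCenterOf _
    (CfsgLib.LocalCharP.le_normalizer_pCoreOf _ hx)) hu

theorem core_fix (H : CompGen T L g) {q u : G} (hq : q ∈ compOf L g ⊓ pCoreOf 2 L)
    (hu : u ∈ omegaCenterOf (pCoreOf 2 (compOf L g))) : q * u * q⁻¹ = u := by
  rw [← H.pCore_eq] at hq
  exact mul_inv_eq_iff_eq_mul.mpr (omegaCenterOf_comm hu hq).symm

theorem cube_fix (H : CompGen T L g) {u : G} (hu : u ∈ omegaCenterOf (pCoreOf 2 (compOf L g))) :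
    H.gen ^ 3 * u * (H.gen ^ 3)⁻¹ = u :=
  H.core_fix ⟨pow_mem H.gen_mem 3, H.gen_cube⟩ hu

omit [Finite G] in
theorem elem_inv {A : Subgroup G} (hA : IsElementaryAbelian 2 A) {a : G} (ha : a ∈ A) : a⁻¹ = a := by
  have h := (CfsgLib.LocalP.isElementaryAbelian_iff.mp hA).2 a ha
  rw [sq] at h
  exact (eq_inv_of_mul_eq_one_left h).symm

/-- Every element of the four-group is `u · u^k`. -/
theorem mem_wOf (H : CompGen T L g) {w : G} (hw : w ∈ wOf (compOf L g)) :
    ∃ u ∈ omegaCenterOf (pCoreOf 2 (compOf L g)), w = u * (H.gen * u * H.gen⁻¹) := by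
  set U := omegaCenterOf (pCoreOf 2 (compOf L g)) with hU
  have hel := omegaCenterOf_elem (pCoreOf 2 (compOf L g))
  have hab := (CfsgLib.LocalP.isElementaryAbelian_iff.mp hel).1
  let S : Subgroup G :=
    { carrier := {w | ∃ u ∈ U, w = u * (H.gen * u * H.gen⁻¹)}
      one_mem' := ⟨1, one_mem _, by simp⟩
      mul_mem' := by
        rintro _ _ ⟨u, hu, rfl⟩ ⟨v, hv, rfl⟩
        refine ⟨u * v, mul_mem hu hv, ?_⟩
        have hku := H.conj_U H.gen_mem hu
        calc u * (H.gen * u * H.gen⁻¹) * (v * (H.gen * v * H.gen⁻¹))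
            = u * ((H.gen * u * H.gen⁻¹) * v) * (H.gen * v * H.gen⁻¹) := by group
          _ = u * (v * (H.gen * u * H.gen⁻¹)) * (H.gen * v * H.gen⁻¹) := by rw [hab _ hku v hv]
          _ = _ := by group
      inv_mem' := by
        rintro _ ⟨u, hu, rfl⟩
        exact ⟨u, hu, elem_inv hel (mul_mem hu (H.conj_U H.gen_mem hu))⟩ }
  have hpow : ∀ n : ℕ, ∀ u ∈ U, u * (H.gen ^ n * u * (H.gen ^ n)⁻¹) ∈ S := by
    intro n
    induction n with
    | zero =>
      intro u hu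
      refine ⟨1, one_mem _, ?_⟩
      simp only [pow_zero, inv_one, one_mul, mul_one, mul_inv_cancel]
      rw [← sq]
      exact (CfsgLib.LocalP.isElementaryAbelian_iff.mp hel).2 u hu
    | succ n ih =>
      intro u hu
      set u' := H.gen ^ n * u * (H.gen ^ n)⁻¹ with hu'def
      have hu' : u' ∈ U := H.conj_U (pow_mem H.gen_mem n) hu
      have hu2 : u' * u' = 1 := by
        rw [← sq]; exact (CfsgLib.LocalP.isElementaryAbelian_iff.mp hel).2 u' hu'
      have e : u * (H.gen ^ (n + 1) * u * (H.gen ^ (n + 1))⁻¹) =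
          u * u' * (u' * (H.gen * u' * H.gen⁻¹)) := by
        calc _ = u * (H.gen * u' * H.gen⁻¹) := by rw [hu'def, pow_succ']; group
          _ = u * (u' * u') * (H.gen * u' * H.gen⁻¹) := by rw [hu2, mul_one]
          _ = _ := by group
      rw [e]
      exact mul_mem (ih u hu) ⟨u', hu', rfl⟩
  have hle : wOf (compOf L g) ≤ S := Subgroup.commutator_le.mpr fun u hu x hx => by
    obtain ⟨q, hq, n, rfl⟩ := H.exists_rep_comp hx
    have hu' : H.gen ^ n * u⁻¹ * (H.gen ^ n)⁻¹ ∈ U := H.conj_U (pow_mem H.gen_mem n) (inv_mem hu)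
    have e : ⁅u, q * H.gen ^ n⁆ = u * (q * (H.gen ^ n * u⁻¹ * (H.gen ^ n)⁻¹) * q⁻¹) := by
      rw [commutatorElement_def]; group
    rw [e, H.core_fix hq hu', elem_inv hel hu]
    exact hpow n u hu
  exact hle hw

theorem w_mem_wOf (H : CompGen T L g) {u : G} (hu : u ∈ omegaCenterOf (pCoreOf 2 (compOf L g))) :
    u * (H.gen * u * H.gen⁻¹) ∈ wOf (compOf L g) := by
  have hel := omegaCenterOf_elem (pCoreOf 2 (compOf L g))
  have h : ⁅u, H.gen⁆ ∈ wOf (compOf L g) := Subgroup.commutator_mem_commutator hu H.gen_mem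
  have e : ⁅u, H.gen⁆ = u * (H.gen * u * H.gen⁻¹) := by
    rw [commutatorElement_def]
    calc u * H.gen * u⁻¹ * H.gen⁻¹ = u * (H.gen * u⁻¹ * H.gen⁻¹) := by group
      _ = _ := by rw [elem_inv hel hu]
  rwa [e] at h

theorem wOf_le_U (H : CompGen T L g) :
    wOf (compOf L g) ≤ omegaCenterOf (pCoreOf 2 (compOf L g)) := fun w hw => by
  obtain ⟨u, hu, rfl⟩ := H.mem_wOf hw
  exact mul_mem hu (H.conj_U H.gen_mem hu)

theorem wOf_elem (H : CompGen T L g) : IsElementaryAbelian 2 (wOf (compOf L g)) :=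
  CfsgLib.LocalP.isElementaryAbelian_mono (omegaCenterOf_elem _) H.wOf_le_U

theorem wOf_le_T (H : CompGen T L g) : wOf (compOf L g) ≤ T := H.wOf_le_U.trans H.U_le_T

theorem gen_fpf (H : CompGen T L g) {w : G} (hw : w ∈ wOf (compOf L g))
    (h : H.gen * w * H.gen⁻¹ = w) : w = 1 := by
  obtain ⟨u, hu, rfl⟩ := H.mem_wOf hw
  have hel := CfsgLib.LocalP.isElementaryAbelian_iff.mp (omegaCenterOf_elem (pCoreOf 2 (compOf L g)))
  have h1 := H.conj_U H.gen_mem hu
  rw [shift_eq_one (H.cube_fix hu) h (hel.1 _ (H.conj_U H.gen_mem h1) _ h1), ← sq]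
  exact hel.2 u hu

theorem conj_wOf (H : CompGen T L g) {x : G} (hx : x ∈ Subgroup.normalizer (compOf L g : Set G)) :
    x ∈ Subgroup.normalizer (wOf (compOf L g) : Set G) := by
  have h1 : x ∈ Subgroup.normalizer (omegaCenterOf (pCoreOf 2 (compOf L g)) : Set G) :=
    normalizer_le_normalizer_omegaCenterOf _ (CfsgLib.LocalCharP.normalizer_le_normalizer_pCoreOf _ hx)
  rw [Subgroup.mem_normalizer_iff_map_conj_eq] at h1 hx ⊢
  rw [wOf, Subgroup.map_commutator, h1, hx]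

/-- The module elements moved by the generator give elements of the four-group. -/
theorem module_mem_wOf (H : CompGen T L g) {v : G} (hv : v ∈ sylowCenterClosure 2 L) :
    v * (H.gen * v * H.gen⁻¹) ∈ omegaCenterOf (pCoreOf 2 (compOf L g)) := by
  set V := sylowCenterClosure 2 L
  have hVel : IsElementaryAbelian 2 V :=
    CfsgLib.LocalCharP.sylowCenterClosure_elementaryAbelian (charP_of_mem H.hL)
  have hkv : H.gen * v * H.gen⁻¹ ∈ V :=
    conj_mem (CfsgLib.LocalCharP.le_normalizer_sylowCenterClosure L H.gen_mem_L) hv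
  have hvQ : v ∈ pCoreOf 2 L := (module_le H.hL hv).1
  have hmem : v * (H.gen * v * H.gen⁻¹) ∈ V := mul_mem hv hkv
  have hK : v * (H.gen * v * H.gen⁻¹) ∈ compOf L g := by
    have h1 : v * H.gen * v⁻¹ ∈ compOf L g :=
      conj_mem (H.P_le_normalizer (Subgroup.mem_sup_left hvQ)) H.gen_mem
    have e : v * (H.gen * v * H.gen⁻¹) = v * H.gen * v⁻¹ * H.gen⁻¹ := by
      rw [elem_inv hVel hv]; group
    rw [e]
    exact mul_mem h1 (inv_mem H.gen_mem)
  refine mem_omegaCenterOf.mpr ⟨?_, ?_, (CfsgLib.LocalP.isElementaryAbelian_iff.mp hVel).2 _ hmem⟩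
  · rw [H.pCore_eq]; exact ⟨hK, (module_le H.hL hmem).1⟩
  · rw [H.pCore_eq]
    exact Subgroup.centralizer_le inf_le_right (module_le H.hL hmem).2

theorem commutator_module (H : CompGen T L g) {v : G} (hv : v ∈ sylowCenterClosure 2 L) :
    v * (H.gen * v * H.gen⁻¹) ∈ wOf (compOf L g) := by
  set k := H.gen
  set V := sylowCenterClosure 2 L
  have hel := CfsgLib.LocalP.isElementaryAbelian_iff.mp
    (CfsgLib.LocalCharP.sylowCenterClosure_elementaryAbelian (charP_of_mem H.hL) : IsElementaryAbelian 2 V)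
  have hn := CfsgLib.LocalCharP.le_normalizer_sylowCenterClosure (p := 2) L H.gen_mem_L
  have hkv : k * v * k⁻¹ ∈ V := conj_mem hn hv
  have hkkv : k * (k * v * k⁻¹) * k⁻¹ ∈ V := conj_mem hn hkv
  have h3 : k * (k * (k * v * k⁻¹) * k⁻¹) * k⁻¹ = v := by
    calc k * (k * (k * v * k⁻¹) * k⁻¹) * k⁻¹ = (k * k * k) * v * (k * k * k)⁻¹ := by group
      _ = k ^ 3 * v * (k ^ 3)⁻¹ := by rw [pow_three']
      _ = v := mul_inv_eq_iff_eq_mul.mpr
          (Subgroup.mem_centralizer_iff.mp (H.Q_le_C H.gen_cube) v hv).symm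
  have hsq : ∀ a ∈ V, a * a = 1 := fun a ha => by rw [← sq]; exact hel.2 a ha
  -- `v · v^k` is `u · u^k` for `u = v^k · v^{k²}`
  have hu := H.module_mem_wOf hkv
  have h := H.w_mem_wOf hu
  set a := k * v * k⁻¹ with ha
  set b := k * a * k⁻¹ with hb
  have e : k * (a * b) * k⁻¹ = b * v := by
    calc k * (a * b) * k⁻¹ = (k * a * k⁻¹) * (k * b * k⁻¹) := by group
      _ = b * v := by rw [h3]
  have e' : a * b * (k * (a * b) * k⁻¹) = v * a := by
    rw [e]
    calc a * b * (b * v) = a * (b * b) * v := by group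
      _ = a * v := by rw [hsq b hkkv, mul_one]
      _ = v * a := hel.1 a hkv v hv
  rwa [e'] at h

theorem wOf_ne_bot (H : CompGen T L g) : wOf (compOf L g) ≠ ⊥ := by
  intro h
  refine H.gen_notC (Subgroup.mem_centralizer_iff.mpr fun v hv => ?_)
  have h1 := H.commutator_module hv
  rw [h, Subgroup.mem_bot] at h1
  have hVel : IsElementaryAbelian 2 (sylowCenterClosure 2 L) :=
    CfsgLib.LocalCharP.sylowCenterClosure_elementaryAbelian (charP_of_mem H.hL)
  have h2 : H.gen * v * H.gen⁻¹ = v := by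
    rw [eq_inv_of_mul_eq_one_right h1, elem_inv hVel hv]
  exact (mul_inv_eq_iff_eq_mul.mp h2).symm

theorem four_le_card (H : CompGen T L g) : 4 ≤ Nat.card ↥(wOf (compOf L g)) := by
  set W := wOf (compOf L g) with hW
  obtain ⟨w, hw, hw1⟩ := (Subgroup.bot_or_exists_ne_one W).resolve_left H.wOf_ne_bot
  obtain ⟨e, he⟩ := IsPGroup.iff_card.mp (CfsgLib.LocalP.isPGroup_of_isElementaryAbelian H.wOf_elem)
  rw [he]
  rcases e with _ | _ | e
  · exact absurd (Subgroup.mem_bot.mp ((Subgroup.eq_bot_of_card_eq W (by rw [he, pow_zero])) ▸ hw)) hw1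
  · exfalso
    have hkw : H.gen * w * H.gen⁻¹ ∈ W := conj_mem (H.conj_wOf (Subgroup.le_normalizer H.gen_mem)) hw
    have hne : H.gen * w * H.gen⁻¹ ≠ 1 := fun h => hw1 (conj_eq_one_iff.mp h)
    have hne' : H.gen * w * H.gen⁻¹ ≠ w := fun h => hw1 (H.gen_fpf hw h)
    have hsub : ({1, w, H.gen * w * H.gen⁻¹} : Set G) ⊆ (W : Set G) := by
      rintro x (rfl | rfl | rfl)
      exacts [one_mem _, hw, hkw]
    have hc := Set.ncard_le_ncard hsub (Set.toFinite _)
    rw [Set.ncard_insert_of_notMem (by simp [Ne.symm hw1, Ne.symm hne]) (Set.toFinite _),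
      Set.ncard_pair (Ne.symm hne'), ← Nat.card_coe_set_eq] at hc
    have : Nat.card ↥W = 2 := by rw [he]; rfl
    have hc' : 3 ≤ Nat.card ↥W := hc
    omega
  · exact le_of_eq_of_le (by norm_num) (Nat.pow_le_pow_right (by norm_num : 0 < 2) (by omega : 2 ≤ e + 1 + 1))

theorem card_wOf (H : CompGen T L g) : Nat.card ↥(wOf (compOf L g)) = 4 := by
  set W := wOf (compOf L g) with hW
  set k := H.gen
  set Q := pCoreOf 2 L
  set J := thompsonSubgroupOf 2 T
  have hJT : J ≤ T := CfsgLib.LocalP.thompsonSubgroupOf_le T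
  have hTL : T ≤ L := H.hL.1.1
  have hQn : ∀ x ∈ L, ∀ q ∈ Q, x * q * x⁻¹ ∈ Q := fun x hx q hq =>
    conj_mem (CfsgLib.LocalCharP.le_normalizer_pCoreOf L hx) hq
  -- the centralizer of `g` modulo `Q`
  let E : Subgroup G :=
    { carrier := {x | x ∈ L ∧ x * g * x⁻¹ * g⁻¹ ∈ Q}
      one_mem' := ⟨one_mem _, by simp⟩
      mul_mem' := by
        rintro x y ⟨hx, hx'⟩ ⟨hy, hy'⟩
        refine ⟨mul_mem hx hy, ?_⟩
        have := mul_mem (hQn x hx _ hy') hx'
        simpa [mul_assoc] using this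
      inv_mem' := by
        rintro x ⟨hx, hx'⟩
        refine ⟨inv_mem hx, ?_⟩
        have := inv_mem (hQn x⁻¹ (inv_mem hx) _ hx')
        simpa [mul_assoc] using this }
  have hEinv : ∀ x ∈ J, x ∉ E → x * g * x⁻¹ * g ∈ Q := fun x hx hxE =>
    (H.dich x hx).resolve_left fun h => hxE ⟨hTL (hJT hx), h⟩
  obtain ⟨A, hA, a, haA, haE⟩ : ∃ A, MaxE T A ∧ ∃ a ∈ A, a ∉ E := by
    by_contra hcon
    push Not at hcon
    have hJE : J ≤ E := J_le_iff.mpr fun A hA a ha => hcon A hA a ha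
    obtain ⟨j, hj, hjg⟩ := H.ex_inv
    have h1 := (hJE hj).2
    have h2 : g ^ 2 ∈ Q := by
      have := mul_mem (inv_mem h1) hjg
      simpa [sq, mul_assoc] using this
    exact H.notQ (mem_of_two_pow_cube (m := 1) (by rwa [pow_one]) H.cube)
  have hab := (CfsgLib.LocalP.isElementaryAbelian_iff.mp hA.2.1).1
  have hAJ : A ≤ J := maxE_le_J hA
  set A₀ := A ⊓ E with hA₀
  have hidx : Nat.card A ≤ 2 * Nat.card A₀ := by
    have hsub : (A : Set G) ⊆ (A₀ : Set G) ∪ (fun x => a * x) '' (A₀ : Set G) := by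
      intro x hx
      by_cases hxE : x ∈ E
      · exact Or.inl ⟨hx, hxE⟩
      refine Or.inr ⟨a⁻¹ * x, ⟨A.mul_mem (A.inv_mem haA) hx, L.mul_mem (L.inv_mem (hTL (hA.1 haA))) (hTL (hA.1 hx)), ?_⟩,
        mul_inv_cancel_left a x⟩
      -- both `a` and `x` invert
      have hi : a⁻¹ * g * a * g ∈ Q := by
        have := hEinv a⁻¹ (inv_mem (hAJ haA)) (fun h => haE (by simpa using inv_mem h))
        simpa using this
      have h2 := hEinv x (hAJ hx) hxE
      have h3 := hQn a⁻¹ (inv_mem (hTL (hA.1 haA))) _ h2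
      have h4 : g * (a⁻¹ * g * a * g) * g⁻¹ ∈ Q := hQn g H.mem _ hi
      have := mul_mem h3 (inv_mem h4)
      simpa [mul_assoc] using this
    calc Nat.card A = (A : Set G).ncard := (Nat.card_coe_set_eq _).symm ▸ rfl
      _ ≤ _ := Set.ncard_le_ncard hsub (Set.toFinite _)
      _ ≤ _ := Set.ncard_union_le _ _
      _ ≤ (A₀ : Set G).ncard + (A₀ : Set G).ncard := Nat.add_le_add_left (Set.ncard_image_le (Set.toFinite _)) _
      _ = 2 * Nat.card A₀ := by rw [← Nat.card_coe_set_eq]; exact (two_mul _).symm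
  have hAn : A ≤ Subgroup.normalizer (W : Set G) := fun x hx => H.conj_wOf (H.J_le_normalizer (hAJ hx))
  have hWel := CfsgLib.LocalP.isElementaryAbelian_iff.mp H.wOf_elem
  have hWT : W ≤ T := H.wOf_le_T
  have hkW : ∀ w ∈ W, k * w * k⁻¹ ∈ W := fun w hw => conj_mem (H.conj_wOf (Subgroup.le_normalizer H.gen_mem)) hw
  have hk3 : ∀ w ∈ W, k * (k * (k * w * k⁻¹) * k⁻¹) * k⁻¹ = w := fun w hw => by
    calc k * (k * (k * w * k⁻¹) * k⁻¹) * k⁻¹ = (k * k * k) * w * (k * k * k)⁻¹ := by group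
      _ = k ^ 3 * w * (k ^ 3)⁻¹ := by rw [pow_three']
      _ = w := H.cube_fix (H.wOf_le_U hw)
  -- action of `a`: inverts `k`
  have hact : ∀ w ∈ W, a * (k * w * k⁻¹) * a⁻¹ = k⁻¹ * (a * w * a⁻¹) * k := by
    intro w hw
    have hq := H.conj_gen_inv (hTL (hA.1 haA)) (hEinv a (hAJ haA) haE)
    have hqK : a * k * a⁻¹ * k ∈ compOf L g :=
      mul_mem (conj_mem (H.J_le_normalizer (hAJ haA)) H.gen_mem) H.gen_mem
    have hw' : k⁻¹ * (a * w * a⁻¹) * k ∈ W := by
      simpa using conj_mem (inv_mem (H.conj_wOf (Subgroup.le_normalizer H.gen_mem)))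
        (conj_mem (hAn haA) hw)
    calc a * (k * w * k⁻¹) * a⁻¹
        = (a * k * a⁻¹ * k) * (k⁻¹ * (a * w * a⁻¹) * k) * (a * k * a⁻¹ * k)⁻¹ := by group
      _ = _ := H.core_fix ⟨hqK, hq⟩ (H.wOf_le_U hw')
  have hact₀ : ∀ b ∈ A₀, ∀ w ∈ W, b * (k * w * k⁻¹) * b⁻¹ = k * (b * w * b⁻¹) * k⁻¹ := by
    rintro b ⟨hb, hbE⟩ w hw
    have hq : b * k * b⁻¹ * k⁻¹ ∈ Q := by
      have key : ∀ n : ℕ, b * g ^ n * b⁻¹ * (g ^ n)⁻¹ ∈ Q := by
        intro n
        induction n with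
        | zero => simp
        | succ n ih =>
          have := mul_mem hbE.2 (hQn g H.mem _ ih)
          simpa [pow_succ', mul_assoc] using this
      exact key _
    have hqK : b * k * b⁻¹ * k⁻¹ ∈ compOf L g :=
      mul_mem (conj_mem (H.J_le_normalizer (hAJ hb)) H.gen_mem) (inv_mem H.gen_mem)
    calc b * (k * w * k⁻¹) * b⁻¹
        = (b * k * b⁻¹ * k⁻¹) * (k * (b * w * b⁻¹) * k⁻¹) * (b * k * b⁻¹ * k⁻¹)⁻¹ := by group
      _ = _ := H.core_fix ⟨hqK, hq⟩ (H.wOf_le_U (hkW _ (conj_mem (hAn hb) hw)))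
  -- the fixed points of `a`
  set X := W ⊓ Subgroup.centralizer ({a} : Set G) with hX
  have hXmem : ∀ x, x ∈ X ↔ x ∈ W ∧ a * x * a⁻¹ = x := fun x => by
    rw [hX, Subgroup.mem_inf, Subgroup.mem_centralizer_singleton_iff, mul_inv_eq_iff_eq_mul]
    exact and_congr_right' eq_comm
  have ha2 : a * a = 1 := by rw [← sq]; exact (CfsgLib.LocalP.isElementaryAbelian_iff.mp hA.2.1).2 a haA
  have hWX : Nat.card W ≤ Nat.card X * Nat.card X := by
    let δ : ↥W →* ↥W :=
      { toFun := fun w => ⟨(w : G) * (a * w * a⁻¹), mul_mem w.2 (conj_mem (hAn haA) w.2)⟩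
        map_one' := Subtype.ext (show (1 : G) * (a * 1 * a⁻¹) = 1 by group)
        map_mul' := fun v w => Subtype.ext (by
          show (v : G) * w * (a * ((v : G) * w) * a⁻¹) = v * (a * v * a⁻¹) * (w * (a * w * a⁻¹))
          have h := hWel.1 (w : G) w.2 _ (conj_mem (hAn haA) v.2)
          calc (v : G) * w * (a * ((v : G) * w) * a⁻¹)
              = v * ((w : G) * (a * v * a⁻¹)) * (a * w * a⁻¹) := by group
            _ = _ := by rw [h]; group) }
    have h := δ.ker.index_mul_card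
    rw [Subgroup.index_ker] at h
    rw [← h]
    refine Nat.mul_le_mul ?_ ?_
    · rw [← Nat.card_congr (Subgroup.subgroupOfEquivOfLe (inf_le_left : X ≤ W)).toEquiv]
      refine Subgroup.card_le_of_le ?_
      rintro _ ⟨w, rfl⟩
      refine (hXmem _).mpr ⟨(δ w).2, ?_⟩
      show a * ((w : G) * (a * w * a⁻¹)) * a⁻¹ = w * (a * w * a⁻¹)
      calc a * ((w : G) * (a * w * a⁻¹)) * a⁻¹ = (a * w * a⁻¹) * ((a * a) * w * (a * a)⁻¹) := by group
        _ = (a * w * a⁻¹) * w := by rw [ha2]; group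
        _ = _ := hWel.1 _ (conj_mem (hAn haA) w.2) _ w.2
    · rw [← Nat.card_congr (Subgroup.subgroupOfEquivOfLe (inf_le_left : X ≤ W)).toEquiv]
      refine Subgroup.card_le_of_le fun w hw => (hXmem _).mpr ⟨w.2, ?_⟩
      have h1 : (w : G) * (a * w * a⁻¹) = 1 := congrArg Subtype.val hw
      show a * (w : G) * a⁻¹ = w
      rw [eq_inv_of_mul_eq_one_right h1, elem_inv H.wOf_elem w.2]
  have hXk : ∀ y ∈ X, k * y * k⁻¹ ∈ X → y = 1 := by
    intro y hy hky
    rw [hXmem] at hy hky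
    have h := hact y hy.1
    rw [hy.2, hky.2] at h
    have h2 : k * (k * y * k⁻¹) * k⁻¹ = y := by rw [h]; group
    refine H.gen_fpf hy.1 ?_
    conv_rhs => rw [← hk3 y hy.1, h2]
  set X₀ := X ⊓ Subgroup.centralizer (A₀ : Set G) with hX₀
  set W₀ := W ⊓ Subgroup.centralizer (A₀ : Set G) with hW₀
  have hX₀W₀ : X₀ ≤ W₀ := inf_le_inf_right _ inf_le_left
  have hsq : Nat.card X₀ * Nat.card X₀ ≤ Nat.card W₀ := by
    set Y := X₀.map (MulAut.conj k).toMonoidHom
    have hYW : Y ≤ W₀ := by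
      rintro _ ⟨y, hy, rfl⟩
      have hyW : y ∈ W := hy.1.1
      refine ⟨hkW y hyW, Subgroup.mem_centralizer_iff.mpr fun b hb => mul_inv_eq_iff_eq_mul.mp ?_⟩
      show b * (k * y * k⁻¹) * b⁻¹ = k * y * k⁻¹
      rw [hact₀ b hb y hyW, mul_inv_eq_iff_eq_mul.mpr (Subgroup.mem_centralizer_iff.mp hy.2 b hb)]
    have h1 := CfsgLib.LocalP.card_mul_le_card_sup_mul_card_inf X₀ Y
    have h2 : X₀ ⊓ Y = ⊥ := by
      rw [eq_bot_iff]
      rintro _ ⟨hx, y, hy, rfl⟩
      rw [hXk y hy.1 hx.1, map_one]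
      exact one_mem _
    rw [h2, Subgroup.card_bot, mul_one, Subgroup.card_map_of_injective (MulAut.conj k).injective] at h1
    exact h1.trans (Subgroup.card_le_of_le (sup_le hX₀W₀ hYW))
  have hXn : A₀ ≤ Subgroup.normalizer (X : Set G) := by
    refine CfsgLib.LocalCharP.le_normalizer_of_conj_mem fun b hb x hx => (hXmem _).mpr ?_
    obtain ⟨hx1, hx2⟩ := (hXmem x).mp hx
    refine ⟨conj_mem (hAn hb.1) hx1, ?_⟩
    calc a * (b * x * b⁻¹) * a⁻¹ = (a * b) * x * (a * b)⁻¹ := by group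
      _ = (b * a) * x * (b * a)⁻¹ := by rw [hab a haA b hb.1]
      _ = b * (a * x * a⁻¹) * b⁻¹ := by group
      _ = _ := by rw [hx2]
  have hfour := H.four_le_card
  have hXne : X ≠ ⊥ := fun h => by
    rw [← hW] at hfour
    rw [h, Subgroup.card_bot] at hWX
    omega
  have hXel : IsElementaryAbelian 2 X := CfsgLib.LocalP.isElementaryAbelian_mono H.wOf_elem inf_le_left
  have hA₀p : IsPGroup 2 ↥A₀ :=
    (CfsgLib.LocalP.isPGroup_of_isElementaryAbelian hA.2.1).to_le inf_le_left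
  obtain ⟨z, hz, hz1⟩ := (Subgroup.bot_or_exists_ne_one X₀).resolve_left
    (CfsgLib.LocalCharP.inf_centralizer_ne_bot (CfsgLib.LocalP.isPGroup_of_isElementaryAbelian hXel) hXne
      hA₀p hXn)
  have hb1 := maxE_bound hA (inf_le_left : A ⊓ Subgroup.centralizer (W : Set G) ≤ A) hWT H.wOf_elem
  rw [inf_eq_left.mpr (Subgroup.le_centralizer_iff.mp inf_le_right :
    W ≤ Subgroup.centralizer ((A ⊓ Subgroup.centralizer (W : Set G) : Subgroup G) : Set G))] at hb1
  have hb2 := maxE_bound hA (inf_le_left : A₀ ≤ A) hWT H.wOf_elem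
  have hCA : W ⊓ Subgroup.centralizer (A : Set G) ≤ X₀ := fun x hx =>
    ⟨(hXmem x).mpr ⟨hx.1, mul_inv_eq_iff_eq_mul.mpr (Subgroup.mem_centralizer_iff.mp hx.2 a haA)⟩,
      Subgroup.centralizer_le inf_le_left hx.2⟩
  have hX₀2 : Nat.card X₀ ≤ 2 := by
    have h1 : Nat.card A₀ * (Nat.card X₀ * Nat.card X₀) ≤ 2 * Nat.card A₀ * Nat.card X₀ :=
      le_trans (Nat.mul_le_mul_left _ hsq) (hb2.trans (Nat.mul_le_mul hidx (Subgroup.card_le_of_le hCA)))
    have hpos : 0 < Nat.card A₀ * Nat.card X₀ := Nat.mul_pos Nat.card_pos Nat.card_pos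
    exact Nat.le_of_mul_le_mul_left (show Nat.card A₀ * Nat.card X₀ * Nat.card X₀ ≤
      Nat.card A₀ * Nat.card X₀ * 2 by linarith) hpos
  have hfix : ∀ x ∈ X, (∀ b ∈ A₀, b * x = x * b) → x = 1 ∨ x = z := by
    intro x hx hxc
    by_contra hcon
    push Not at hcon
    have hsub : ({1, x, z} : Set G) ⊆ (X₀ : Set G) := by
      rintro y (rfl | rfl | rfl)
      exacts [one_mem _, ⟨hx, Subgroup.mem_centralizer_iff.mpr hxc⟩, hz]
    have hc := Set.ncard_le_ncard hsub (Set.toFinite _)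
    rw [Set.ncard_insert_of_notMem (by simp [Ne.symm hcon.1, Ne.symm hz1]) (Set.toFinite _),
      Set.ncard_pair hcon.2, ← Nat.card_coe_set_eq] at hc
    have hc' : 3 ≤ Nat.card ↥X₀ := hc
    omega
  have hb3 := two_mul_card_le_of_fixed (A := A₀) (fun x hx y hy => hab x hx.1 y hy.1) hA₀p hXel hXn hz.1 hz1 hfix
    fun b hb => Subgroup.mem_centralizer_iff.mp hz.2 b hb
  have hker : A₀ ⊓ Subgroup.centralizer (X : Set G) ≤ A ⊓ Subgroup.centralizer (W : Set G) := by
    rintro b ⟨hb, hbX⟩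
    refine ⟨hb.1, ?_⟩
    have hfixX : ∀ y ∈ X, b * y * b⁻¹ = y := fun y hy =>
      mul_inv_eq_iff_eq_mul.mpr (Subgroup.mem_centralizer_iff.mp hbX y hy).symm
    -- `X` and its conjugate under `k` generate `W`
    set Y := X.map (MulAut.conj k).toMonoidHom
    have hYW : Y ≤ W := by rintro _ ⟨y, hy, rfl⟩; exact hkW y hy.1
    have h1 := CfsgLib.LocalP.card_mul_le_card_sup_mul_card_inf X Y
    have h2 : X ⊓ Y = ⊥ := by
      rw [eq_bot_iff]
      rintro _ ⟨hx, y, hy, rfl⟩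
      rw [hXk y hy hx, map_one]
      exact one_mem _
    rw [h2, Subgroup.card_bot, mul_one, Subgroup.card_map_of_injective (MulAut.conj k).injective] at h1
    have h3 : X ⊔ Y = W := Subgroup.eq_of_le_of_card_ge (sup_le inf_le_left hYW) (hWX.trans h1)
    have hle : X ⊔ Y ≤ Subgroup.centralizer ({b} : Set G) := by
      refine sup_le (fun y hy => ?_) ?_
      · exact Subgroup.mem_centralizer_singleton_iff.mpr (mul_inv_eq_iff_eq_mul.mp (hfixX y hy)).symm
      · rintro _ ⟨y, hy, rfl⟩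
        refine Subgroup.mem_centralizer_singleton_iff.mpr (mul_inv_eq_iff_eq_mul.mp ?_).symm
        show b * (k * y * k⁻¹) * b⁻¹ = k * y * k⁻¹
        rw [hact₀ b hb y hy.1, hfixX y hy]
    rw [h3] at hle
    exact Subgroup.mem_centralizer_iff.mpr fun w hw => Subgroup.mem_centralizer_singleton_iff.mp (hle hw)
  have hcardB : Nat.card ↥(A₀ ⊓ Subgroup.centralizer (X : Set G)) ≤
      Nat.card ↥(A ⊓ Subgroup.centralizer (W : Set G)) := Subgroup.card_le_of_le hker
  set B := A ⊓ Subgroup.centralizer (W : Set G)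
  have hCA2 : Nat.card ↥(W ⊓ Subgroup.centralizer (A : Set G)) ≤ 2 :=
    (Subgroup.card_le_of_le hCA).trans hX₀2
  -- `|B| |W| ≤ 2 |A| ≤ 4 |A₀| ≤ 2 |X| |B|`
  have h4 : Nat.card B * Nat.card W ≤ Nat.card B * (2 * Nat.card X) := by
    calc Nat.card B * Nat.card W ≤ Nat.card A * 2 := hb1.trans (Nat.mul_le_mul_left _ hCA2)
      _ ≤ 2 * Nat.card A₀ * 2 := Nat.mul_le_mul_right _ hidx
      _ ≤ Nat.card X * Nat.card ↥(A₀ ⊓ Subgroup.centralizer (X : Set G)) * 2 := Nat.mul_le_mul_right _ hb3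
      _ ≤ Nat.card X * Nat.card B * 2 := Nat.mul_le_mul_right _ (Nat.mul_le_mul_left _ hcardB)
      _ = _ := by ring
  have h5 : Nat.card W ≤ 2 * Nat.card X := Nat.le_of_mul_le_mul_left h4 Nat.card_pos
  -- `|X|² ≤ |W|`
  have h6 : Nat.card X * Nat.card X ≤ Nat.card W := by
    set Y := X.map (MulAut.conj k).toMonoidHom
    have hYW : Y ≤ W := by rintro _ ⟨y, hy, rfl⟩; exact hkW y hy.1
    have h1 := CfsgLib.LocalP.card_mul_le_card_sup_mul_card_inf X Y
    have h2 : X ⊓ Y = ⊥ := by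
      rw [eq_bot_iff]
      rintro _ ⟨hx, y, hy, rfl⟩
      rw [hXk y hy hx, map_one]
      exact one_mem _
    rw [h2, Subgroup.card_bot, mul_one, Subgroup.card_map_of_injective (MulAut.conj k).injective] at h1
    exact h1.trans (Subgroup.card_le_of_le (sup_le inf_le_left hYW))
  have h7 : Nat.card X ≤ 2 := Nat.le_of_mul_le_mul_left
    (show Nat.card X * Nat.card X ≤ Nat.card X * 2 by linarith) Nat.card_pos
  nlinarith

theorem isJComponent (H : CompGen T L g) : IsJComponent T (compOf L g) := by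
  refine ⟨oddGen_oddGen _, H.commutator_eq, H.relIndex_eq, fun S hS hJS => ?_, H.card_wOf, fun w hw => ?_⟩
  · exact J_eq_of_sylowIn H.hL.1 hS.2.1 (hS.1.trans (sup_le H.comp_le
      ((CfsgLib.LocalP.thompsonSubgroupOf_le T).trans H.hL.1.1))) hJS
  · rw [← sq]
    exact (CfsgLib.LocalP.isElementaryAbelian_iff.mp H.wOf_elem).2 w hw

theorem wOf_le_module (H : CompGen T L g) : wOf (compOf L g) ≤ sylowCenterClosure 2 L := by
  set W := wOf (compOf L g) with hW
  set k := H.gen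
  obtain ⟨v, hv, hv1⟩ : ∃ v ∈ sylowCenterClosure 2 L, v * (k * v * k⁻¹) ≠ 1 := by
    by_contra hcon
    push Not at hcon
    refine H.gen_notC (Subgroup.mem_centralizer_iff.mpr fun v hv => ?_)
    have hVel : IsElementaryAbelian 2 (sylowCenterClosure 2 L) :=
      CfsgLib.LocalCharP.sylowCenterClosure_elementaryAbelian (charP_of_mem H.hL)
    have h2 : H.gen * v * H.gen⁻¹ = v := by
      rw [eq_inv_of_mul_eq_one_right (hcon v hv), elem_inv hVel hv]
    exact (mul_inv_eq_iff_eq_mul.mp h2).symm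
  set w := v * (k * v * k⁻¹) with hwdef
  have hw : w ∈ W := H.commutator_module hv
  have hn := CfsgLib.LocalCharP.le_normalizer_sylowCenterClosure (p := 2) L H.gen_mem_L
  have hwV : w ∈ sylowCenterClosure 2 L := mul_mem hv (conj_mem hn hv)
  have hwne : k * w * k⁻¹ ≠ w := fun h => hv1 (H.gen_fpf hw h)
  set Z := W ⊓ sylowCenterClosure 2 L
  have hkW : k * w * k⁻¹ ∈ W := conj_mem (H.conj_wOf (Subgroup.le_normalizer H.gen_mem)) hw
  have hsub : ({1, w, k * w * k⁻¹} : Set G) ⊆ (Z : Set G) := by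
    rintro x (rfl | rfl | rfl)
    exacts [one_mem _, ⟨hw, hwV⟩, ⟨hkW, conj_mem hn hwV⟩]
  have hc := Set.ncard_le_ncard hsub (Set.toFinite _)
  have hkw1 : k * w * k⁻¹ ≠ 1 := fun h => hv1 (conj_eq_one_iff.mp h)
  rw [Set.ncard_insert_of_notMem (by simp [Ne.symm hv1, Ne.symm hkw1]) (Set.toFinite _),
    Set.ncard_pair (Ne.symm hwne), ← Nat.card_coe_set_eq] at hc
  have hc' : 3 ≤ Nat.card ↥Z := hc
  have h4 := H.card_wOf
  obtain ⟨d, hd⟩ := Subgroup.card_dvd_of_le (inf_le_left : Z ≤ W)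
  have hd1 : d = 1 := by
    rw [h4] at hd
    rcases d with _ | _ | d
    · simp at hd
    · rfl
    · nlinarith
  have hZ : Z = W := Subgroup.eq_of_le_of_card_ge inf_le_left (by rw [hd, hd1, mul_one])
  exact hZ ▸ inf_le_right

end CompGen

end CfsgLib.JComp
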