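import Cfsg.Agent.JComp.Zero

/-!
Facts on an arbitrary `J(T)`-component `K`: a generator modulo `O₂(K)` and its action on the
four-group.
-/

set_option autoImplicit false

open Cfsg
open scoped Pointwise commutatorElement

namespace CfsgLib.JComp

variable {G : Type*} [Group G] [Finite G]

local instance : Fact (Nat.Prime 2) := ⟨Nat.prime_two⟩

/-- An element of odd order generating `K` modulo `O₂(K)`. -/
structure CompElt (K : Subgroup G) (k : G) : Prop where
  mem : k ∈ K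
  odd : Odd (orderOf k)
  cube : k ^ 3 ∈ pCoreOf 2 K
  notCore : k ∉ pCoreOf 2 K
  rep : ∀ x ∈ K, ∃ q ∈ pCoreOf 2 K, ∃ n : ℕ, x = q * k ^ n

theorem exists_compElt {T K : Subgroup G} (hK : IsJComponent T K) : ∃ k, CompElt K k := by
  obtain ⟨hgen, -, hidx, -, -, -⟩ := id hK
  set N := (pCoreOf 2 K).subgroupOf K
  haveI : N.Normal := Subgroup.normal_subgroupOf_of_le_normalizer (CfsgLib.LocalCharP.le_normalizer_pCoreOf K)
  obtain ⟨k, hk, hko, hkO⟩ : ∃ k ∈ K, Odd (orderOf k) ∧ k ∉ pCoreOf 2 K := by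
    by_contra hcon
    push Not at hcon
    refine pCoreOf_ne_self hK ?_
    rw (occs := .pos [1]) [← hgen]
    exact (Subgroup.closure_le _).mpr fun x hx => hcon x hx.1 hx.2
  have hcard : Nat.card (↥K ⧸ N) = 3 := hidx
  have hcube : k ^ 3 ∈ pCoreOf 2 K := by
    have h : QuotientGroup.mk' N ⟨k, hk⟩ ^ 3 = 1 := by rw [← hcard]; exact pow_card_eq_one'
    rw [← map_pow] at h
    exact (QuotientGroup.eq_one_iff (N := N) _).mp h
  refine ⟨k, hk, hko, hcube, hkO, fun x hx => ?_⟩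
  haveI : Fact (Nat.Prime 3) := ⟨Nat.prime_three⟩
  have hk1 : QuotientGroup.mk' N ⟨k, hk⟩ ≠ 1 := fun h => hkO ((QuotientGroup.eq_one_iff (N := N) _).mp h)
  obtain ⟨n, hn⟩ := (isOfFinOrder_of_finite _).mem_powers_iff_mem_zpowers.mpr
    (mem_zpowers_of_prime_card hcard hk1 (g' := QuotientGroup.mk' N ⟨x, hx⟩))
  simp only at hn
  rw [← map_pow, QuotientGroup.mk'_eq_mk'] at hn
  obtain ⟨z, hz, hze⟩ := hn
  have hze' : k ^ n * (z : G) = x := congrArg Subtype.val hze
  refine ⟨k ^ n * z * (k ^ n)⁻¹,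
    conj_mem (CfsgLib.LocalCharP.le_normalizer_pCoreOf K (pow_mem hk n)) hz, n, ?_⟩
  rw [inv_mul_cancel_right, hze']

theorem wOf_le_omega {T K : Subgroup G} (_hK : IsJComponent T K) :
    wOf K ≤ omegaCenterOf (pCoreOf 2 K) := by
  refine Subgroup.commutator_le.mpr fun u hu k hk => ?_
  have h := conj_mem (normalizer_le_normalizer_omegaCenterOf _
    (CfsgLib.LocalCharP.le_normalizer_pCoreOf K hk)) (inv_mem hu)
  simpa [commutatorElement_def, mul_assoc] using mul_mem hu h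

theorem wOf_elementary {T K : Subgroup G} (hK : IsJComponent T K) : IsElementaryAbelian 2 (wOf K) :=
  CfsgLib.LocalP.isElementaryAbelian_mono (omegaCenterOf_elem _) (wOf_le_omega hK)

theorem core_fix_omega {K : Subgroup G} {q u : G} (hq : q ∈ pCoreOf 2 K)
    (hu : u ∈ omegaCenterOf (pCoreOf 2 K)) : q * u * q⁻¹ = u :=
  mul_inv_eq_iff_eq_mul.mpr (omegaCenterOf_comm hu hq).symm

theorem CompElt.mem_normalizer_wOf {K : Subgroup G} {k : G} (hk : CompElt K k) :
    k ∈ Subgroup.normalizer (wOf K : Set G) :=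
  normalizer_le_normalizer_wOf K (Subgroup.le_normalizer hk.mem)

theorem CompElt.conj_omega {K : Subgroup G} {k u : G} (hk : CompElt K k)
    (hu : u ∈ omegaCenterOf (pCoreOf 2 K)) : k * u * k⁻¹ ∈ omegaCenterOf (pCoreOf 2 K) :=
  conj_mem (normalizer_le_normalizer_omegaCenterOf _ (CfsgLib.LocalCharP.le_normalizer_pCoreOf K hk.mem)) hu

theorem CompElt.cube_conj {K : Subgroup G} {k u : G} (hk : CompElt K k)
    (hu : u ∈ omegaCenterOf (pCoreOf 2 K)) : k * (k * (k * u * k⁻¹) * k⁻¹) * k⁻¹ = u := by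
  calc k * (k * (k * u * k⁻¹) * k⁻¹) * k⁻¹ = (k * k * k) * u * (k * k * k)⁻¹ := by group
    _ = k ^ 3 * u * (k ^ 3)⁻¹ := by rw [pow_three']
    _ = u := core_fix_omega hk.cube hu

/-- The commutator of an element of `Ω₁Z(O₂(K))` with the generator lies in the four-group. -/
theorem CompElt.mul_conj_mem {T K : Subgroup G} {k u : G} (hK : IsJComponent T K) (hk : CompElt K k)
    (hu : u ∈ omegaCenterOf (pCoreOf 2 K)) : u * (k * u * k⁻¹) ∈ wOf K := by
  have h : ⁅u, k⁆ ∈ wOf K := Subgroup.commutator_mem_commutator hu hk.mem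
  have hinv : u⁻¹ = u := CompGen.elem_inv (omegaCenterOf_elem _) hu
  rw [commutatorElement_def] at h
  have e : u * (k * u * k⁻¹) = u * k * u⁻¹ * k⁻¹ := by rw [hinv]; group
  rwa [e]

theorem CompElt.fpf {T K : Subgroup G} {k : G} (hK : IsJComponent T K) (hk : CompElt K k) {z : G}
    (hz : z ∈ wOf K) (h : k * z * k⁻¹ = z) : z = 1 := by
  by_contra hz1
  set W := wOf K with hW
  have hW4 : Nat.card W = 4 := hK.2.2.2.2.1
  have hWel := CfsgLib.LocalP.isElementaryAbelian_iff.mp (wOf_elementary hK)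
  have hkW : ∀ w ∈ W, k * w * k⁻¹ ∈ W := fun w hw => conj_mem hk.mem_normalizer_wOf hw
  have hkk : ∀ w ∈ W, k * (k * w * k⁻¹) * k⁻¹ = w := by
    intro w hw
    let D : Subgroup G := W ⊓ Subgroup.centralizer ({k * k} : Set G)
    by_contra hne
    -- `k` permutes the two elements outside `{1, z}`
    have hw1 : w ≠ 1 := fun h1 => hne (by rw [h1]; group)
    have hwz : w ≠ z := fun h1 => hne (by rw [h1, h, h])
    have hkw : k * w * k⁻¹ ≠ w := fun h1 => hne (by rw [h1, h1])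
    have hkw1 : k * w * k⁻¹ ≠ 1 := fun h1 => hw1 (conj_eq_one_iff.mp h1)
    have hkwz : k * w * k⁻¹ ≠ z := fun h1 => hwz (by
      rw [← h] at h1
      exact mul_left_cancel (mul_right_cancel h1))
    set a := k * w * k⁻¹ with ha
    set b := k * a * k⁻¹ with hb
    have hb1 : b ≠ 1 := fun h1 => hkw1 (conj_eq_one_iff.mp h1)
    have hbz : b ≠ z := fun h1 => hkwz (by
      rw [← h, hb] at h1
      exact mul_left_cancel (mul_right_cancel h1))
    have hba : b ≠ a := fun h1 => hkw (by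
      rw [hb, ha] at h1
      exact mul_left_cancel (mul_right_cancel h1))
    have hbw : b ≠ w := hne
    have hsub : ({1, z, w, a, b} : Set G) ⊆ (W : Set G) := by
      rintro x (rfl | rfl | rfl | rfl | rfl)
      exacts [one_mem _, hz, hw, hkW w hw, hkW a (hkW w hw)]
    have hc := Set.ncard_le_ncard hsub (Set.toFinite _)
    rw [Set.ncard_insert_of_notMem (by simp [Ne.symm hz1, Ne.symm hw1, Ne.symm hkw1, Ne.symm hb1]) (Set.toFinite _),
      Set.ncard_insert_of_notMem (by simp [Ne.symm hwz, Ne.symm hkwz, Ne.symm hbz]) (Set.toFinite _),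
      Set.ncard_insert_of_notMem (by simp [Ne.symm hkw, Ne.symm hbw]) (Set.toFinite _),
      Set.ncard_pair (Ne.symm hba), ← Nat.card_coe_set_eq] at hc
    have hc' : 5 ≤ Nat.card ↥W := hc
    omega
  -- then `k` centralizes the four-group, which is generated by commutators with `k`
  have hfix : ∀ w ∈ W, k * w * k⁻¹ = w := fun w hw => by
    calc k * w * k⁻¹ = k * (k * (k * w * k⁻¹) * k⁻¹) * k⁻¹ := by rw [hkk w hw]
      _ = w := hk.cube_conj (wOf_le_omega hK hw)
  have hU : ∀ u ∈ omegaCenterOf (pCoreOf 2 K), k * u * k⁻¹ = u := fun u hu =>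
    shift_eq_one (core_fix_omega hk.cube hu) (hfix _ (hk.mul_conj_mem hK hu))
      ((CfsgLib.LocalP.isElementaryAbelian_iff.mp (omegaCenterOf_elem _)).1 _
        (hk.conj_omega (hk.conj_omega hu)) _ (hk.conj_omega hu))
  refine wOf_ne_bot hK (le_bot_iff.mp (Subgroup.commutator_le.mpr fun u hu x hx => ?_))
  obtain ⟨q, hq, n, rfl⟩ := hk.rep x hx
  have h1 : ∀ m : ℕ, k ^ m * u * (k ^ m)⁻¹ = u := by
    intro m
    induction m with
    | zero => group
    | succ m ih =>
      calc k ^ (m + 1) * u * (k ^ (m + 1))⁻¹ = k * (k ^ m * u * (k ^ m)⁻¹) * k⁻¹ := by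
            rw [pow_succ']; group
        _ = u := by rw [ih, hU u hu]
  rw [Subgroup.mem_bot, commutatorElement_def]
  have h2 : q * k ^ n * u⁻¹ * (q * k ^ n)⁻¹ = u⁻¹ := by
    rw [CompGen.elem_inv (omegaCenterOf_elem _) hu]
    calc q * k ^ n * u * (q * k ^ n)⁻¹ = q * (k ^ n * u * (k ^ n)⁻¹) * q⁻¹ := by group
      _ = u := by rw [h1 n, core_fix_omega hq hu]
  calc u * (q * k ^ n) * u⁻¹ * (q * k ^ n)⁻¹ = u * (q * k ^ n * u⁻¹ * (q * k ^ n)⁻¹) := by group
    _ = 1 := by rw [h2, mul_inv_cancel]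

/-- An element moving `v` inside `Ω₁Z(O₂(K))` moves it inside the four-group. -/
theorem CompElt.mul_conj_mem_of_omega {T K : Subgroup G} {k v : G} (hK : IsJComponent T K) (hk : CompElt K k)
    (hv3 : k * (k * (k * v * k⁻¹) * k⁻¹) * k⁻¹ = v) (hv2 : v * v = 1)
    (hc : (k * (k * v * k⁻¹) * k⁻¹) * (k * v * k⁻¹) = (k * v * k⁻¹) * (k * (k * v * k⁻¹) * k⁻¹))
    (hcv : (k * v * k⁻¹) * v = v * (k * v * k⁻¹))
    (hv : v * (k * v * k⁻¹) ∈ omegaCenterOf (pCoreOf 2 K)) : v * (k * v * k⁻¹) ∈ wOf K := by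
  have h := hk.mul_conj_mem hK (hk.conj_omega hv)
  set a := k * v * k⁻¹ with ha
  set b := k * a * k⁻¹ with hb
  have hb2 : b * b = 1 := by
    calc b * b = k * (k * (v * v) * k⁻¹) * k⁻¹ := by rw [hb, ha]; group
      _ = 1 := by rw [hv2]; group
  have e1 : k * (v * a) * k⁻¹ = a * b := by rw [hb, ha]; group
  have e2 : k * (a * b) * k⁻¹ = b * v := by
    calc k * (a * b) * k⁻¹ = (k * a * k⁻¹) * (k * b * k⁻¹) := by group
      _ = b * v := by rw [hv3]
  rw [e1, e2] at h
  have e : a * b * (b * v) = v * a := by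
    calc a * b * (b * v) = a * (b * b) * v := by group
      _ = a * v := by rw [hb2, mul_one]
      _ = v * a := hcv
  rwa [e] at h

end CfsgLib.JComp
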