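import Cfsg.Agent.JComp.CompCore
import Cfsg.Agent.S2941
import Cfsg.Agent.PGroup.Omega

/-!
The `J(T)`-components contained in an overgroup `L` of `T`: they are exactly the `compOf L (g i)`,
they are normalized by a normal subgroup containing `J(T)`, their four-groups meet trivially and
each centralizes the four-groups of the others.
-/

set_option autoImplicit false

open Cfsg
open scoped Pointwise commutatorElement

namespace CfsgLib.JComp

variable {G : Type*} [Group G] [Finite G]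

local instance : Fact (Nat.Prime 2) := ⟨Nat.prime_two⟩

theorem map_pCoreOf (g : G) (H : Subgroup G) :
    (pCoreOf 2 H).map (MulAut.conj g).toMonoidHom = pCoreOf 2 (H.map (MulAut.conj g).toMonoidHom) := by
  have key : ∀ (g : G) (H : Subgroup G), (pCoreOf 2 H).map (MulAut.conj g).toMonoidHom ≤
      pCoreOf 2 (H.map (MulAut.conj g).toMonoidHom) := by
    intro g H
    refine CfsgLib.LocalCharP.le_pCoreOf (Subgroup.map_mono (CfsgLib.LocalCharP.pCoreOf_le H))
      ((CfsgLib.LocalCharP.isPGroup_pCoreOf H).map _) ?_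
    exact le_trans (Subgroup.map_mono (CfsgLib.LocalCharP.le_normalizer_pCoreOf H))
      (Subgroup.le_normalizer_map _)
  refine le_antisymm (key g H) fun x hx => ?_
  have h := key g⁻¹ _ (Subgroup.mem_map_of_mem _ hx)
  rw [Subgroup.map_map, show ((MulAut.conj g⁻¹).toMonoidHom.comp (MulAut.conj g).toMonoidHom) =
    MonoidHom.id G by ext y; simp [mul_assoc], Subgroup.map_id] at h
  exact ⟨_, h, by simp [mul_assoc]⟩

theorem map_wOf (g : G) (K : Subgroup G) :
    (wOf K).map (MulAut.conj g).toMonoidHom = wOf (K.map (MulAut.conj g).toMonoidHom) := by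
  rw [wOf, wOf, Subgroup.map_commutator, ← map_pCoreOf]
  congr 1
  rw [omegaCenterOf, omegaCenterOf, ← CfsgLib.LocalCharP.map_conj_centralizer,
    ← Subgroup.map_inf _ _ _ (MulAut.conj g).injective]
  exact CfsgLib.PGroup.omegaOne_map _ (MulAut.conj g).injective _

theorem isSylowTwoIn_map {S X : Subgroup G} (g : G) (h : IsSylowTwoIn S X) :
    IsSylowTwoIn (S.map (MulAut.conj g).toMonoidHom) (X.map (MulAut.conj g).toMonoidHom) :=
  ⟨Subgroup.map_mono h.1, h.2.1.map _, by
    rw [Subgroup.relIndex_map_map_of_injective _ _ (MulAut.conj g).injective]; exact h.2.2⟩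

theorem map_conj_inv (g : G) (X : Subgroup G) :
    (X.map (MulAut.conj g⁻¹).toMonoidHom).map (MulAut.conj g).toMonoidHom = X := by
  rw [Subgroup.map_map, show ((MulAut.conj g).toMonoidHom.comp (MulAut.conj g⁻¹).toMonoidHom) =
    MonoidHom.id G by ext y; simp [mul_assoc], Subgroup.map_id]

/-- Components are carried to components by conjugation. -/
theorem isJComponent_map {T K : Subgroup G} (g : G) (h : IsJComponent T K) :
    IsJComponent (T.map (MulAut.conj g).toMonoidHom) (K.map (MulAut.conj g).toMonoidHom) := by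
  obtain ⟨h1, h2, h3, h4, h5, h6⟩ := h
  refine ⟨?_, ?_, ?_, fun S hS hJS => ?_, ?_, fun w hw => ?_⟩
  · show oddGen _ = _
    rw [← oddGen_map_conj, show oddGen K = K from h1]
  · rw [J_map, ← Subgroup.map_commutator, h2]
  · rw [← map_pCoreOf, Subgroup.relIndex_map_map_of_injective _ _ (MulAut.conj g).injective]
    exact h3
  · rw [J_map] at hJS ⊢
    rw [J_map, ← Subgroup.map_sup] at hS
    have hS' := isSylowTwoIn_map g⁻¹ hS
    rw [show ((K ⊔ thompsonSubgroupOf 2 T).map (MulAut.conj g).toMonoidHom).map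
      (MulAut.conj g⁻¹).toMonoidHom = K ⊔ thompsonSubgroupOf 2 T by
        simpa using map_conj_inv g⁻¹ (K ⊔ thompsonSubgroupOf 2 T)] at hS'
    have h7 := h4 _ hS' (fun x hx => mem_map_conj.mpr
      (by simpa [mul_assoc] using hJS (Subgroup.mem_map_of_mem _ hx)))
    rw [← map_conj_inv g S, J_map, h7]
  · rw [← map_wOf, Subgroup.card_map_of_injective (MulAut.conj g).injective]
    exact h5
  · rw [← map_wOf] at hw
    obtain ⟨w', hw', rfl⟩ := hw
    rw [← map_mul, h6 w' hw', map_one]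

omit [Finite G] in
/-- Dichotomy elements form a subgroup. -/
theorem dich_mul {L Q : Subgroup G} (hQ : L ≤ Subgroup.normalizer (Q : Set G)) {g x y : G}
    (hg : g ∈ L) (hx : x ∈ L) (hx' : x * g * x⁻¹ * g⁻¹ ∈ Q ∨ x * g * x⁻¹ * g ∈ Q)
    (hy' : y * g * y⁻¹ * g⁻¹ ∈ Q ∨ y * g * y⁻¹ * g ∈ Q) :
    x * y * g * (x * y)⁻¹ * g⁻¹ ∈ Q ∨ x * y * g * (x * y)⁻¹ * g ∈ Q := by
  have hc : ∀ z ∈ L, ∀ q ∈ Q, z * q * z⁻¹ ∈ Q := fun z hz q hq => conj_mem (hQ hz) hq
  rcases hx' with h1 | h1 <;> rcases hy' with h2 | h2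
  · left
    simpa [mul_assoc] using mul_mem (hc x hx _ h2) h1
  · right
    have h3 := hc g⁻¹ (inv_mem hg) _ (inv_mem h1)
    simpa [mul_assoc] using mul_mem (hc x hx _ h2) h3
  · right
    simpa [mul_assoc] using mul_mem (hc x hx _ h2) h1
  · left
    have h3 := hc g hg _ (inv_mem h1)
    simpa [mul_assoc] using mul_mem (hc x hx _ h2) h3

/-- Elements of `L` centralizing the module modulo their commutator commute in their action on it. -/
theorem conj_comm_module {T L : Subgroup G} (hL : L ∈ jOvergroups T) {x y w : G} (hy : y ∈ L) (hx : x ∈ L)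
    (hxy : ⁅x, y⁆ ∈ pCoreOf 2 L) (hw : w ∈ sylowCenterClosure 2 L) :
    x * (y * w * y⁻¹) * x⁻¹ = y * (x * w * x⁻¹) * y⁻¹ := by
  have hn := CfsgLib.LocalCharP.le_normalizer_sylowCenterClosure (p := 2) L
  have hw' : y * (x * w * x⁻¹) * y⁻¹ ∈ sylowCenterClosure 2 L := conj_mem (hn hy) (conj_mem (hn hx) hw)
  calc x * (y * w * y⁻¹) * x⁻¹ = ⁅x, y⁆ * (y * (x * w * x⁻¹) * y⁻¹) * ⁅x, y⁆⁻¹ := by
        rw [commutatorElement_def]; group
    _ = _ := mul_inv_eq_iff_eq_mul.mpr
      (Subgroup.mem_centralizer_iff.mp ((module_le hL hw').2) _ hxy)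

theorem commutator_pow_mem {L : Subgroup G} {x g : G} (hg : g ∈ L) (h : ⁅x, g⁆ ∈ pCoreOf 2 L) (n : ℕ) :
    ⁅x, g ^ n⁆ ∈ pCoreOf 2 L := by
  induction n with
  | zero => simp [commutatorElement_def]
  | succ n ih =>
    have h1 := conj_mem (CfsgLib.LocalCharP.le_normalizer_pCoreOf L hg) ih
    have e : ⁅x, g ^ (n + 1)⁆ = ⁅x, g⁆ * (g * ⁅x, g ^ n⁆ * g⁻¹) := by
      rw [commutatorElement_def, commutatorElement_def, commutatorElement_def, pow_succ']; group
    rw [e]
    exact mul_mem h h1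

namespace LSystem

variable {T L : Subgroup G} {r : ℕ} {τ g : Fin r → G}

theorem τ_mem_L (S : LSystem T L r τ g) (hL : L ∈ jOvergroups T) (i : Fin r) : τ i ∈ L :=
  hL.1.1 (CfsgLib.LocalP.thompsonSubgroupOf_le T (S.τ_mem i))

theorem compGen (S : LSystem T L r τ g) (hL : L ∈ jOvergroups T) (i : Fin r) : CompGen T L (g i) := by
  set Q := pCoreOf 2 L
  have hQn : L ≤ Subgroup.normalizer (Q : Set G) := CfsgLib.LocalCharP.le_normalizer_pCoreOf L
  refine ⟨hL, S.g_mem i, S.g_cube i, S.g_not i, ?_, τ i, S.τ_mem i, S.inv i⟩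
  have hle : pCoreOf 2 L ⊔ Subgroup.closure (Set.range τ) ≤ L :=
    sup_le (CfsgLib.LocalCharP.pCoreOf_le L) ((Subgroup.closure_le _).mpr (by
      rintro _ ⟨j, rfl⟩; exact S.τ_mem_L hL j))
  intro j hj
  have hj' := S.J_le hj
  rw [← Subgroup.closure_eq (pCoreOf 2 L), ← Subgroup.closure_union] at hj'
  clear hj
  induction hj' using Subgroup.closure_induction with
  | mem x hx =>
    rcases hx with hx | ⟨k, rfl⟩
    · left
      have h := mul_mem (show x ∈ Q from hx) (conj_mem (hQn (S.g_mem i)) (inv_mem (show x ∈ Q from hx)))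
      simpa [mul_assoc] using h
    · rcases eq_or_ne k i with rfl | hki
      · exact Or.inr (S.inv _)
      · exact Or.inl (by simpa [commutatorElement_def] using S.comm_tg k i hki)
  | one => left; simp
  | mul x y hx hy hx' hy' =>
    exact dich_mul hQn (S.g_mem i) (hle (by
      rw [← Subgroup.closure_eq (pCoreOf 2 L), ← Subgroup.closure_union]; exact hx)) hx' hy'
  | inv x hx hx' =>
    have hxL : x ∈ L := hle (by rw [← Subgroup.closure_eq (pCoreOf 2 L), ← Subgroup.closure_union]; exact hx)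
    rcases hx' with h | h
    · left
      simpa [mul_assoc] using conj_mem (hQn (inv_mem hxL)) (inv_mem h)
    · right
      have h' := conj_mem (hQn (inv_mem (S.g_mem i))) (conj_mem (hQn (inv_mem hxL)) h)
      simpa [mul_assoc] using h'

/-- The 3-part of the normal closure of `J(T)`. -/
def oddBase (_S : LSystem T L r τ g) : Subgroup G := pCoreOf 2 L ⊔ Subgroup.closure (Set.range g)

theorem oddBase_le (S : LSystem T L r τ g) : S.oddBase ≤ L :=
  sup_le (CfsgLib.LocalCharP.pCoreOf_le L) ((Subgroup.closure_le _).mpr (by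
    rintro _ ⟨i, rfl⟩; exact S.g_mem i))

theorem oddBase_le_normalizer (S : LSystem T L r τ g) (hL : L ∈ jOvergroups T) (i : Fin r) :
    S.oddBase ≤ Subgroup.normalizer (compOf L (g i) : Set G) := by
  refine sup_le (le_sup_left.trans (S.compGen hL i).P_le_normalizer) ((Subgroup.closure_le _).mpr ?_)
  rintro _ ⟨j, rfl⟩
  refine normalizer_le_normalizer_oddGen _ ?_
  have key : ∀ x ∈ pCoreOf 2 L ⊔ Subgroup.zpowers (g i), ∀ y ∈ L, ⁅y, g i⁆ ∈ pCoreOf 2 L →
      y * x * y⁻¹ ∈ pCoreOf 2 L ⊔ Subgroup.zpowers (g i) := by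
    intro x hx y hy hyg
    have hle : pCoreOf 2 L ⊔ Subgroup.zpowers (g i) ≤
        (pCoreOf 2 L ⊔ Subgroup.zpowers (g i)).comap (MulAut.conj y).toMonoidHom := by
      refine sup_le (fun q hq => Subgroup.mem_sup_left
        (conj_mem (CfsgLib.LocalCharP.le_normalizer_pCoreOf L hy) hq)) (Subgroup.zpowers_le.mpr ?_)
      show y * g i * y⁻¹ ∈ pCoreOf 2 L ⊔ Subgroup.zpowers (g i)
      have := mul_mem (Subgroup.mem_sup_left (T := Subgroup.zpowers (g i)) hyg)
        (Subgroup.mem_sup_right (Subgroup.mem_zpowers (g i)))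
      simpa [commutatorElement_def] using this
    exact hle hx
  refine Subgroup.mem_normalizer_iff.mpr fun x => ⟨fun hx => key x hx _ (S.g_mem j) (S.comm_gg j i), fun hx => ?_⟩
  have h' : ⁅(g j)⁻¹, g i⁆ ∈ pCoreOf 2 L := by
    have h := conj_mem (CfsgLib.LocalCharP.le_normalizer_pCoreOf L (inv_mem (S.g_mem j)))
      (inv_mem (S.comm_gg j i))
    simpa [commutatorElement_def, mul_assoc] using h
  have := key _ hx _ (inv_mem (S.g_mem j)) h'
  simpa [mul_assoc] using this

theorem base_le_normalizer (S : LSystem T L r τ g) (hL : L ∈ jOvergroups T) (i : Fin r) :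
    pCoreOf 2 L ⊔ Subgroup.closure (Set.range g) ⊔ thompsonSubgroupOf 2 T ≤
      Subgroup.normalizer (compOf L (g i) : Set G) :=
  sup_le (S.oddBase_le_normalizer hL i) (S.compGen hL i).J_le_normalizer

theorem J_normalizes_oddBase (S : LSystem T L r τ g) (hL : L ∈ jOvergroups T) :
    thompsonSubgroupOf 2 T ≤ Subgroup.normalizer (S.oddBase : Set G) := by
  refine CfsgLib.LocalCharP.le_normalizer_of_conj_mem fun j hj x hx => ?_
  have hjL : j ∈ L := hL.1.1 (CfsgLib.LocalP.thompsonSubgroupOf_le T hj)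
  have hle : S.oddBase ≤ S.oddBase.comap (MulAut.conj j).toMonoidHom := by
    refine sup_le (fun q hq => Subgroup.mem_sup_left
      (conj_mem (CfsgLib.LocalCharP.le_normalizer_pCoreOf L hjL) hq)) ((Subgroup.closure_le _).mpr ?_)
    rintro _ ⟨i, rfl⟩
    show j * g i * j⁻¹ ∈ pCoreOf 2 L ⊔ Subgroup.closure (Set.range g)
    have hgi : g i ∈ S.oddBase := Subgroup.mem_sup_right (Subgroup.subset_closure ⟨i, rfl⟩)
    rcases (S.compGen hL i).dich j hj with h | h
    · simpa [mul_assoc] using mul_mem (Subgroup.mem_sup_left (T := Subgroup.closure (Set.range g)) h) hgi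
    · simpa [mul_assoc] using
        mul_mem (Subgroup.mem_sup_left (T := Subgroup.closure (Set.range g)) h) (inv_mem hgi)
  exact hle hx

theorem oddBase_cube (S : LSystem T L r τ g) {x : G} (hx : x ∈ S.oddBase) : x ^ 3 ∈ pCoreOf 2 L := by
  set Q' := (pCoreOf 2 L).subgroupOf L
  haveI : Q'.Normal := Subgroup.normal_subgroupOf_of_le_normalizer (CfsgLib.LocalCharP.le_normalizer_pCoreOf L)
  set π := QuotientGroup.mk' Q'
  let g' : Fin r → ↥L := fun i => ⟨g i, S.g_mem i⟩
  have hcomm : ∀ i j, Commute (π (g' i)) (π (g' j)) := fun i j => by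
    have h : π ⁅g' i, g' j⁆ = 1 := (QuotientGroup.eq_one_iff _).mpr (S.comm_gg i j)
    rw [map_commutatorElement] at h
    exact commutatorElement_eq_one_iff_mul_comm.mp h
  have key : ∀ y ∈ Subgroup.closure (Set.range (π ∘ g')), y ^ 3 = 1 := by
    intro y hy
    have hc : ∀ a ∈ Subgroup.closure (Set.range (π ∘ g')), ∀ b ∈ Subgroup.closure (Set.range (π ∘ g')),
        Commute a b := by
      intro a ha b hb
      have h1 : Subgroup.closure (Set.range (π ∘ g')) ≤ Subgroup.centralizer (Set.range (π ∘ g')) := by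
        refine (Subgroup.closure_le _).mpr ?_
        rintro _ ⟨i, rfl⟩
        refine Subgroup.mem_centralizer_iff.mpr ?_
        rintro _ ⟨j, rfl⟩
        exact hcomm j i
      rw [← Subgroup.centralizer_closure] at h1
      exact Subgroup.mem_centralizer_iff.mp (h1 hb) a ha
    induction hy using Subgroup.closure_induction with
    | mem z hz =>
      obtain ⟨i, rfl⟩ := hz
      show π (g' i) ^ 3 = 1
      rw [← map_pow]
      exact (QuotientGroup.eq_one_iff _).mpr (S.g_cube i)
    | one => exact one_pow _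
    | mul a b ha hb iha ihb => rw [(hc a ha b hb).mul_pow, iha, ihb, one_mul]
    | inv a _ iha => rw [inv_pow, iha, inv_one]
  have hle : S.oddBase ≤ ((Subgroup.closure (Set.range (π ∘ g'))).comap π).map L.subtype := by
    refine sup_le (fun q hq => ⟨⟨q, CfsgLib.LocalCharP.pCoreOf_le L hq⟩, ?_, rfl⟩)
      ((Subgroup.closure_le _).mpr ?_)
    · show π _ ∈ Subgroup.closure (Set.range (π ∘ g'))
      rw [show π ⟨q, CfsgLib.LocalCharP.pCoreOf_le L hq⟩ = 1 from (QuotientGroup.eq_one_iff _).mpr hq]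
      exact one_mem _
    · rintro _ ⟨i, rfl⟩
      exact ⟨g' i, Subgroup.subset_closure ⟨i, rfl⟩, rfl⟩
  obtain ⟨x', hx', rfl⟩ := hle hx
  have h := key _ hx'
  rw [← map_pow] at h
  exact (QuotientGroup.eq_one_iff (x' ^ 3)).mp h

theorem commutator_mem (S : LSystem T L r τ g) (hL : L ∈ jOvergroups T) (i : Fin r) {x : G}
    (hx : x ∈ S.oddBase) : ⁅τ i, x⁆ ∈ pCoreOf 2 L ⊔ Subgroup.zpowers (g i) := by
  set P := pCoreOf 2 L ⊔ Subgroup.zpowers (g i)
  have hQn := CfsgLib.LocalCharP.le_normalizer_pCoreOf (p := 2) L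
  have hgP : ∀ j, g j ∈ Subgroup.normalizer (P : Set G) := by
    intro j
    refine CfsgLib.LocalCharP.le_normalizer_of_conj_mem (L := Subgroup.closure (Set.range g)) ?_
      (Subgroup.subset_closure ⟨j, rfl⟩)
    intro l hl y hy
    have hl' : l ∈ S.oddBase := Subgroup.mem_sup_right hl
    have hle : P ≤ P.comap (MulAut.conj l).toMonoidHom := by
      refine sup_le (fun q hq => Subgroup.mem_sup_left (conj_mem (hQn (S.oddBase_le hl')) hq))
        (Subgroup.zpowers_le.mpr ?_)
      show l * g i * l⁻¹ ∈ P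
      have hc : ⁅l, g i⁆ ∈ pCoreOf 2 L := by
        induction hl using Subgroup.closure_induction with
        | mem z hz => obtain ⟨k, rfl⟩ := hz; exact S.comm_gg k i
        | one => simp [commutatorElement_def]
        | mul a b ha hb iha ihb =>
          have haL : a ∈ L := S.oddBase_le (Subgroup.mem_sup_right ha)
          have := mul_mem (conj_mem (hQn haL) (ihb (Subgroup.mem_sup_right hb)))
            (iha (Subgroup.mem_sup_right ha))
          simpa [commutatorElement_def, mul_assoc] using this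
        | inv a ha iha =>
          have haL : a ∈ L := S.oddBase_le (Subgroup.mem_sup_right ha)
          have := conj_mem (hQn (inv_mem haL)) (inv_mem (iha (Subgroup.mem_sup_right ha)))
          simpa [commutatorElement_def, mul_assoc] using this
      have := mul_mem (Subgroup.mem_sup_left (T := Subgroup.zpowers (g i)) hc)
        (Subgroup.mem_sup_right (Subgroup.mem_zpowers (g i)))
      simpa [commutatorElement_def] using this
    exact hle hy
  have hFP : S.oddBase ≤ Subgroup.normalizer (P : Set G) :=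
    sup_le (le_sup_left.trans Subgroup.le_normalizer)
      ((Subgroup.closure_le _).mpr (by rintro _ ⟨j, rfl⟩; exact hgP j))
  have hτL := S.τ_mem_L hL i
  let D : Subgroup G :=
    { carrier := {x | x ∈ Subgroup.normalizer (P : Set G) ∧ ⁅τ i, x⁆ ∈ P}
      one_mem' := ⟨one_mem _, by simp [commutatorElement_def]⟩
      mul_mem' := by
        rintro a b ⟨ha, ha'⟩ ⟨hb, hb'⟩
        refine ⟨mul_mem ha hb, ?_⟩
        have := mul_mem ha' (conj_mem ha hb')
        simpa [commutatorElement_def, mul_assoc] using this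
      inv_mem' := by
        rintro a ⟨ha, ha'⟩
        refine ⟨inv_mem ha, ?_⟩
        have := conj_mem (inv_mem ha) (inv_mem ha')
        simpa [commutatorElement_def, mul_assoc] using this }
  have hle : S.oddBase ≤ D := by
    refine sup_le (fun q hq => ⟨hFP (Subgroup.mem_sup_left hq), ?_⟩) ((Subgroup.closure_le _).mpr ?_)
    · exact Subgroup.mem_sup_left (by
        have := mul_mem (conj_mem (hQn hτL) hq) (inv_mem hq)
        simpa [commutatorElement_def, mul_assoc] using this)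
    · rintro _ ⟨j, rfl⟩
      refine ⟨hgP j, ?_⟩
      rcases eq_or_ne i j with rfl | hij
      · have := mul_mem (mul_mem (Subgroup.mem_sup_left (T := Subgroup.zpowers (g i)) (S.inv i))
          (inv_mem (Subgroup.mem_sup_right (Subgroup.mem_zpowers (g i)))))
          (inv_mem (Subgroup.mem_sup_right (Subgroup.mem_zpowers (g i))))
        simpa [commutatorElement_def, mul_assoc] using this
      · exact Subgroup.mem_sup_left (S.comm_tg i j hij)
  exact (hle hx).2

/-- Every component inside `L` is one of the `compOf L (g i)`. -/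
theorem exists_eq_comp (S : LSystem T L r τ g) (hG : ZN G) (hL : L ∈ jOvergroups T) {K : Subgroup G}
    (hK : IsJComponent T K) (hKL : K ≤ L) : ∃ i, K = compOf L (g i) := by
  set J := thompsonSubgroupOf 2 T with hJdef
  set Q := pCoreOf 2 L with hQdef
  set M := pCoreOf 2 L ⊔ Subgroup.closure (Set.range g) ⊔ J with hMdef
  have hJT : J ≤ T := CfsgLib.LocalP.thompsonSubgroupOf_le T
  have hJL : J ≤ L := hJT.trans hL.1.1
  have hQn := CfsgLib.LocalCharP.le_normalizer_pCoreOf (p := 2) L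
  obtain ⟨hgen, hcomm, hidx, -, -, -⟩ := id hK
  have hQK : Q ≤ Subgroup.normalizer (K : Set G) :=
    Cfsg.Agent.S2941.result hG.char2 hG.solv hG.cent T hL.1.2.1 (two_ne_bot_of_mem hL) K hK Q
      ((sup_le hKL hJL).trans hQn)
      ((pCoreOf_le_T hL).trans (Subgroup.le_normalizer.trans (CfsgLib.LocalP.le_normalizer_thompsonSubgroupOf T)))
  have hKM : K ≤ M := by
    rw [← hcomm]
    refine Subgroup.commutator_le.mpr fun k hk j hj => ?_
    have h1 : k * j * k⁻¹ ∈ M := conj_mem (S.normal (hKL hk)) (Subgroup.mem_sup_right hj)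
    exact mul_mem h1 (inv_mem (Subgroup.mem_sup_right hj))
  have hodd : ∀ x ∈ K, Odd (orderOf x) → x ∈ S.oddBase := fun x hx ho =>
    mem_of_odd_of_mem_sup (hL.1.2.1.to_le hJT) (S.J_normalizes_oddBase hL) (hKM hx) ho
  have hKF : K ≤ S.oddBase := by
    rw [← hgen]
    exact (Subgroup.closure_le _).mpr fun x hx => hodd x hx.1 hx.2
  have hOK : pCoreOf 2 K ≤ Q := by
    intro y hy
    obtain ⟨e, he⟩ := (CfsgLib.LocalCharP.isPGroup_pCoreOf K) ⟨y, hy⟩
    refine mem_of_two_pow_cube (m := e) ?_ (S.oddBase_cube (hKF (CfsgLib.LocalCharP.pCoreOf_le K hy)))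
    rw [show y ^ 2 ^ e = 1 from congrArg Subtype.val he]
    exact one_mem _
  have hKQ : ¬ K ≤ Q := fun h => by
    have h1 : K ≤ pCoreOf 2 K := CfsgLib.LocalCharP.le_pCoreOf le_rfl
      ((CfsgLib.LocalCharP.isPGroup_pCoreOf L).to_le h) Subgroup.le_normalizer
    rw [Subgroup.relIndex_eq_one.mpr h1] at hidx
    omega
  have hJK : J ≤ Subgroup.normalizer (K : Set G) :=
    Subgroup.le_normalizer_iff_commutator_le_left.mpr hcomm.le
  -- some `τ i` moves `K` modulo `Q`
  obtain ⟨i, y, hyK, hyP, hyQ⟩ : ∃ i, ∃ y ∈ K, y ∈ Q ⊔ Subgroup.zpowers (g i) ∧ y ∉ Q := by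
    by_contra hcon
    push Not at hcon
    let D : Subgroup G :=
      { carrier := {x | x ∈ L ∧ ∀ y ∈ K, ⁅x, y⁆ ∈ Q}
        one_mem' := ⟨one_mem _, fun y _ => by simp [commutatorElement_def]⟩
        mul_mem' := by
          rintro a b ⟨ha, ha'⟩ ⟨hb, hb'⟩
          refine ⟨mul_mem ha hb, fun y hy => ?_⟩
          have := mul_mem (conj_mem (hQn ha) (hb' y hy)) (ha' y hy)
          simpa [commutatorElement_def, mul_assoc] using this
        inv_mem' := by
          rintro a ⟨ha, ha'⟩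
          refine ⟨inv_mem ha, fun y hy => ?_⟩
          have := conj_mem (hQn (inv_mem ha)) (inv_mem (ha' y hy))
          simpa [commutatorElement_def, mul_assoc] using this }
    have hJD : J ≤ D := S.J_le.trans (sup_le (fun q hq => ⟨CfsgLib.LocalCharP.pCoreOf_le L hq, fun y hy => by
        have := mul_mem (show q ∈ Q from hq) (conj_mem (hQn (hKL hy)) (inv_mem (show q ∈ Q from hq)))
        simpa [commutatorElement_def, mul_assoc] using this⟩)
      ((Subgroup.closure_le _).mpr (by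
        rintro _ ⟨i, rfl⟩
        refine ⟨S.τ_mem_L hL i, fun y hy => hcon i _ ?_ (S.commutator_mem hL i (hKF hy))⟩
        exact mul_mem (conj_mem (hJK (S.τ_mem i)) hy) (inv_mem hy))))
    refine hKQ (hcomm ▸ Subgroup.commutator_le.mpr fun k hk j hj => ?_)
    have := inv_mem ((hJD hj).2 k hk)
    rwa [commutatorElement_inv] at this
  refine ⟨i, ?_⟩
  set P := Q ⊔ Subgroup.zpowers (g i)
  have H := S.compGen hL i
  -- `P = Q ⟨y⟩`
  obtain ⟨q, hq, n, hyn⟩ := H.exists_rep hyP
  have hn3 : ¬ 3 ∣ n := by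
    rintro ⟨d, rfl⟩
    refine hyQ ?_
    rw [hyn, pow_mul]
    exact mul_mem hq (pow_mem H.gen_cube d)
  have hgy : H.gen ∈ K ⊔ Q := by
    have hkn : H.gen ^ n ∈ K ⊔ Q := by
      have := mul_mem (inv_mem (Subgroup.mem_sup_right (S := K) hq)) (Subgroup.mem_sup_left (T := Q) hyK)
      rw [hyn] at this
      simpa using this
    have hc : Nat.Coprime n 3 := ((Nat.prime_three.coprime_iff_not_dvd).mpr hn3).symm
    obtain ⟨a, b, hab⟩ : ∃ a b : ℤ, (n : ℤ) * a + 3 * b = 1 := by
      refine ⟨Nat.gcdA n 3, Nat.gcdB n 3, ?_⟩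
      have := Nat.gcd_eq_gcd_ab n 3
      rw [hc] at this
      exact_mod_cast this.symm
    have e : H.gen = (H.gen ^ n) ^ a * (H.gen ^ 3) ^ b := by
      rw [← zpow_natCast, ← zpow_mul, show (H.gen ^ 3) = H.gen ^ (3 : ℤ) from (zpow_natCast _ 3).symm,
        ← zpow_mul, ← zpow_add, hab, zpow_one]
    rw [e]
    exact mul_mem (zpow_mem hkn a) (zpow_mem (Subgroup.mem_sup_right H.gen_cube) b)
  have hPle : P ≤ K ⊔ Q := by
    rw [show P = Q ⊔ Subgroup.zpowers H.gen from H.P_eq]
    exact sup_le le_sup_right (Subgroup.zpowers_le.mpr hgy)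
  have hKP : K ≤ P := by
    set N := (pCoreOf 2 K).subgroupOf K
    haveI hNn : N.Normal := Subgroup.normal_subgroupOf_of_le_normalizer
      (CfsgLib.LocalCharP.le_normalizer_pCoreOf K)
    have h3 : Nat.card (↥K ⧸ N) = 3 := hidx
    haveI : Fact (Nat.Prime 3) := ⟨Nat.prime_three⟩
    intro x hx
    have hy1 : QuotientGroup.mk' N ⟨y, hyK⟩ ≠ 1 := fun h => hyQ (hOK ((QuotientGroup.eq_one_iff (N := N) _).mp h))
    obtain ⟨e, he⟩ := mem_zpowers_of_prime_card h3 hy1 (g' := QuotientGroup.mk' N ⟨x, hx⟩)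
    have he' : QuotientGroup.mk' N (⟨y, hyK⟩ ^ e) = QuotientGroup.mk' N ⟨x, hx⟩ := by
      rw [map_zpow]; exact he
    rw [QuotientGroup.mk'_eq_mk'] at he'
    obtain ⟨z, hz, hze⟩ := he'
    have hze' : y ^ e * (z : G) = x := congrArg Subtype.val hze
    rw [← hze']
    exact mul_mem (zpow_mem hyP e) (Subgroup.mem_sup_left (hOK hz))
  refine le_antisymm ?_ ((Subgroup.closure_le _).mpr fun x hx => ?_)
  · rw [← hgen]
    exact (Subgroup.closure_le _).mpr fun x hx => mem_oddGen (hKP hx.1) hx.2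
  · exact mem_of_odd_of_mem_sup (CfsgLib.LocalCharP.isPGroup_pCoreOf L) hQK (hPle hx.1) hx.2

theorem isJComponent (S : LSystem T L r τ g) (hL : L ∈ jOvergroups T) (i : Fin r) :
    IsJComponent T (compOf L (g i)) :=
  (S.compGen hL i).isJComponent

theorem comp_injective (S : LSystem T L r τ g) (hL : L ∈ jOvergroups T) {i j : Fin r}
    (h : compOf L (g i) = compOf L (g j)) : i = j := by
  by_contra hij
  refine S.sep i j hij ?_
  have h1 : (S.compGen hL i).gen ∈ pCoreOf 2 L ⊔ Subgroup.zpowers (g j) :=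
    (S.compGen hL j).comp_le_P (h ▸ (S.compGen hL i).gen_mem)
  exact mem_of_two_pow_cube h1 (Subgroup.mem_sup_left (S.g_cube i))

/-- Elements of `L` normalizing the four-group of `g j` and commuting with `τ j` and `g j` modulo
`O₂(L)` centralize that four-group. -/
theorem fixes_wOf (S : LSystem T L r τ g) (hL : L ∈ jOvergroups T) (j : Fin r) {x : G} (hx : x ∈ L)
    (hxn : x ∈ Subgroup.normalizer (compOf L (g j) : Set G))
    (hxt : ⁅x, τ j⁆ ∈ pCoreOf 2 L) (hxg : ⁅x, g j⁆ ∈ pCoreOf 2 L) :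
    x ∈ Subgroup.centralizer (wOf (compOf L (g j)) : Set G) := by
  have H := S.compGen hL j
  set W := wOf (compOf L (g j)) with hW
  set k := H.gen with hk
  set a := τ j with ha
  have hWV : W ≤ sylowCenterClosure 2 L := H.wOf_le_module
  have haL : a ∈ L := S.τ_mem_L hL j
  have haW : a ∈ Subgroup.normalizer (W : Set G) := H.conj_wOf (H.J_le_normalizer (S.τ_mem j))
  have hxW : x ∈ Subgroup.normalizer (W : Set G) := H.conj_wOf hxn
  have hkW : k ∈ Subgroup.normalizer (W : Set G) := H.conj_wOf (Subgroup.le_normalizer H.gen_mem)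
  have hap : IsPGroup 2 ↥(Subgroup.zpowers a) :=
    hL.1.2.1.to_le (Subgroup.zpowers_le.mpr (CfsgLib.LocalP.thompsonSubgroupOf_le T (S.τ_mem j)))
  have hWne : W ≠ ⊥ := H.wOf_ne_bot
  obtain ⟨z, hz, hz1⟩ := (Subgroup.bot_or_exists_ne_one _).resolve_left
    (CfsgLib.LocalCharP.inf_centralizer_ne_bot (CfsgLib.LocalP.isPGroup_of_isElementaryAbelian H.wOf_elem)
      hWne hap (Subgroup.zpowers_le.mpr haW))
  have haz : a * z * a⁻¹ = z := mul_inv_eq_iff_eq_mul.mpr
    (Subgroup.mem_centralizer_iff.mp hz.2 a (Subgroup.mem_zpowers a))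
  have hzW : z ∈ W := hz.1
  have hkz : k * z * k⁻¹ ∈ W := conj_mem hkW hzW
  -- `{1, z}` is the fixed set of `a`
  have hfix : ∀ w ∈ W, a * w * a⁻¹ = w → w = 1 ∨ w = z := by
    intro w hw haw
    by_contra hcon
    push Not at hcon
    let D : Subgroup G := W ⊓ Subgroup.centralizer ({a} : Set G)
    have hD : ∀ y ∈ W, a * y * a⁻¹ = y → y ∈ D := fun y hy h => ⟨hy,
      Subgroup.mem_centralizer_singleton_iff.mpr (mul_inv_eq_iff_eq_mul.mp h).symm⟩
    have hsub : ({1, w, z} : Set G) ⊆ (D : Set G) := by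
      rintro y (rfl | rfl | rfl)
      exacts [one_mem _, hD _ hw haw, hD _ hzW haz]
    have hc := Set.ncard_le_ncard hsub (Set.toFinite _)
    rw [Set.ncard_insert_of_notMem (by simp [Ne.symm hcon.1, Ne.symm hz1]) (Set.toFinite _),
      Set.ncard_pair hcon.2, ← Nat.card_coe_set_eq] at hc
    have hc' : 3 ≤ Nat.card ↥D := hc
    have hDW : D = W := by
      obtain ⟨d, hd⟩ := Subgroup.card_dvd_of_le (inf_le_left : D ≤ W)
      rw [H.card_wOf] at hd
      have : d = 1 := by
        rcases d with _ | _ | d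
        · simp at hd
        · rfl
        · nlinarith
      exact Subgroup.eq_of_le_of_card_ge inf_le_left (by rw [H.card_wOf, hd, this, mul_one])
    -- then `k` and `k⁻¹` agree on `W`
    have hall : ∀ y ∈ W, a * y * a⁻¹ = y := fun y hy => mul_inv_eq_iff_eq_mul.mpr
      (Subgroup.mem_centralizer_singleton_iff.mp (hDW.symm ▸ hy : y ∈ D).2).symm
    have hq := H.conj_gen_inv haL (S.inv j)
    have hqK : a * k * a⁻¹ * k ∈ compOf L (g j) :=
      mul_mem (conj_mem (H.J_le_normalizer (S.τ_mem j)) H.gen_mem) H.gen_mem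
    refine hz1 (H.gen_fpf hzW ?_)
    have h1 : a * (k * z * k⁻¹) * a⁻¹ = k⁻¹ * (a * z * a⁻¹) * k := by
      have hw' : k⁻¹ * (a * z * a⁻¹) * k ∈ W := by
        simpa using conj_mem (inv_mem hkW) (conj_mem haW hzW)
      calc a * (k * z * k⁻¹) * a⁻¹ = (a * k * a⁻¹ * k) * (k⁻¹ * (a * z * a⁻¹) * k) * (a * k * a⁻¹ * k)⁻¹ := by group
        _ = _ := H.core_fix ⟨hqK, hq⟩ (H.wOf_le_U hw')
    rw [hall _ hkz, haz] at h1
    have h2 : k * (k * z * k⁻¹) * k⁻¹ = z := by rw [h1]; group
    have h3 := H.cube_fix (H.wOf_le_U hzW)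
    have h4 : k * (k * (k * z * k⁻¹) * k⁻¹) * k⁻¹ = z := by
      calc k * (k * (k * z * k⁻¹) * k⁻¹) * k⁻¹ = (k * k * k) * z * (k * k * k)⁻¹ := by group
        _ = z := by rw [← pow_three', h3]
    rw [h2] at h4
    exact h4
  have hxz : x * z * x⁻¹ = z := by
    refine (hfix _ (conj_mem hxW hzW) ?_).resolve_left fun h => hz1 (conj_eq_one_iff.mp h)
    rw [← conj_comm_module hL haL hx hxt (hWV hzW), haz]
  have hxk : ⁅x, k⁆ ∈ pCoreOf 2 L := commutator_pow_mem (S.g_mem j) hxg _
  have hxkz : x * (k * z * k⁻¹) * x⁻¹ = k * z * k⁻¹ := by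
    rw [conj_comm_module hL H.gen_mem_L hx hxk (hWV hzW), hxz]
  -- `z` and `z^k` generate `W`
  have hne : k * z * k⁻¹ ≠ z := fun h => hz1 (H.gen_fpf hzW h)
  let D : Subgroup G := W ⊓ Subgroup.centralizer ({x} : Set G)
  have hD : ∀ y ∈ W, x * y * x⁻¹ = y → y ∈ D := fun y hy h => ⟨hy,
    Subgroup.mem_centralizer_singleton_iff.mpr (mul_inv_eq_iff_eq_mul.mp h).symm⟩
  have hsub : ({1, z, k * z * k⁻¹} : Set G) ⊆ (D : Set G) := by
    rintro y (rfl | rfl | rfl)
    exacts [one_mem _, hD _ hzW hxz, hD _ hkz hxkz]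
  have hc := Set.ncard_le_ncard hsub (Set.toFinite _)
  rw [Set.ncard_insert_of_notMem
      (by simp [Ne.symm hz1, Ne.symm (fun h => hz1 (conj_eq_one_iff.mp h) : k * z * k⁻¹ ≠ 1)]) (Set.toFinite _),
    Set.ncard_pair (Ne.symm hne), ← Nat.card_coe_set_eq] at hc
  have hc' : 3 ≤ Nat.card ↥D := hc
  have hDW : D = W := by
    obtain ⟨d, hd⟩ := Subgroup.card_dvd_of_le (inf_le_left : D ≤ W)
    rw [H.card_wOf] at hd
    have : d = 1 := by
      rcases d with _ | _ | d
      · simp at hd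
      · rfl
      · nlinarith
    exact Subgroup.eq_of_le_of_card_ge inf_le_left (by rw [H.card_wOf, hd, this, mul_one])
  exact Subgroup.mem_centralizer_iff.mpr fun y hy =>
    (Subgroup.mem_centralizer_singleton_iff.mp (hDW.symm ▸ hy : y ∈ D).2)

theorem comp_centralizes (S : LSystem T L r τ g) (hL : L ∈ jOvergroups T) {i j : Fin r} (hij : i ≠ j) :
    compOf L (g i) ≤ Subgroup.centralizer (wOf (compOf L (g j)) : Set G) := by
  have hQ : pCoreOf 2 L ≤ Subgroup.centralizer (wOf (compOf L (g j)) : Set G) :=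
    (S.compGen hL j).Q_le_C.trans (Subgroup.centralizer_le (S.compGen hL j).wOf_le_module)
  refine (S.compGen hL i).comp_le_P.trans (sup_le hQ (Subgroup.zpowers_le.mpr ?_))
  refine S.fixes_wOf hL j (S.g_mem i)
    (S.oddBase_le_normalizer hL j (Subgroup.mem_sup_right (Subgroup.subset_closure ⟨i, rfl⟩))) ?_ (S.comm_gg i j)
  have h := inv_mem (S.comm_tg j i (Ne.symm hij))
  rwa [commutatorElement_inv] at h

theorem wOf_inf (S : LSystem T L r τ g) (hL : L ∈ jOvergroups T) {i j : Fin r} (hij : i ≠ j) :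
    wOf (compOf L (g i)) ⊓ wOf (compOf L (g j)) = ⊥ := by
  rw [eq_bot_iff]
  rintro w ⟨hwi, hwj⟩
  rw [Subgroup.mem_bot]
  refine (S.compGen hL i).gen_fpf hwi (mul_inv_eq_iff_eq_mul.mpr ?_)
  exact (Subgroup.mem_centralizer_iff.mp (S.comp_centralizes hL hij (S.compGen hL i).gen_mem) w hwj).symm

theorem comp_le_base (S : LSystem T L r τ g) (hL : L ∈ jOvergroups T) (i : Fin r) :
    compOf L (g i) ≤ pCoreOf 2 L ⊔ Subgroup.closure (Set.range g) ⊔ thompsonSubgroupOf 2 T :=
  (S.compGen hL i).comp_le_P.trans (sup_le (le_sup_left.trans le_sup_left)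
    ((Subgroup.zpowers_le.mpr (Subgroup.subset_closure (Set.mem_range_self i))).trans
      (le_sup_right.trans le_sup_left)))

/-- `L` permutes the components. -/
theorem exists_conj_comp (S : LSystem T L r τ g) (hG : ZN G) (hL : L ∈ jOvergroups T) {l : G} (hl : l ∈ L)
    (i : Fin r) : ∃ j, (compOf L (g i)).map (MulAut.conj l).toMonoidHom = compOf L (g j) := by
  set J := thompsonSubgroupOf 2 T with hJ
  set M := pCoreOf 2 L ⊔ Subgroup.closure (Set.range g) ⊔ J with hM
  have hML : M ≤ L := sup_le S.oddBase_le ((CfsgLib.LocalP.thompsonSubgroupOf_le T).trans hL.1.1)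
  have hn : L ⊓ Subgroup.normalizer (J : Set G) ≤ Subgroup.normalizer (M : Set G) :=
    inf_le_left.trans S.normal
  have hl' : l ∈ (M : Set G) * ((L ⊓ Subgroup.normalizer (J : Set G) : Subgroup G) : Set G) := by
    rw [← Subgroup.coe_mul_of_right_le_normalizer_left _ _ hn]; exact S.factor hl
  obtain ⟨m, hm, n, hn', rfl⟩ := hl'
  simp only [SetLike.mem_coe, Subgroup.mem_inf] at hm hn'
  have hJn : thompsonSubgroupOf 2 (T.map (MulAut.conj n).toMonoidHom) = J := by
    rw [J_map]
    exact Subgroup.mem_normalizer_iff_map_conj_eq.mp hn'.2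
  have hc : IsJComponent T ((compOf L (g i)).map (MulAut.conj n).toMonoidHom) :=
    (isJComponent_congr hJn).mp (isJComponent_map n (S.isJComponent hL i))
  have hcL : (compOf L (g i)).map (MulAut.conj n).toMonoidHom ≤ L := by
    rintro _ ⟨x, hx, rfl⟩
    exact mul_mem (mul_mem hn'.1 ((S.compGen hL i).comp_le hx)) (inv_mem hn'.1)
  obtain ⟨j, hj⟩ := S.exists_eq_comp hG hL hc hcL
  refine ⟨j, ?_⟩
  rw [show ((MulAut.conj (m * n)).toMonoidHom) =
    (MulAut.conj m).toMonoidHom.comp (MulAut.conj n).toMonoidHom by ext y; simp [mul_assoc],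
    ← Subgroup.map_map, hj]
  exact Subgroup.mem_normalizer_iff_map_conj_eq.mp (S.base_le_normalizer hL j hm)

end LSystem

/-- Components inside an overgroup are subnormal in it. -/
theorem isSubnormal_of_component {T L K : Subgroup G} (hG : ZN G) (hL : L ∈ jOvergroups T)
    (hK : IsJComponent T K) (hKL : K ≤ L) : (K.subgroupOf L).IsSubnormal := by
  obtain ⟨r, τ, g, S⟩ := exists_lSystem hG hL
  obtain ⟨i, rfl⟩ := S.exists_eq_comp hG hL hK hKL
  set M := pCoreOf 2 L ⊔ Subgroup.closure (Set.range g) ⊔ thompsonSubgroupOf 2 T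
  have hn : (M.subgroupOf L).Normal := Subgroup.normal_subgroupOf_of_le_normalizer S.normal
  refine Subgroup.IsSubnormal.step _ (M.subgroupOf L) (Subgroup.comap_mono (S.comp_le_base hL i))
    hn.isSubnormal ?_
  refine (Subgroup.normal_subgroupOf_iff_le_normalizer (Subgroup.comap_mono (S.comp_le_base hL i))).mpr ?_
  intro x hx
  exact Subgroup.mem_normalizer_iff.mpr fun y =>
    Subgroup.mem_normalizer_iff.mp (S.base_le_normalizer hL i (show (x : G) ∈ M from hx)) (y : G)

/-- Two components of `L` whose four-groups meet nontrivially are equal. -/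
theorem eq_of_wOf_inf {T L K K' : Subgroup G} (hG : ZN G) (hL : L ∈ jOvergroups T)
    (hK : IsJComponent T K) (hKL : K ≤ L) (hK' : IsJComponent T K') (hK'L : K' ≤ L)
    (h : wOf K ⊓ wOf K' ≠ ⊥) : K = K' := by
  obtain ⟨r, τ, g, S⟩ := exists_lSystem hG hL
  obtain ⟨i, rfl⟩ := S.exists_eq_comp hG hL hK hKL
  obtain ⟨j, rfl⟩ := S.exists_eq_comp hG hL hK' hK'L
  by_contra hne
  exact h (S.wOf_inf hL fun hij => hne (by rw [hij]))

/-- The image of a component of `L` under an element of `L` is again one. -/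
theorem component_conj {T L K : Subgroup G} (hG : ZN G) (hL : L ∈ jOvergroups T)
    (hK : IsJComponent T K) (hKL : K ≤ L) {l : G} (hl : l ∈ L) :
    IsJComponent T (K.map (MulAut.conj l).toMonoidHom) ∧ K.map (MulAut.conj l).toMonoidHom ≤ L := by
  obtain ⟨r, τ, g, S⟩ := exists_lSystem hG hL
  obtain ⟨i, rfl⟩ := S.exists_eq_comp hG hL hK hKL
  obtain ⟨j, hj⟩ := S.exists_conj_comp hG hL hl i
  rw [hj]
  exact ⟨S.isJComponent hL j, (S.compGen hL j).comp_le⟩

theorem exists_component {T L : Subgroup G} (hG : ZN G) (hL : L ∈ jOvergroups T) :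
    ∃ K, IsJComponent T K ∧ K ≤ L := by
  obtain ⟨r, τ, g, S⟩ := exists_lSystem hG hL
  exact ⟨_, S.isJComponent hL ⟨0, S.pos⟩, (S.compGen hL ⟨0, S.pos⟩).comp_le⟩

end CfsgLib.JComp
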