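import Cfsg.Agent.JComp.CompFacts
import Cfsg.Agent.JComp.Orbit
import Cfsg.Agent.CharP.SubnormalJoin

/-!
A subgroup of `L` subnormal in its join with `J(T)` which is a component for a conjugate of `J(T)`
is a `J(T)`-component.
-/

set_option autoImplicit false

open Cfsg
open scoped Pointwise commutatorElement

namespace CfsgLib.JComp

variable {G : Type*} [Group G] [Finite G]

local instance : Fact (Nat.Prime 2) := ⟨Nat.prime_two⟩

/-- A subnormal subgroup generated by elements of odd order is normalized by every normal 2-subgroup. -/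
theorem le_normalizer_of_isSubnormal {Y : Type*} [Group Y] [Finite Y] {K R : Subgroup Y}
    (hK : K.IsSubnormal) (hgen : Subgroup.closure {g : Y | g ∈ K ∧ Odd (orderOf g)} = K) (hR : R.Normal)
    (hRp : IsPGroup 2 ↥R) : R ≤ Subgroup.normalizer (K : Set Y) := by
  haveI := hR
  set Z := K ⊔ R
  have hK' : (K.subgroupOf Z).IsSubnormal := hK.subgroupOf
  obtain ⟨e, he⟩ := IsPGroup.iff_card.mp hRp
  have hdvd : K.relIndex Z ∣ 2 ^ e := by
    refine ⟨Nat.card ↥(K ⊓ R), ?_⟩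
    have h1 : Nat.card R * R.relIndex Z = Nat.card Z := by
      have := Subgroup.relIndex_mul_relIndex ⊥ R Z bot_le le_sup_right
      rwa [Subgroup.relIndex_bot_left, Subgroup.relIndex_bot_left] at this
    have h2 : Nat.card K * K.relIndex Z = Nat.card Z := by
      have := Subgroup.relIndex_mul_relIndex ⊥ K Z bot_le le_sup_left
      rwa [Subgroup.relIndex_bot_left, Subgroup.relIndex_bot_left] at this
    have h3 : Nat.card ↥(K ⊓ R) * R.relIndex K = Nat.card K := by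
      have := Subgroup.relIndex_mul_relIndex ⊥ (K ⊓ R) K bot_le inf_le_left
      rwa [Subgroup.relIndex_bot_left, Subgroup.relIndex_bot_left, Subgroup.inf_relIndex_left] at this
    rw [Subgroup.relIndex_sup_right] at h1
    rw [← he]
    have hpos : 0 < R.relIndex K := Nat.pos_of_ne_zero fun h0 => by
      rw [h0, mul_zero] at h3
      exact Nat.card_pos.ne h3
    refine Nat.eq_of_mul_eq_mul_right hpos ?_
    rw [h1, ← h2, ← h3]
    ring
  have key : ∀ r ∈ R, ∀ k ∈ K, r * k * r⁻¹ ∈ K := by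
    intro r hr k hk
    have hle : K ≤ K.comap (MulAut.conj r).toMonoidHom := by
      refine hgen.symm.le.trans ((Subgroup.closure_le _).mpr ?_)
      rintro x ⟨hx, hxo⟩
      show r * x * r⁻¹ ∈ K
      have hy : r * x * r⁻¹ ∈ Z := mul_mem (mul_mem (Subgroup.mem_sup_right hr) (Subgroup.mem_sup_left hx))
        (inv_mem (Subgroup.mem_sup_right hr))
      refine (CfsgLib.CharP.mem_of_coprime_index hK' ⟨_, hy⟩ ?_ :)
      rw [Subgroup.orderOf_mk, show orderOf (r * x * r⁻¹) = orderOf x from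
        MulEquiv.orderOf_eq (MulAut.conj r) x]
      exact ((Nat.coprime_two_right.mpr hxo).pow_right e).coprime_dvd_right hdvd
    exact hle hk
  intro r hr
  refine Subgroup.mem_normalizer_iff.mpr fun k => ⟨key r hr k, fun h => ?_⟩
  simpa [mul_assoc] using key r⁻¹ (inv_mem hr) _ h

/-- An element of `N R` has a 2-power power in `N`, for a 2-group `R` normalizing `N`. -/
theorem exists_two_pow_mem {N R : Subgroup G} (hR : IsPGroup 2 ↥R)
    (hn : R ≤ Subgroup.normalizer (N : Set G)) {x : G} (hx : x ∈ N ⊔ R) : ∃ e : ℕ, x ^ 2 ^ e ∈ N := by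
  obtain ⟨m, hm⟩ := exists_odd_pow x
  exact ⟨m, mem_of_odd_of_mem_sup hR hn (pow_mem hx _) hm⟩

namespace LSystem

variable {T L : Subgroup G} {r : ℕ} {τ g : Fin r → G}

theorem oddBase_comm (S : LSystem T L r τ g) {x y : G} (hx : x ∈ S.oddBase) (hy : y ∈ S.oddBase) :
    ⁅x, y⁆ ∈ pCoreOf 2 L := by
  set Q' := (pCoreOf 2 L).subgroupOf L
  haveI : Q'.Normal := Subgroup.normal_subgroupOf_of_le_normalizer (CfsgLib.LocalCharP.le_normalizer_pCoreOf L)
  set π := QuotientGroup.mk' Q'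
  let g' : Fin r → ↥L := fun i => ⟨g i, S.g_mem i⟩
  set C := Subgroup.closure (Set.range (π ∘ g'))
  have hC : C ≤ Subgroup.centralizer (C : Set (↥L ⧸ Q')) := by
    rw [Subgroup.centralizer_closure]
    refine (Subgroup.closure_le _).mpr ?_
    rintro _ ⟨i, rfl⟩
    refine Subgroup.mem_centralizer_iff.mpr ?_
    rintro _ ⟨j, rfl⟩
    have h : π ⁅g' j, g' i⁆ = 1 := (QuotientGroup.eq_one_iff _).mpr (S.comm_gg j i)
    rw [map_commutatorElement] at h
    exact commutatorElement_eq_one_iff_mul_comm.mp h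
  have hle : S.oddBase ≤ (C.comap π).map L.subtype := by
    refine sup_le (fun q hq => ⟨⟨q, CfsgLib.LocalCharP.pCoreOf_le L hq⟩, ?_, rfl⟩)
      ((Subgroup.closure_le _).mpr ?_)
    · show π _ ∈ C
      rw [show π ⟨q, CfsgLib.LocalCharP.pCoreOf_le L hq⟩ = 1 from (QuotientGroup.eq_one_iff _).mpr hq]
      exact one_mem _
    · rintro _ ⟨i, rfl⟩
      exact ⟨g' i, Subgroup.subset_closure ⟨i, rfl⟩, rfl⟩
  obtain ⟨x', hx', rfl⟩ := hle hx
  obtain ⟨y', hy', rfl⟩ := hle hy
  have h : π ⁅x', y'⁆ = 1 := by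
    rw [map_commutatorElement]
    exact commutatorElement_eq_one_iff_mul_comm.mpr (Subgroup.mem_centralizer_iff.mp (hC hy') _ hx')
  exact (QuotientGroup.eq_one_iff (⁅x', y'⁆)).mp h

/-- The 3-part is normal in `L`. -/
theorem oddBase_normal (S : LSystem T L r τ g) (hL : L ∈ jOvergroups T) :
    L ≤ Subgroup.normalizer (S.oddBase : Set G) := by
  refine CfsgLib.LocalCharP.le_normalizer_of_conj_mem fun l hl x hx => ?_
  have h1 : l * x * l⁻¹ ∈ S.oddBase ⊔ thompsonSubgroupOf 2 T := conj_mem (S.normal hl) (Subgroup.mem_sup_left hx)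
  obtain ⟨e, he⟩ := exists_two_pow_mem (J_isPGroup hL.1.2.1) (S.J_normalizes_oddBase hL) h1
  refine mem_of_two_pow_cube he (Subgroup.mem_sup_left ?_)
  rw [conj_pow]
  exact conj_mem (CfsgLib.LocalCharP.le_normalizer_pCoreOf L hl) (S.oddBase_cube hx)

/-- An element of the 3-part centralized by all `τ i` modulo `O₂(L)` lies in `O₂(L)`. -/
theorem mem_core_of_fixed (S : LSystem T L r τ g) (hL : L ∈ jOvergroups T) {x : G} (hx : x ∈ S.oddBase)
    (hfix : ∀ i, ⁅τ i, x⁆ ∈ pCoreOf 2 L) : x ∈ pCoreOf 2 L := by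
  classical
  set Q := pCoreOf 2 L
  have hQn := CfsgLib.LocalCharP.le_normalizer_pCoreOf (p := 2) L
  suffices key : ∀ s : Finset (Fin r), ∀ y ∈ Q ⊔ Subgroup.closure (g '' (s : Set (Fin r))),
      (∀ i ∈ s, ⁅τ i, y⁆ ∈ Q) → y ∈ Q by
    refine key Finset.univ x ?_ fun i _ => hfix i
    rwa [Finset.coe_univ, Set.image_univ]
  intro s
  induction s using Finset.induction_on with
  | empty => intro y hy _; simpa using hy
  | insert i s his ih =>
    intro y hy hyfix
    set F := Q ⊔ Subgroup.closure (g '' (s : Set (Fin r)))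
    have hFL : F ≤ L := sup_le (CfsgLib.LocalCharP.pCoreOf_le L) ((Subgroup.closure_le _).mpr (by
      rintro _ ⟨j, -, rfl⟩; exact S.g_mem j))
    have hgn : Subgroup.zpowers (g i) ≤ Subgroup.normalizer (F : Set G) := by
      refine CfsgLib.LocalCharP.le_normalizer_of_conj_mem fun z hz w hw => ?_
      have hzF : z ∈ S.oddBase :=
        (Subgroup.zpowers_le.mpr (Subgroup.mem_sup_right (Subgroup.subset_closure (Set.mem_range_self i)))) hz
      have hwF : w ∈ S.oddBase := sup_le_sup_left (Subgroup.closure_mono (Set.image_subset_range _ _)) _ hw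
      have := mul_mem (Subgroup.mem_sup_left (T := Subgroup.closure (g '' (s : Set (Fin r)))) (S.oddBase_comm hzF hwF)) hw
      simpa [commutatorElement_def, mul_assoc] using this
    have hy' : y ∈ F ⊔ Subgroup.zpowers (g i) := by
      rw [Finset.coe_insert, Set.image_insert_eq, Set.insert_eq, Subgroup.closure_union,
        ← Subgroup.zpowers_eq_closure] at hy
      exact (sup_le (le_sup_left.trans le_sup_left) (sup_le le_sup_right (le_sup_right.trans le_sup_left)) :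
        Q ⊔ (Subgroup.zpowers (g i) ⊔ Subgroup.closure (g '' (s : Set (Fin r)))) ≤ F ⊔ Subgroup.zpowers (g i)) hy
    have hy'' : y ∈ (F : Set G) * (Subgroup.zpowers (g i) : Set G) := by
      rw [← Subgroup.coe_mul_of_right_le_normalizer_left _ _ hgn]; exact hy'
    obtain ⟨f, hf, z, hz, rfl⟩ := hy''
    obtain ⟨n, rfl⟩ := (isOfFinOrder_of_finite (g i)).mem_powers_iff_mem_zpowers.mpr hz
    simp only [SetLike.mem_coe] at hf
    simp only at hyfix ⊢
    have hτL := S.τ_mem_L hL i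
    -- `τ i` centralizes `F` modulo `Q`
    have hfQ : ⁅τ i, f⁆ ∈ Q := by
      let D : Subgroup G :=
        { carrier := {w | w ∈ L ∧ ⁅τ i, w⁆ ∈ Q}
          one_mem' := ⟨one_mem _, by simp [commutatorElement_def]⟩
          mul_mem' := by
            rintro a b ⟨ha, ha'⟩ ⟨hb, hb'⟩
            refine ⟨mul_mem ha hb, ?_⟩
            have := mul_mem ha' (conj_mem (hQn ha) hb')
            simpa [commutatorElement_def, mul_assoc] using this
          inv_mem' := by
            rintro a ⟨ha, ha'⟩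
            refine ⟨inv_mem ha, ?_⟩
            have := conj_mem (hQn (inv_mem ha)) (inv_mem ha')
            simpa [commutatorElement_def, mul_assoc] using this }
      have hFD : F ≤ D := sup_le (fun q hq => ⟨CfsgLib.LocalCharP.pCoreOf_le L hq, by
          have := mul_mem (conj_mem (hQn hτL) hq) (inv_mem hq)
          simpa [commutatorElement_def, mul_assoc] using this⟩) ((Subgroup.closure_le _).mpr (by
        rintro _ ⟨j, hj, rfl⟩
        exact ⟨S.g_mem j, S.comm_tg i j fun h => his (h ▸ hj)⟩))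
      exact (hFD hf).2
    have hgn' : ⁅τ i, g i ^ n⁆ ∈ Q := by
      have h1 := hyfix i (Finset.mem_insert_self i s)
      have h2 := conj_mem (hQn (inv_mem (hFL hf))) (mul_mem (inv_mem hfQ) h1)
      simpa [commutatorElement_def, mul_assoc] using h2
    have hgi : g i ^ n ∈ Q := by
      have hinv : τ i * g i ^ n * (τ i)⁻¹ * g i ^ n ∈ Q := by
        induction n with
        | zero => simp
        | succ n ih' =>
          clear hyfix hy hy' hz hgn'
          have key : ∀ m : ℕ, τ i * g i ^ m * (τ i)⁻¹ * g i ^ m ∈ Q := by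
            intro m
            induction m with
            | zero => simp
            | succ m ihm =>
              have h1 : (g i)⁻¹ * (τ i * g i ^ m * (τ i)⁻¹ * g i ^ m) * g i ∈ Q := by
                simpa using conj_mem (hQn (inv_mem (S.g_mem i))) ihm
              have e : τ i * g i ^ (m + 1) * (τ i)⁻¹ * g i ^ (m + 1) =
                  τ i * g i * (τ i)⁻¹ * g i * ((g i)⁻¹ * (τ i * g i ^ m * (τ i)⁻¹ * g i ^ m) * g i) := by
                calc _ = τ i * (g i * g i ^ m) * (τ i)⁻¹ * (g i ^ m * g i) := by rw [← pow_succ', ← pow_succ]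
                  _ = _ := by group
              rw [e]
              exact mul_mem (S.inv i) h1
          exact key _
      have h2 : (g i ^ n) ^ 2 ∈ Q := by
        have := mul_mem (inv_mem hgn') hinv
        simpa [commutatorElement_def, sq, mul_assoc] using this
      refine mem_of_two_pow_cube (m := 1) (by rwa [pow_one]) ?_
      rw [← pow_mul, mul_comm, pow_mul]
      exact pow_mem (S.g_cube i) n
    refine ih _ (mul_mem hf (Subgroup.mem_sup_left hgi)) fun j hj => hyfix j (Finset.mem_insert_of_mem hj)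

end LSystem

theorem isJComponent_of_subnormal {T L K : Subgroup G} (hG : ZN G) (hL : L ∈ jOvergroups T)
    (hKL : K ≤ L) (hKsn : (K.subgroupOf (K ⊔ thompsonSubgroupOf 2 T)).IsSubnormal)
    (g : G) (hKg : K ∈ jComponentsZero (T.map (MulAut.conj g).toMonoidHom)) : IsJComponent T K := by
  obtain ⟨r, τ, gg, S⟩ := exists_lSystem hG hL
  have hKc : IsJComponent (T.map (MulAut.conj g).toMonoidHom) K := hKg.1
  obtain ⟨k, hk⟩ := exists_compElt hKc
  set J := thompsonSubgroupOf 2 T with hJdef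
  set X := K ⊔ J with hX
  set Q := pCoreOf 2 L
  have hJT : J ≤ T := CfsgLib.LocalP.thompsonSubgroupOf_le T
  have hJL : J ≤ L := hJT.trans hL.1.1
  have hXL : X ≤ L := sup_le hKL hJL
  have hKX : K ≤ X := le_sup_left
  have hQn := CfsgLib.LocalCharP.le_normalizer_pCoreOf (p := 2) L
  set OX := pCoreOf 2 X with hOX
  have hOXn : X ≤ Subgroup.normalizer (OX : Set G) := CfsgLib.LocalCharP.le_normalizer_pCoreOf X
  have hOXp : IsPGroup 2 ↥OX := CfsgLib.LocalCharP.isPGroup_pCoreOf X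
  -- odd generation inside `X`
  have hKgen : Subgroup.closure {y : ↥X | y ∈ K.subgroupOf X ∧ Odd (orderOf y)} = K.subgroupOf X := by
    apply Subgroup.map_injective X.subtype_injective
    rw [MonoidHom.map_closure, Subgroup.map_subgroupOf_eq_of_le hKX]
    conv_rhs => rw [← hKc.1]
    congr 1
    ext y
    constructor
    · rintro ⟨y', ⟨h1, h2⟩, rfl⟩
      exact ⟨h1, by rwa [Subgroup.coe_subtype, Subgroup.orderOf_coe]⟩
    · rintro ⟨h1, h2⟩
      exact ⟨⟨y, hKX h1⟩, ⟨h1, by rwa [Subgroup.orderOf_mk]⟩, rfl⟩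
  have hOXK : OX ≤ Subgroup.normalizer (K : Set G) := by
    rintro _ ⟨q, hq, rfl⟩
    have h := le_normalizer_of_isSubnormal hKsn hKgen (pCore_normal 2 ↥X) CfsgLib.CharP.isPGroup_pCore hq
    refine Subgroup.mem_normalizer_iff.mpr fun y => ⟨fun hy => ?_, fun hy => ?_⟩
    · exact (Subgroup.mem_normalizer_iff.mp h ⟨y, hKX hy⟩).mp hy
    · have hyX : y ∈ X := by
        have := mul_mem (mul_mem (inv_mem q.2) (hKX hy)) q.2
        simpa [mul_assoc] using this
      exact (Subgroup.mem_normalizer_iff.mp h ⟨y, hyX⟩).mpr hy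
  have hOK : pCoreOf 2 K ≤ OX := by
    intro y hy
    have hyX : y ∈ X := hKX (CfsgLib.LocalCharP.pCoreOf_le K hy)
    refine ⟨⟨y, hyX⟩, ?_, rfl⟩
    have hsn : ((pCoreOf 2 K).subgroupOf X).IsSubnormal := by
      refine Subgroup.IsSubnormal.step _ (K.subgroupOf X)
        (Subgroup.comap_mono (CfsgLib.LocalCharP.pCoreOf_le K)) hKsn ?_
      refine (Subgroup.normal_subgroupOf_iff_le_normalizer
        (Subgroup.comap_mono (CfsgLib.LocalCharP.pCoreOf_le K))).mpr ?_
      intro z hz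
      exact Subgroup.mem_normalizer_iff.mpr fun w =>
        Subgroup.mem_normalizer_iff.mp (CfsgLib.LocalCharP.le_normalizer_pCoreOf K hz) (w : G)
    exact CfsgLib.LocalCharP.le_pCore_of_isSubnormal hsn
      ((CfsgLib.LocalCharP.isPGroup_pCoreOf K).comap_of_injective _ X.subtype_injective)
      (show (⟨y, hyX⟩ : ↥X) ∈ (pCoreOf 2 K).subgroupOf X from hy)
  have hKO : K ⊓ OX ≤ pCoreOf 2 K := CfsgLib.LocalCharP.le_pCoreOf inf_le_left (hOXp.to_le inf_le_right)
    fun x hx => Subgroup.inf_normalizer_le_normalizer_inf ⟨Subgroup.le_normalizer hx, hOXn (hKX hx)⟩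
  set W := wOf K with hW
  have hW4 : Nat.card W = 4 := hKc.2.2.2.2.1
  have hWel : IsElementaryAbelian 2 W := wOf_elementary hKc
  have hWOX : W ≤ OX := (wOf_le_pCoreOf hKc).trans hOK
  have hkW : k ∈ Subgroup.normalizer (W : Set G) := hk.mem_normalizer_wOf
  have hfpf : ∀ w ∈ W, k * w * k⁻¹ = w → w = 1 := fun w hw h => hk.fpf hKc hw h
  -- `O₂(X)` centralizes the four-group
  have hOXW : W ≤ Subgroup.centralizer (OX : Set G) := by
    have hWne : W ≠ ⊥ := wOf_ne_bot hKc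
    have hnW : OX ≤ Subgroup.normalizer (W : Set G) := hOXK.trans (normalizer_le_normalizer_wOf K)
    obtain ⟨z, hz, hz1⟩ := (Subgroup.bot_or_exists_ne_one _).resolve_left
      (CfsgLib.LocalCharP.inf_centralizer_ne_bot (CfsgLib.LocalP.isPGroup_of_isElementaryAbelian hWel) hWne hOXp hnW)
    set D := W ⊓ Subgroup.centralizer (OX : Set G) with hD
    have hkz : k * z * k⁻¹ ∈ D := by
      refine ⟨conj_mem hkW hz.1, Subgroup.mem_centralizer_iff.mpr fun q hq => mul_inv_eq_iff_eq_mul.mp ?_⟩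
      have hqz : q * z * q⁻¹ = z := mul_inv_eq_iff_eq_mul.mpr (Subgroup.mem_centralizer_iff.mp hz.2 q hq)
      have hc : q * k * q⁻¹ * k⁻¹ ∈ pCoreOf 2 K := by
        refine hKO (Subgroup.mem_inf.mpr ⟨mul_mem (conj_mem (hOXK hq) hk.mem) (inv_mem hk.mem), ?_⟩)
        have := mul_mem hq (conj_mem (hOXn (hKX hk.mem)) (inv_mem hq))
        simpa [mul_assoc] using this
      calc q * (k * z * k⁻¹) * q⁻¹ = (q * k * q⁻¹ * k⁻¹) * (k * (q * z * q⁻¹) * k⁻¹) * (q * k * q⁻¹ * k⁻¹)⁻¹ := by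
            group
        _ = _ := by rw [hqz]; exact core_fix_omega hc (hk.conj_omega (wOf_le_omega hKc hz.1))
    have hne : k * z * k⁻¹ ≠ z := fun h => hz1 (hfpf z hz.1 h)
    have hsub : ({1, z, k * z * k⁻¹} : Set G) ⊆ (D : Set G) := by
      rintro y (rfl | rfl | rfl)
      exacts [one_mem _, hz, hkz]
    have hc := Set.ncard_le_ncard hsub (Set.toFinite _)
    rw [Set.ncard_insert_of_notMem
        (by simp [Ne.symm hz1, Ne.symm (fun h => hz1 (conj_eq_one_iff.mp h) : k * z * k⁻¹ ≠ 1)]) (Set.toFinite _),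
      Set.ncard_pair (Ne.symm hne), ← Nat.card_coe_set_eq] at hc
    have hc' : 3 ≤ Nat.card ↥D := hc
    obtain ⟨d, hd⟩ := Subgroup.card_dvd_of_le (inf_le_left : D ≤ W)
    rw [hW4] at hd
    have hd1 : d = 1 := by
      rcases d with _ | _ | d
      · simp at hd
      · rfl
      · nlinarith
    have hDW : D = W := Subgroup.eq_of_le_of_card_ge inf_le_left (by rw [hW4, hd, hd1, mul_one])
    exact hDW.symm.le.trans inf_le_right
  set ZX := OX ⊓ Subgroup.centralizer (OX : Set G) with hZX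
  have hWZ : W ≤ ZX := le_inf hWOX hOXW
  -- the part of `X` in the 3-part of `L`
  set E := X ⊓ S.oddBase with hE
  have hEn : X ≤ Subgroup.normalizer (E : Set G) := fun x hx =>
    Subgroup.inf_normalizer_le_normalizer_inf ⟨Subgroup.le_normalizer hx, S.oddBase_normal hL (hXL hx)⟩
  let Cent : Subgroup G :=
    { carrier := {x | x ∈ X ∧ ∀ e ∈ E, ⁅x, e⁆ ∈ Q}
      one_mem' := ⟨one_mem _, fun e _ => by simp [commutatorElement_def]⟩
      mul_mem' := by
        rintro a b ⟨ha, ha'⟩ ⟨hb, hb'⟩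
        refine ⟨mul_mem ha hb, fun e he => ?_⟩
        have := mul_mem (conj_mem (hQn (hXL ha)) (hb' e he)) (ha' e he)
        simpa [commutatorElement_def, mul_assoc] using this
      inv_mem' := by
        rintro a ⟨ha, ha'⟩
        refine ⟨inv_mem ha, fun e he => ?_⟩
        have := conj_mem (hQn (inv_mem (hXL ha))) (inv_mem (ha' e he))
        simpa [commutatorElement_def, mul_assoc] using this }
  have hCentX : Cent ≤ X := fun x hx => hx.1
  have hCentn : X ≤ Subgroup.normalizer (Cent : Set G) := by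
    refine CfsgLib.LocalCharP.le_normalizer_of_conj_mem fun x hx c hc => ⟨mul_mem (mul_mem hx hc.1) (inv_mem hx), fun e he => ?_⟩
    have he' : x⁻¹ * e * x ∈ E := by simpa using conj_mem (hEn (inv_mem hx)) he
    have := conj_mem (hQn (hXL hx)) (hc.2 _ he')
    simpa [commutatorElement_def, mul_assoc] using this
  have hOXC : OX ≤ Cent := fun q hq => by
    refine ⟨CfsgLib.LocalCharP.pCoreOf_le X hq, fun e he => ?_⟩
    have h1 : ⁅q, e⁆ ∈ OX := by
      have := mul_mem hq (conj_mem (hOXn he.1) (inv_mem hq))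
      simpa [commutatorElement_def, mul_assoc] using this
    have h2 : ⁅q, e⁆ ∈ S.oddBase :=
      mul_mem (conj_mem (S.oddBase_normal hL (hXL (CfsgLib.LocalCharP.pCoreOf_le X hq))) he.2) (inv_mem he.2)
    obtain ⟨m, hm⟩ := hOXp ⟨_, h1⟩
    refine mem_of_two_pow_cube (m := m) ?_ (S.oddBase_cube h2)
    rw [show ⁅q, e⁆ ^ 2 ^ m = 1 from congrArg Subtype.val hm]
    exact one_mem _
  have hEC : E ≤ Cent := fun x hx => ⟨hx.1, fun e he => S.oddBase_comm hx.2 he.2⟩
  have hJn : J ≤ Subgroup.normalizer (Cent : Set G) := le_sup_right.trans hCentn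
  have hJp : IsPGroup 2 ↥J := J_isPGroup hL.1.2.1
  set M := pCoreOf 2 L ⊔ Subgroup.closure (Set.range gg) ⊔ J with hM
  have hXM : X ⊓ M ≤ E ⊔ J := by
    rintro x ⟨hxX, hxM⟩
    have hx' : x ∈ (S.oddBase : Set G) * (J : Set G) := by
      rw [← Subgroup.coe_mul_of_right_le_normalizer_left _ _ (S.J_normalizes_oddBase hL)]
      exact hxM
    obtain ⟨f, hf, j, hj, rfl⟩ := hx'
    have hfX : f ∈ X := by
      have := X.mul_mem hxX (X.inv_mem (Subgroup.mem_sup_right (S := K) hj))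
      simpa using this
    exact mul_mem (Subgroup.mem_sup_left ⟨hfX, hf⟩) (Subgroup.mem_sup_right hj)
  have hcomJ : ∀ a ∈ J, ∀ x ∈ X, ⁅a, x⁆ ∈ X ⊓ M := by
    intro a ha x hx
    refine Subgroup.mem_inf.mpr ⟨?_, ?_⟩
    · exact mul_mem (mul_mem (mul_mem (Subgroup.mem_sup_right ha) hx) (inv_mem (Subgroup.mem_sup_right ha))) (inv_mem hx)
    · have haM : a ∈ M := Subgroup.mem_sup_right ha
      have := mul_mem haM (conj_mem (S.normal (hXL hx)) (inv_mem haM))
      simpa [commutatorElement_def, mul_assoc] using this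
  -- `[J, k]` centralizes the 3-part of `X`
  have hak : ∀ a ∈ J, ⁅a, k⁆ ∈ Cent := by
    intro a ha
    set N := Cent.subgroupOf X
    haveI hNn : N.Normal := Subgroup.normal_subgroupOf_of_le_normalizer hCentn
    set π := QuotientGroup.mk' N
    set J' := (J.subgroupOf X).map π with hJ'
    have hJ'p : IsPGroup 2 ↥J' := (hJp.comap_of_injective _ X.subtype_injective : IsPGroup 2 ↥(J.subgroupOf X)).map π
    have hJ'n : J'.Normal := by
      refine ⟨fun y hy q => ?_⟩
      obtain ⟨j, hj, rfl⟩ := hy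
      obtain ⟨x, rfl⟩ := QuotientGroup.mk'_surjective N q
      have h1 : ⁅(j : G), (x : G)⁆ ∈ E ⊔ J := hXM (hcomJ _ hj _ x.2)
      have hJnE : J ≤ Subgroup.normalizer (E : Set G) := le_sup_right.trans hEn
      have h2 : (x : G) * j * (x : G)⁻¹ ∈ Cent ⊔ J := by
        have h3 : ⁅(j : G), (x : G)⁆⁻¹ * j ∈ Cent ⊔ J :=
          mul_mem (inv_mem (sup_le_sup_right hEC J h1)) (Subgroup.mem_sup_right hj)
        simpa [commutatorElement_def, mul_assoc] using h3
      have h4 : (x : G) * j * (x : G)⁻¹ ∈ (Cent : Set G) * (J : Set G) := by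
        rw [← Subgroup.coe_mul_of_right_le_normalizer_left _ _ hJn]; exact h2
      obtain ⟨c, hc, j', hj', hce⟩ := h4
      refine ⟨⟨j', Subgroup.mem_sup_right hj'⟩, hj', ?_⟩
      have hcX : c ∈ X := hCentX hc
      have e : x * j * x⁻¹ = (⟨c, hcX⟩ : ↥X) * ⟨j', Subgroup.mem_sup_right hj'⟩ := Subtype.ext hce.symm
      rw [← map_inv, ← map_mul, ← map_mul, e, map_mul,
        show π ⟨c, hcX⟩ = 1 from (QuotientGroup.eq_one_iff _).mpr hc, one_mul]
    set K' := (K.subgroupOf X).map π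
    have hK'sn : K'.IsSubnormal := hKsn.map (QuotientGroup.mk'_surjective N)
    have hK'gen : Subgroup.closure {y | y ∈ K' ∧ Odd (orderOf y)} = K' := by
      refine le_antisymm ((Subgroup.closure_le _).mpr fun y hy => hy.1) ?_
      show (K.subgroupOf X).map π ≤ _
      conv_lhs => rw [← hKgen]
      rw [MonoidHom.map_closure]
      refine Subgroup.closure_mono ?_
      rintro _ ⟨y, ⟨hy1, hy2⟩, rfl⟩
      exact ⟨Subgroup.mem_map_of_mem π hy1, hy2.of_dvd_nat (orderOf_map_dvd π y)⟩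
    have hn := le_normalizer_of_isSubnormal hK'sn hK'gen hJ'n hJ'p
    have haX : a ∈ X := Subgroup.mem_sup_right ha
    have hkX : k ∈ X := hKX hk.mem
    set a' : ↥X := ⟨a, haX⟩
    set k' : ↥X := ⟨k, hkX⟩
    have h1 : π ⁅a', k'⁆ ∈ K' := by
      rw [map_commutatorElement, commutatorElement_def]
      exact mul_mem (conj_mem (hn (Subgroup.mem_map_of_mem π ha)) (Subgroup.mem_map_of_mem π hk.mem))
        (inv_mem (Subgroup.mem_map_of_mem π hk.mem))
    have h2 : π ⁅a', k'⁆ ∈ J' := by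
      rw [map_commutatorElement, commutatorElement_def, mul_assoc, mul_assoc, ← mul_assoc (π k')]
      exact mul_mem (Subgroup.mem_map_of_mem π ha)
        (hJ'n.conj_mem _ (inv_mem (Subgroup.mem_map_of_mem π ha)) _)
    obtain ⟨y, hy, hye⟩ := h1
    obtain ⟨q, hq, n, hqn⟩ := hk.rep (y : G) hy
    have hqX : q ∈ X := hKX (CfsgLib.LocalCharP.pCoreOf_le K hq)
    have hy' : π y = π k' ^ n := by
      rw [show y = (⟨q, hqX⟩ : ↥X) * k' ^ n from Subtype.ext hqn, map_mul,
        show π ⟨q, hqX⟩ = 1 from (QuotientGroup.eq_one_iff _).mpr (hOXC (hOK hq)), one_mul, map_pow]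
    have h3 : (π ⁅a', k'⁆) ^ 3 = 1 := by
      rw [← hye, hy', ← pow_mul, mul_comm, pow_mul, ← map_pow]
      rw [show π (k' ^ 3) = 1 from (QuotientGroup.eq_one_iff _).mpr (hOXC (hOK hk.cube)), one_pow]
    exact (QuotientGroup.eq_one_iff (N := N) _).mp (eq_one_of_pow_three hJ'p h2 h3)
  -- `k` centralizes the 3-part of `X`
  have hkE : k ∈ Cent := by
    refine ⟨hKX hk.mem, fun e he => S.mem_core_of_fixed hL
      (mul_mem (conj_mem (S.oddBase_normal hL (hKL hk.mem)) he.2) (inv_mem he.2)) fun i => ?_⟩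
    set ε := ⁅τ i, e⁆ with hε
    have hτX : τ i ∈ X := Subgroup.mem_sup_right (S.τ_mem i)
    have hεE : ε ∈ E := mul_mem (conj_mem (hEn hτX) he) (inv_mem he)
    have hεP : ε ∈ pCoreOf 2 L ⊔ Subgroup.zpowers (gg i) := S.commutator_mem hL i he.2
    have hkn := hEn (hKX hk.mem)
    set e₁ := k * e * k⁻¹ with he₁
    have he₁E : e₁ ∈ E := conj_mem hkn he
    set ε₁ := ⁅τ i, e₁⁆ with hε₁
    have hε₁P : ε₁ ∈ pCoreOf 2 L ⊔ Subgroup.zpowers (gg i) := S.commutator_mem hL i he₁E.2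
    -- `k ε k⁻¹ ≡ [τ i, k e k⁻¹]`
    have hke : k * ε * k⁻¹ * ε₁⁻¹ ∈ Q := by
      have hc := hak (τ i) (S.τ_mem i)
      have h1 : ⁅⁅τ i, k⁆⁻¹, τ i * e₁ * (τ i)⁻¹⁆ ∈ Q :=
        (inv_mem hc).2 _ (conj_mem (hEn hτX) he₁E)
      have e' : k * ε * k⁻¹ * ε₁⁻¹ = ⁅⁅τ i, k⁆⁻¹, τ i * e₁ * (τ i)⁻¹⁆ := by
        rw [hε, hε₁, he₁]; simp only [commutatorElement_def]; group
      rw [e']; exact h1
    obtain ⟨q, hq, n, hεn⟩ := (S.compGen hL i).exists_rep hεP
    obtain ⟨q₁, hq₁, n₁, hεn₁⟩ := (S.compGen hL i).exists_rep hε₁P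
    -- work modulo `Q`
    set Q' := Q.subgroupOf L
    haveI : Q'.Normal := Subgroup.normal_subgroupOf_of_le_normalizer hQn
    set π := QuotientGroup.mk' Q'
    set c : ↥L := ⟨(S.compGen hL i).gen, (S.compGen hL i).gen_mem_L⟩
    set k' : ↥L := ⟨k, hKL hk.mem⟩
    have hεL : ε ∈ L := hXL hεE.1
    have hπε : π ⟨ε, hεL⟩ = π c ^ n := by
      rw [show (⟨ε, hεL⟩ : ↥L) = ⟨q, CfsgLib.LocalCharP.pCoreOf_le L hq⟩ * c ^ n from Subtype.ext hεn,
        map_mul, show π ⟨q, CfsgLib.LocalCharP.pCoreOf_le L hq⟩ = 1 from (QuotientGroup.eq_one_iff _).mpr hq,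
        one_mul, map_pow]
    have hε₁L : ε₁ ∈ L := by
      have : ε₁ ∈ E := mul_mem (conj_mem (hEn hτX) he₁E) (inv_mem he₁E)
      exact hXL this.1
    have hπε₁ : π ⟨ε₁, hε₁L⟩ = π c ^ n₁ := by
      rw [show (⟨ε₁, hε₁L⟩ : ↥L) = ⟨q₁, CfsgLib.LocalCharP.pCoreOf_le L hq₁⟩ * c ^ n₁ from Subtype.ext hεn₁,
        map_mul, show π ⟨q₁, CfsgLib.LocalCharP.pCoreOf_le L hq₁⟩ = 1 from (QuotientGroup.eq_one_iff _).mpr hq₁,
        one_mul, map_pow]
    have hπk : π k' * π ⟨ε, hεL⟩ * (π k')⁻¹ = π ⟨ε₁, hε₁L⟩ := by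
      rw [← map_inv, ← map_mul, ← map_mul, ← mul_inv_eq_one, ← map_inv, ← map_mul]
      exact (QuotientGroup.eq_one_iff _).mpr hke
    have hc3 : π c ^ 3 = 1 := by
      rw [← map_pow]; exact (QuotientGroup.eq_one_iff _).mpr (S.compGen hL i).gen_cube
    -- an element of odd order conjugating `ε` inside `⟨c⟩` centralizes it
    have hfix : π k' * π ⟨ε, hεL⟩ * (π k')⁻¹ = π ⟨ε, hεL⟩ := by
      by_contra hne
      rw [hπε] at hne hπk
      rw [hπε₁] at hπk
      have hn0 : π c ^ n ≠ 1 := fun h => hne (by rw [h]; group)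
      have hn1 : π c ^ n₁ ≠ 1 := fun h => hn0 (conj_eq_one_iff.mp (hπk.trans h))
      have hdvd : ∀ m : ℕ, π c ^ m ≠ 1 → π c ^ m = π c ∨ π c ^ m = π c ^ 2 := fun m hm => by
        rw [pow_eq_pow_mod m hc3] at hm ⊢
        have : m % 3 < 3 := Nat.mod_lt _ (by norm_num)
        interval_cases h : m % 3
        · exact absurd (pow_zero _) hm
        · exact Or.inl (pow_one _)
        · exact Or.inr rfl
      have hinv : π k' * π c ^ n * (π k')⁻¹ = (π c ^ n)⁻¹ := by
        have hc2 : π c ^ 2 = (π c)⁻¹ := eq_inv_of_mul_eq_one_left (by rw [← pow_succ, hc3])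
        rw [hπk]
        rcases hdvd n hn0 with h | h <;> rcases hdvd n₁ hn1 with h' | h'
        · exact absurd (hπk.trans (h'.trans h.symm)) hne
        · rw [h, h', hc2]
        · rw [h, h', hc2, inv_inv]
        · exact absurd (hπk.trans (h'.trans h.symm)) hne
      have hk2 : π k' ^ 2 * π c ^ n * (π k' ^ 2)⁻¹ = π c ^ n := by
        calc π k' ^ 2 * π c ^ n * (π k' ^ 2)⁻¹ = π k' * (π k' * π c ^ n * (π k')⁻¹) * (π k')⁻¹ := by
              rw [sq]; group
          _ = (π k' * π c ^ n * (π k')⁻¹)⁻¹ := by rw [hinv, ← conj_inv, hinv]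
          _ = _ := by rw [hinv, inv_inv]
      obtain ⟨m, hm⟩ : Odd (orderOf (π k')) :=
        (show Odd (orderOf k') by rw [Subgroup.orderOf_mk]; exact hk.odd).of_dvd_nat (orderOf_map_dvd π k')
      have hpow : ∀ t : ℕ, (π k' ^ 2) ^ t * π c ^ n * ((π k' ^ 2) ^ t)⁻¹ = π c ^ n := by
        intro t
        induction t with
        | zero => group
        | succ t iht =>
          calc (π k' ^ 2) ^ (t + 1) * π c ^ n * ((π k' ^ 2) ^ (t + 1))⁻¹ =
              π k' ^ 2 * ((π k' ^ 2) ^ t * π c ^ n * ((π k' ^ 2) ^ t)⁻¹) * (π k' ^ 2)⁻¹ := by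
                rw [pow_succ']; group
            _ = _ := by rw [iht, hk2]
      refine hne ?_
      have hkm : (π k' ^ 2) ^ (m + 1) = π k' := by
        rw [← pow_mul, show 2 * (m + 1) = orderOf (π k') + 1 by omega, pow_succ, pow_orderOf_eq_one, one_mul]
      have := hpow (m + 1)
      rwa [hkm] at this
    have h1 : ε₁ * ε⁻¹ ∈ Q := by
      have h2 : π (⟨ε₁, hε₁L⟩ * ⟨ε, hεL⟩⁻¹) = 1 := by
        rw [map_mul, map_inv, ← hπk, hfix, mul_inv_cancel]
      exact (QuotientGroup.eq_one_iff (N := Q') _).mp h2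
    -- `[τ i, k e k⁻¹ e⁻¹] ≡ ε₁ ε⁻¹`
    have hd : e₁ * e⁻¹ ∈ S.oddBase := mul_mem he₁E.2 (inv_mem he.2)
    have hcc : ⁅e₁, ⁅τ i, e⁻¹⁆⁆ ∈ Q :=
      S.oddBase_comm he₁E.2 (mul_mem (conj_mem (S.oddBase_normal hL (S.τ_mem_L hL i)) (inv_mem he.2))
        (inv_mem (inv_mem he.2)))
    have hce : ⁅e⁻¹, ε⁆ ∈ Q := S.oddBase_comm (inv_mem he.2) hεE.2
    have hεe : ⁅τ i, e⁻¹⁆ * ε ∈ Q := by
      have e' : ⁅τ i, e⁻¹⁆ * ε = ⁅e⁻¹, ε⁆⁻¹ * ⁅e⁻¹, ε⁆ * (⁅τ i, e⁻¹⁆ * ε) := by group
      have e'' : ⁅τ i, e⁻¹⁆ = e⁻¹ * ε⁻¹ * e := by rw [hε]; simp only [commutatorElement_def]; group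
      rw [e'']
      have h3 : ⁅e⁻¹, ε⁻¹⁆ ∈ Q := S.oddBase_comm (inv_mem he.2) (inv_mem hεE.2)
      simpa [commutatorElement_def, mul_assoc] using h3
    show ⁅τ i, e₁ * e⁻¹⁆ ∈ Q
    have h4 := mul_mem (conj_mem (hQn (hXL (mul_mem (mul_mem (conj_mem (hEn hτX) he₁E) (inv_mem he₁E)) hεE).1))
      hεe) h1
    have h5 : ⁅τ i, e₁ * e⁻¹⁆ = ε₁ * (⁅e₁, ⁅τ i, e⁻¹⁆⁆ * ⁅τ i, e⁻¹⁆) := by
      rw [hε₁]; simp only [commutatorElement_def]; group
    have h6 : ε₁ * ⁅τ i, e⁻¹⁆ ∈ Q := by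
      have h7 := conj_mem (hQn hε₁L) hεe
      have h8 := mul_mem h7 h1
      simpa [mul_assoc] using h8
    rw [h5]
    have h9 := mul_mem (conj_mem (hQn hε₁L) hcc) h6
    simpa [mul_assoc] using h9
  -- `[k, a k a⁻¹]` lies in `O₂(X)` for `a` in `J`
  have hkk : ∀ a ∈ J, ⁅k, a * k * a⁻¹⁆ ∈ OX := by
    intro a ha
    set R := X ⊓ M ⊓ Cent with hR
    have hRn : X ≤ Subgroup.normalizer (R : Set G) := fun x hx =>
      Subgroup.inf_normalizer_le_normalizer_inf ⟨Subgroup.inf_normalizer_le_normalizer_inf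
        ⟨Subgroup.le_normalizer hx, S.normal (hXL hx)⟩, hCentn hx⟩
    set P := (Q ⊓ X) ⊔ (J ⊓ Cent) with hP
    have hPX : P ≤ X := sup_le inf_le_right (inf_le_left.trans le_sup_right)
    have hQJ : (J ⊓ Cent) ≤ Subgroup.normalizer ((Q ⊓ X : Subgroup G) : Set G) := fun x hx =>
      Subgroup.inf_normalizer_le_normalizer_inf ⟨hQn (hJL hx.1), Subgroup.le_normalizer (Subgroup.mem_sup_right hx.1)⟩
    have hPp : IsPGroup 2 ↥P := ((CfsgLib.LocalCharP.isPGroup_pCoreOf L).to_le inf_le_left).to_sup_of_normal_left'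
      (hJp.to_le inf_le_left) hQJ
    have hPR : P ≤ R := by
      refine sup_le (fun q hq => ⟨⟨hq.2, Subgroup.mem_sup_left (Subgroup.mem_sup_left hq.1)⟩, hq.2, fun e he => ?_⟩)
        fun j hj => ⟨⟨Subgroup.mem_sup_right hj.1, Subgroup.mem_sup_right hj.1⟩, hj.2⟩
      have := mul_mem hq.1 (conj_mem (hQn (hXL he.1)) (inv_mem hq.1))
      simpa [commutatorElement_def, mul_assoc] using this
    have hRle : R ≤ E ⊔ P := by
      rintro x ⟨hx, hxC⟩
      have hx' : x ∈ (E : Set G) * (J : Set G) := by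
        rw [← Subgroup.coe_mul_of_right_le_normalizer_left _ _ (le_sup_right.trans hEn)]
        exact hXM hx
      obtain ⟨f, hf, j, hj, rfl⟩ := hx'
      refine mul_mem (Subgroup.mem_sup_left hf) (Subgroup.mem_sup_right (Subgroup.mem_sup_right ⟨hj, ?_⟩))
      simpa using mul_mem (inv_mem (hEC hf)) hxC
    have hPOX : P ≤ OX := by
      have hPR2 : P ≤ pCoreOf 2 R := by
        refine CfsgLib.LocalCharP.le_pCoreOf hPR hPp (hRle.trans (sup_le ?_ Subgroup.le_normalizer))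
        refine CfsgLib.LocalCharP.le_normalizer_of_conj_mem fun e he z hz => ?_
        have hle : P ≤ P.comap (MulAut.conj e).toMonoidHom := by
          refine sup_le (fun q hq => Subgroup.mem_sup_left ⟨conj_mem (hQn (hXL he.1)) hq.1,
            X.mul_mem (X.mul_mem he.1 hq.2) (X.inv_mem he.1)⟩) fun j hj => ?_
          have hjc : ⁅j, e⁆ ∈ Q := hj.2.2 e he
          have hjX : j ∈ X := Subgroup.mem_sup_right hj.1
          show e * j * e⁻¹ ∈ P
          have h1 : ⁅e, j⁆ ∈ Q ⊓ X := by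
            refine ⟨?_, X.mul_mem (X.mul_mem (X.mul_mem he.1 hjX) (X.inv_mem he.1)) (X.inv_mem hjX)⟩
            have := inv_mem hjc
            rwa [commutatorElement_inv] at this
          have := mul_mem (Subgroup.mem_sup_left (T := J ⊓ Cent) h1) (Subgroup.mem_sup_right (S := Q ⊓ X) hj)
          simpa [commutatorElement_def, mul_assoc] using this
        exact hle hz
      refine hPR2.trans (CfsgLib.LocalCharP.le_pCoreOf
        ((CfsgLib.LocalCharP.pCoreOf_le R).trans (inf_le_left.trans inf_le_left))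
        (CfsgLib.LocalCharP.isPGroup_pCoreOf R)
        (hRn.trans (CfsgLib.LocalCharP.normalizer_le_normalizer_pCoreOf R)))
    have hak' : ⁅a, k⁆ ∈ R := ⟨hcomJ a ha k (hKX hk.mem), hak a ha⟩
    have hEP : E ⊔ P ≤ E ⊔ OX := sup_le_sup_left hPOX E
    have hm : ⁅a, k⁆ ∈ (E : Set G) * (OX : Set G) := by
      rw [← Subgroup.coe_mul_of_right_le_normalizer_left _ _
        ((CfsgLib.LocalCharP.pCoreOf_le X).trans hEn)]
      exact hEP (hRle hak')
    obtain ⟨e, he, q, hq, heq⟩ := hm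
    simp only [SetLike.mem_coe] at he hq heq
    have hQX : Q ⊓ X ≤ OX := le_sup_left.trans hPOX
    have hke : ⁅k, e⁆ ∈ OX := hQX ⟨hkE.2 e he, X.mul_mem (X.mul_mem (X.mul_mem (hKX hk.mem) he.1) (X.inv_mem (hKX hk.mem))) (X.inv_mem he.1)⟩
    have hconj : a * k * a⁻¹ = e * q * k := by
      rw [heq, commutatorElement_def]; group
    rw [hconj]
    have e3 : ⁅k, e * q * k⁆ = ⁅k, e⁆ * (e * (k * q * k⁻¹ * q⁻¹) * e⁻¹) := by
      simp only [commutatorElement_def]; group
    rw [e3]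
    exact mul_mem hke (conj_mem (hOXn he.1) (mul_mem (conj_mem (hOXn (hKX hk.mem)) hq) (inv_mem hq)))
  -- `J` normalizes the four-group
  have hshift : ∀ v ∈ ZX, v * v = 1 → v * (k * v * k⁻¹) ∈ W := by
    intro v hv hv2
    have hZn : X ≤ Subgroup.normalizer (ZX : Set G) := fun x hx =>
      Subgroup.inf_normalizer_le_normalizer_inf ⟨hOXn hx, CfsgLib.Coprime.le_normalizer_centralizer hOXn hx⟩
    have hkv := conj_mem (hZn (hKX hk.mem)) hv
    have hkkv := conj_mem (hZn (hKX hk.mem)) hkv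
    have hab : ∀ x ∈ ZX, ∀ y ∈ ZX, x * y = y * x := fun x hx y hy =>
      Subgroup.mem_centralizer_iff.mp hy.2 x hx.1
    refine hk.mul_conj_mem_of_omega hKc ?_ hv2 (hab _ hkkv _ hkv) (hab _ hkv _ hv) ?_
    · calc k * (k * (k * v * k⁻¹) * k⁻¹) * k⁻¹ = (k * k * k) * v * (k * k * k)⁻¹ := by group
        _ = v := by
          rw [← pow_three']
          exact mul_inv_eq_iff_eq_mul.mpr (Subgroup.mem_centralizer_iff.mp hv.2 _ (hOK hk.cube))
    have hm : v * (k * v * k⁻¹) ∈ ZX := mul_mem hv hkv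
    have hmK : v * (k * v * k⁻¹) ∈ K := by
      have h1 : v * k * v⁻¹ ∈ K := conj_mem (hOXK hv.1) hk.mem
      have hvi : v⁻¹ = v := (eq_inv_of_mul_eq_one_left hv2).symm
      have e : v * (k * v * k⁻¹) = v * k * v⁻¹ * k⁻¹ := by rw [hvi]; group
      rw [e]
      exact mul_mem h1 (inv_mem hk.mem)
    refine mem_omegaCenterOf.mpr ⟨hKO ⟨hmK, hm.1⟩, Subgroup.centralizer_le hOK hm.2, ?_⟩
    rw [sq]
    calc v * (k * v * k⁻¹) * (v * (k * v * k⁻¹)) = v * v * (k * (v * v) * k⁻¹) := by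
          rw [mul_assoc v, ← mul_assoc (k * v * k⁻¹), hab _ hkv _ hv]; group
      _ = 1 := by rw [hv2]; group
  have hJW : J ≤ Subgroup.normalizer (W : Set G) := by
    refine J_le_iff.mpr fun A hA => ?_
    have hAJ : A ≤ J := maxE_le_J hA
    set R := OX ⊔ J
    have hRp : IsPGroup 2 ↥R := hOXp.to_sup_of_normal_left' hJp (le_sup_right.trans hOXn)
    have hRL : R ≤ L := (sup_le (CfsgLib.LocalCharP.pCoreOf_le X) le_sup_right).trans hXL
    have hAR : MaxE R A := by
      refine ⟨hAJ.trans le_sup_right, hA.2.1, fun C hC hCel => ?_⟩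
      obtain ⟨l, -, hle⟩ := exists_sylowIn_ge_conj hL.1 hRp hRL
      obtain ⟨B, hB⟩ := exists_maxE (T.map (MulAut.conj l).toMonoidHom)
      have h1 := maxElemAbelianOrder_map T l
      rw [maxElemAbelianOrder_eq hA, maxElemAbelianOrder_eq hB] at h1
      exact h1 ▸ hB.2.2 C (hC.trans hle) hCel
    have hWconj : ∀ a ∈ A, W.map (MulAut.conj a).toMonoidHom ≤ OX := by
      rintro a ha _ ⟨w, hw, rfl⟩
      exact conj_mem (hOXn (Subgroup.mem_sup_right (hAJ ha))) (hWOX hw)
    refine le_normalizer_of_conjugates hAR hW4 hWel (fun a ha => (hWconj a ha).trans le_sup_left)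
      (fun a ha w hw w' hw' => Subgroup.mem_centralizer_iff.mp (hOXW hw') _ (hWconj a ha ⟨w, hw, rfl⟩))
      hkW hfpf ?_
    intro a ha haN w hw
    have haX : a ∈ X := Subgroup.mem_sup_right (hAJ ha)
    set W₂ := W.map (MulAut.conj a).toMonoidHom with hW₂
    have hW₂Z : W₂ ≤ ZX := by
      rintro _ ⟨x, hx, rfl⟩
      exact ⟨conj_mem (hOXn haX) (hWZ hx).1, conj_mem (CfsgLib.Coprime.le_normalizer_centralizer hOXn haX) (hWZ hx).2⟩
    have hZn : X ≤ Subgroup.normalizer (ZX : Set G) := fun x hx =>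
      Subgroup.inf_normalizer_le_normalizer_inf ⟨hOXn hx, CfsgLib.Coprime.le_normalizer_centralizer hOXn hx⟩
    set k₂ := a * k * a⁻¹ with hk₂
    have hk₂X : k₂ ∈ X := mul_mem (mul_mem haX (hKX hk.mem)) (inv_mem haX)
    have hsq : ∀ v ∈ W₂, v * v = 1 := by
      rintro _ ⟨x, hx, rfl⟩
      rw [← map_mul, ← sq, (CfsgLib.LocalP.isElementaryAbelian_iff.mp hWel).2 x hx, map_one]
    have hshift₂ : ∀ v ∈ ZX, v * v = 1 → v * (k₂ * v * k₂⁻¹) ∈ W₂ := by
      intro v hv hv2
      refine mem_map_conj.mpr ?_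
      have hv' : a⁻¹ * v * a ∈ ZX := by simpa using conj_mem (hZn (inv_mem haX)) hv
      have h := hshift _ hv' (by
        calc a⁻¹ * v * a * (a⁻¹ * v * a) = a⁻¹ * (v * v) * a := by group
          _ = 1 := by rw [hv2]; group)
      have e : a⁻¹ * (v * (k₂ * v * k₂⁻¹)) * a = a⁻¹ * v * a * (k * (a⁻¹ * v * a) * k⁻¹) := by
        rw [hk₂]; group
      rwa [e]
    -- `k` preserves `W₂`
    have hcomm : ∀ v ∈ ZX, k₂ * (k * v * k⁻¹) * k₂⁻¹ = k * (k₂ * v * k₂⁻¹) * k⁻¹ := by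
      intro v hv
      have hx : k₂ * (k * v * k⁻¹) * k₂⁻¹ ∈ ZX := conj_mem (hZn hk₂X) (conj_mem (hZn (hKX hk.mem)) hv)
      have h1 := Subgroup.mem_centralizer_iff.mp hx.2 _ (hkk a (hAJ ha))
      calc k₂ * (k * v * k⁻¹) * k₂⁻¹ = ⁅k, k₂⁆⁻¹⁻¹ * (k₂ * (k * v * k⁻¹) * k₂⁻¹) * ⁅k, k₂⁆⁻¹ := by
            rw [inv_inv, h1, mul_inv_cancel_right]
        _ = _ := by simp only [commutatorElement_def]; group
    have hrep : ∀ v ∈ W₂, ∃ v₀ ∈ W₂, v = v₀ * (k₂ * v₀ * k₂⁻¹) := by
      rintro _ ⟨x, hx, rfl⟩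
      have hx1 := conj_mem hkW hx
      refine ⟨a * (k * x * k⁻¹) * a⁻¹, ⟨_, hx1, rfl⟩, ?_⟩
      have h3 := hk.cube_conj (wOf_le_omega hKc hx)
      have hel := CfsgLib.LocalP.isElementaryAbelian_iff.mp hWel
      set x₁ := k * x * k⁻¹ with hx₁
      set x₂ := k * x₁ * k⁻¹ with hx₂
      have hx2 : x₂ ∈ W := conj_mem hkW hx1
      show a * x * a⁻¹ = _
      -- `x x₁ x₂` is fixed by `k`, hence trivial
      have hu : x * (x₁ * x₂) = 1 := by
        refine hfpf _ (mul_mem hx (mul_mem hx1 hx2)) ?_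
        calc k * (x * (x₁ * x₂)) * k⁻¹ = x₁ * x₂ * (k * x₂ * k⁻¹) := by
              simp only [hx₁, hx₂]; group
          _ = x₁ * x₂ * x := by rw [h3]
          _ = x * (x₁ * x₂) := hel.1 _ (mul_mem hx1 hx2) _ hx
      have e : x₁ * x₂ = x := by
        rw [eq_inv_of_mul_eq_one_right hu]
        exact (eq_inv_of_mul_eq_one_left (by rw [← sq]; exact hel.2 x hx)).symm
      calc a * x * a⁻¹ = a * (x₁ * x₂) * a⁻¹ := by rw [e]
        _ = _ := by rw [hk₂, hx₂]; group
    have hkW₂ : ∀ v ∈ W₂, k * v * k⁻¹ ∈ W₂ := by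
      intro v hv
      obtain ⟨v₀, hv₀, rfl⟩ := hrep v hv
      have hv₀Z := hW₂Z hv₀
      have h := hshift₂ (k * v₀ * k⁻¹) (conj_mem (hZn (hKX hk.mem)) hv₀Z) (by
        calc k * v₀ * k⁻¹ * (k * v₀ * k⁻¹) = k * (v₀ * v₀) * k⁻¹ := by group
          _ = 1 := by rw [hsq v₀ hv₀]; group)
      rw [hcomm v₀ hv₀Z] at h
      simpa [mul_assoc] using h
    have hv : a * w * a⁻¹ ∈ W₂ := ⟨w, hw, rfl⟩
    set v := a * w * a⁻¹ with hvdef
    by_contra hne
    set u := v * (k * v * k⁻¹) with hu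
    have huW : u ∈ W := hshift v (hW₂Z hv) (hsq v hv)
    have hu1 : u ≠ 1 := fun h => hne (by
      rw [hu] at h
      rw [eq_inv_of_mul_eq_one_right h, (eq_inv_of_mul_eq_one_left (hsq v hv)).symm])
    have huW₂ : u ∈ W₂ := mul_mem hv (hkW₂ v hv)
    have hne' : k * u * k⁻¹ ≠ u := fun h => hu1 (hfpf u huW h)
    have hsub : ({1, u, k * u * k⁻¹} : Set G) ⊆ ((W ⊓ W₂ : Subgroup G) : Set G) := by
      rintro y (rfl | rfl | rfl)
      exacts [one_mem _, ⟨huW, huW₂⟩, ⟨conj_mem hkW huW, hkW₂ u huW₂⟩]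
    have hc := Set.ncard_le_ncard hsub (Set.toFinite _)
    rw [Set.ncard_insert_of_notMem
        (by simp [Ne.symm hu1, Ne.symm (fun h => hu1 (conj_eq_one_iff.mp h) : k * u * k⁻¹ ≠ 1)]) (Set.toFinite _),
      Set.ncard_pair (Ne.symm hne'), ← Nat.card_coe_set_eq] at hc
    have hc' : 3 ≤ Nat.card ↥(W ⊓ W₂) := hc
    obtain ⟨d, hd⟩ := Subgroup.card_dvd_of_le (inf_le_left : W ⊓ W₂ ≤ W)
    rw [hW4] at hd
    have hd1 : d = 1 := by
      rcases d with _ | _ | d
      · simp at hd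
      · rfl
      · nlinarith
    have hI : W ⊓ W₂ = W := Subgroup.eq_of_le_of_card_ge inf_le_left (by rw [hW4, hd, hd1, mul_one])
    refine haN (Subgroup.mem_normalizer_iff_map_conj_eq.mpr
      (Subgroup.eq_of_le_of_card_ge (inf_eq_left.mp hI) ?_).symm)
    rw [Subgroup.card_map_of_injective (MulAut.conj a).injective]
  -- conclusion
  have hTp : IsPGroup 2 ↥T := hL.1.2.1
  have e : (T.map (MulAut.conj g).toMonoidHom).map (MulAut.conj g⁻¹).toMonoidHom = T := by
    simpa using map_conj_inv g⁻¹ T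
  have h := isJComponent_conj_of_le hG (hTp.map _) hKg g⁻¹ (by rw [e]; exact hJW)
  rwa [e] at h

end CfsgLib.JComp
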