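import Cfsg.Agent.JComp.RichPair

/-!
The subgroup generated by the elements of odd order has two maximal 2-local subgroups `S₄` meeting
in a group of order 8.
-/

set_option autoImplicit false

open Cfsg
open scoped Pointwise commutatorElement

namespace CfsgLib.JComp

variable {G : Type*} [Group G] [Finite G]

local instance : Fact (Nat.Prime 2) := ⟨Nat.prime_two⟩

omit [Finite G] in
theorem normalizer_in_subgroup {H : Subgroup G} (U : Subgroup ↥H) :
    Subgroup.normalizer (U : Set ↥H) = (Subgroup.normalizer (U.map H.subtype : Set G)).subgroupOf H := by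
  ext x
  rw [Subgroup.mem_subgroupOf, Subgroup.mem_normalizer_iff, Subgroup.mem_normalizer_iff]
  constructor
  · intro hx n
    constructor
    · rintro ⟨y, hy, rfl⟩
      exact ⟨x * y * x⁻¹, (hx y).mp hy, rfl⟩
    · rintro ⟨y, hy, e⟩
      have e' : (y : G) = x * n * (x : G)⁻¹ := e
      refine ⟨x⁻¹ * y * x, (hx _).mpr (by simpa [mul_assoc] using hy), ?_⟩
      show (x : G)⁻¹ * y * x = n
      rw [e']; group
  · intro hx y
    have h := hx (y : G)
    constructor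
    · intro hy
      obtain ⟨z, hz, e⟩ := h.mp ⟨y, hy, rfl⟩
      rwa [show x * y * x⁻¹ = z from Subtype.ext e.symm]
    · intro hy
      obtain ⟨z, hz, e⟩ := h.mpr ⟨x * y * x⁻¹, hy, rfl⟩
      rwa [show y = z from Subtype.ext e.symm]

omit [Finite G] in
theorem isTwoLocal_subgroupOf {H W : Subgroup G} (hWH : W ≤ H) (hW : IsPGroup 2 ↥W) (hW1 : W ≠ ⊥) :
    IsTwoLocal ((Subgroup.normalizer (W : Set G)).subgroupOf H) := by
  refine ⟨W.subgroupOf H, hW.comap_of_injective H.subtype H.subtype_injective, fun h => hW1 ?_, ?_⟩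
  · rw [← Subgroup.map_subgroupOf_eq_of_le hWH, h, Subgroup.map_bot]
  · rw [normalizer_in_subgroup, Subgroup.map_subgroupOf_eq_of_le hWH]

omit [Finite G] in
theorem maximal_subgroupOf {H : Subgroup G} {X : Subgroup G} (hX : IsTwoLocal (X.subgroupOf H))
    (hmax : ∀ U : Subgroup G, IsPGroup 2 ↥U → U ≠ ⊥ → U ≤ H → X ⊓ H ≤ Subgroup.normalizer (U : Set G) →
      Subgroup.normalizer (U : Set G) ⊓ H ≤ X) : IsMaximalTwoLocal (X.subgroupOf H) := by
  refine ⟨hX, ?_⟩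
  rintro N ⟨U, hU, hU1, rfl⟩ hle
  refine le_antisymm ?_ hle
  rw [normalizer_in_subgroup] at hle ⊢
  intro x hx
  refine hmax (U.map H.subtype) (hU.map _) (fun h => hU1 ?_) (Subgroup.map_subtype_le _) ?_ ⟨hx, x.2⟩
  · rwa [Subgroup.map_eq_bot_iff_of_injective _ H.subtype_injective] at h
  · exact fun y hy => hle (show (⟨y, hy.2⟩ : ↥H) ∈ X.subgroupOf H from hy.1)

theorem component_le_odd {T K : Subgroup G} (h : GoodComp T K) :
    K ≤ Subgroup.closure {g : G | Odd (orderOf g)} := by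
  rw [← h.comp.1]
  exact Subgroup.closure_mono fun g hg => hg.2

namespace TwoPair

variable {T K K' : Subgroup G} (h : TwoPair T K K')

include h

theorem V_le_odd_of_S4 (e : ↥(K ⊔ T) ≃* Equiv.Perm (Fin 4)) :
    coreP T K ≤ Subgroup.closure {g : G | Odd (orderOf g)} := by
  have hc : Nat.card ↥(K ⊔ T) = 24 := by rw [Nat.card_congr e.toEquiv, Nat.card_perm, Nat.card_fin]; rfl
  rw [h.card_P] at hc
  have h4 : Nat.card ↥(wOf K) = 4 := h.g.comp.2.2.2.2.1
  rw [← Subgroup.eq_of_le_of_card_ge h.W_le_V (by omega)]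
  refine le_trans ?_ (component_le_odd h.g)
  exact (wOf_le_pCoreOf h.g.comp).trans (CfsgLib.LocalCharP.pCoreOf_le K)

theorem T_le_odd_of_S4 (e : ↥(K ⊔ T) ≃* Equiv.Perm (Fin 4)) (e' : ↥(K' ⊔ T) ≃* Equiv.Perm (Fin 4)) :
    T ≤ Subgroup.closure {g : G | Odd (orderOf g)} := by
  rw [← h.sup_eq]
  exact sup_le (h.V_le_odd_of_S4 e) (h.symm.V_le_odd_of_S4 e')

theorem maximal_of_le {H : Subgroup G} (hle : K ⊔ T ≤ H) : IsMaximalTwoLocal ((K ⊔ T).subgroupOf H) := by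
  refine maximal_subgroupOf ?_ fun U hU hU1 _ hn => ?_
  · have h1 := isTwoLocal_subgroupOf
      (H := H) (W := coreP T K) ((CfsgLib.LocalCharP.pCoreOf_le _).trans hle)
      (CfsgLib.LocalCharP.isPGroup_pCoreOf _) h.g.pCoreOf_ne_bot
    rwa [h.normalizer_V] at h1
  · rw [inf_eq_left.mpr hle] at hn
    exact inf_le_left.trans (h.eq_of_normalizer_ge hU hU1 hn).le

end TwoPair

namespace RichPair

variable {T K K' : Subgroup G} {c c' : G} (h : RichPair T K K' c c')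

include h

theorem D_le_odd : wOf K ⊔ wOf K' ≤ Subgroup.closure {g : G | Odd (orderOf g)} :=
  sup_le ((wOf_le_pCoreOf h.pair.g.comp).trans
      ((CfsgLib.LocalCharP.pCoreOf_le K).trans (component_le_odd h.pair.g)))
    ((wOf_le_pCoreOf h.pair.g'.comp).trans
      ((CfsgLib.LocalCharP.pCoreOf_le K').trans (component_le_odd h.pair.g')))

theorem T_inf {H : Subgroup G} (hD : wOf K ⊔ wOf K' ≤ H) (hc : c ∉ H) :
    T ⊓ H = wOf K ⊔ wOf K' := by
  obtain ⟨hDT, hcD, hD2⟩ := h.D_facts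
  refine le_antisymm (fun t ht => ?_) (le_inf hDT hD)
  by_contra htD
  have h1 := hD (hD2 t ht.1 c (h.pair.V_le h.c_mem.1) htD hcD)
  exact hc (by simpa using mul_mem (inv_mem (show t ∈ H from ht.2)) h1)

theorem T_le_sup : T ≤ (wOf K ⊔ wOf K') ⊔ Subgroup.zpowers c := fun t ht => by
  obtain ⟨-, hcD, hD2⟩ := h.D_facts
  by_cases htD : t ∈ wOf K ⊔ wOf K'
  · exact Subgroup.mem_sup_left htD
  · have h1 := hD2 t ht c (h.pair.V_le h.c_mem.1) htD hcD
    simpa using mul_mem (Subgroup.mem_sup_left (T := Subgroup.zpowers c) h1)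
      (inv_mem (Subgroup.mem_sup_right (S := wOf K ⊔ wOf K') (Subgroup.mem_zpowers c)))

theorem P_le_sup {H : Subgroup G} (hK : K ≤ H) (hD : wOf K ⊔ wOf K' ≤ H) :
    K ⊔ T ≤ ((K ⊔ T) ⊓ H) ⊔ Subgroup.zpowers c :=
  sup_le ((le_inf le_sup_left hK).trans le_sup_left)
    (h.T_le_sup.trans (sup_le_sup_right (le_inf (h.D_facts.1.trans le_sup_right) hD) _))

theorem maximal_inf {H : Subgroup G} (hK : K ≤ H) (hD : wOf K ⊔ wOf K' ≤ H) (hc : c ∉ H) :
    IsMaximalTwoLocal ((K ⊔ T).subgroupOf H) := by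
  have hWH : wOf K ≤ H := le_sup_left.trans hD
  refine maximal_subgroupOf ?_ fun U hU hU1 hUH hn => ?_
  · have h1 := isTwoLocal_subgroupOf hWH (wOf_isPGroup h.pair.g.comp) (wOf_ne_bot h.pair.g.comp)
    rwa [h.pair.normalizer_W] at h1
  obtain ⟨hDT, hcD, hD2⟩ := h.D_facts
  obtain ⟨w, hw1, hwW, -, -, -, hZ, -⟩ := h.exists_w
  set D := wOf K ⊔ wOf K' with hDdef
  -- `w ∈ U`
  obtain ⟨u, hu, hu1⟩ := (Subgroup.bot_or_exists_ne_one _).resolve_left
    (CfsgLib.LocalCharP.inf_centralizer_ne_bot hU hU1 (h.pair.g.sylow.2.1.to_le hDT)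
      ((le_inf (hDT.trans le_sup_right) hD).trans hn))
  have huP : u ∈ K ⊔ T := by
    rw [← h.pair.normalizer_W]
    exact Subgroup.centralizer_le_normalizer _
      (Subgroup.centralizer_le (SetLike.coe_subset_coe.mpr (le_sup_left : wOf K ≤ D)) hu.2)
  have huT : u ∈ Subgroup.centralizer (T : Set G) := by
    refine Subgroup.mem_centralizer_iff.mpr fun t ht => ?_
    have hle : (D ⊔ Subgroup.zpowers c) ≤ Subgroup.centralizer ({u} : Set G) :=
      sup_le (fun d hd => Subgroup.mem_centralizer_singleton_iff.mpr (Subgroup.mem_centralizer_iff.mp hu.2 d hd))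
        (Subgroup.zpowers_le.mpr (Subgroup.mem_centralizer_singleton_iff.mpr (h.c_commutes huP).symm))
    exact Subgroup.mem_centralizer_singleton_iff.mp (hle (h.T_le_sup ht))
  obtain ⟨hu2, hu3⟩ := h.pair.mem_inter_of_central huT
  have huw : u = w := by
    rcases hZ u hu2 hu3 with e | e | e | e
    · exact absurd e hu1
    · exact e
    · exact absurd (e ▸ hUH hu.1) hc
    · refine absurd ?_ hc
      have h1 := mul_mem (inv_mem (hWH hwW)) (hUH hu.1)
      rwa [e, inv_mul_cancel_left] at h1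
  subst huw
  obtain ⟨k, hk⟩ := exists_compElt h.pair.g.comp
  obtain ⟨hall, -, -, -⟩ := wOf_four h.pair.g.comp hk hwW hw1
  have hku : k * u * k⁻¹ ∈ U := conj_mem (hn ⟨Subgroup.mem_sup_left hk.mem, hK hk.mem⟩) hu.1
  have hWU : wOf K ≤ U := fun x hx => by
    rcases hall x hx with rfl | rfl | rfl | rfl
    exacts [one_mem _, hu.1, hku, mul_mem hu.1 hku]
  -- `U ∩ P ≤ W`
  have hUP : U ⊓ (K ⊔ T) ≤ wOf K := by
    have hcn : Subgroup.zpowers c ≤ Subgroup.normalizer ((U ⊓ (K ⊔ T) : Subgroup G) : Set G) := by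
      refine CfsgLib.LocalCharP.le_normalizer_of_conj_mem fun z hz x hx => ?_
      obtain ⟨m, rfl⟩ := Subgroup.mem_zpowers_iff.mp hz
      rw [← (Commute.zpow_right (h.c_commutes hx.2 : Commute x c) m).eq, mul_inv_cancel_right]
      exact hx
    have hPH : (K ⊔ T) ⊓ H ≤ Subgroup.normalizer ((U ⊓ (K ⊔ T) : Subgroup G) : Set G) :=
      le_trans (le_inf hn (inf_le_left.trans Subgroup.le_normalizer))
        Subgroup.inf_normalizer_le_normalizer_inf
    have hle : U ⊓ (K ⊔ T) ≤ coreP T K :=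
      CfsgLib.LocalCharP.le_pCoreOf inf_le_right (hU.to_le inf_le_left)
        ((h.P_le_sup hK hD).trans (sup_le hPH hcn))
    intro x hx
    rcases h.mem_W_or (hle hx) with hW | hW
    · exact hW
    · exact absurd (by simpa using mul_mem (inv_mem (hUH hx.1)) (hWH hW)) hc
  have hUW : U = wOf K := by
    by_contra hne
    obtain ⟨n, hnU, hnN, hnW⟩ := CfsgLib.LocalP.exists_normalizes_not_mem hU hWU (Ne.symm hne)
    exact hnW (hUP ⟨hnU, h.pair.normalizer_W ▸ hnN⟩)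
  rw [hUW, h.pair.normalizer_W]
  exact inf_le_left

theorem equiv_perm {H : Subgroup G} (hK : K ≤ H) (hD : wOf K ⊔ wOf K' ≤ H) (hc : c ∉ H)
    (e : ↥(K ⊔ T) ≃* Multiplicative (ZMod 2) × Equiv.Perm (Fin 4))
    (hec : (c : G) = e.symm (Multiplicative.ofAdd 1, 1)) :
    Nonempty (↥((K ⊔ T).subgroupOf H) ≃* Equiv.Perm (Fin 4)) := by
  let ι : ↥((K ⊔ T).subgroupOf H) →* ↥(K ⊔ T) :=
    { toFun := fun x => ⟨(x : ↥H), x.2⟩, map_one' := rfl, map_mul' := fun _ _ => rfl }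
  let ψ : ↥((K ⊔ T).subgroupOf H) →* Equiv.Perm (Fin 4) :=
    (MonoidHom.snd _ _).comp (e.toMonoidHom.comp ι)
  have h2 : ∀ a : Multiplicative (ZMod 2), a = 1 ∨ a = Multiplicative.ofAdd 1 := by decide
  refine ⟨MulEquiv.ofBijective ψ ⟨(injective_iff_map_eq_one _).mpr fun x hx => ?_, fun σ => ?_⟩⟩
  · have hx' : (e (ι x)).2 = 1 := hx
    rcases h2 (e (ι x)).1 with ha | ha
    · have h1 : e (ι x) = 1 := Prod.ext ha hx'
      have h1' : ι x = 1 := e.injective (h1.trans (map_one e).symm)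
      exact Subtype.ext (Subtype.ext (congrArg (fun v : ↥(K ⊔ T) => (v : G)) h1'))
    · refine absurd ?_ hc
      have h1 : e (ι x) = (Multiplicative.ofAdd 1, 1) := Prod.ext ha hx'
      rw [hec, ← h1, MulEquiv.symm_apply_apply]
      exact (x : ↥H).2
  · set y : ↥(K ⊔ T) := e.symm (1, σ) with hy
    have hy' := h.P_le_sup hK hD y.2
    have hn : Subgroup.zpowers c ≤ Subgroup.normalizer (((K ⊔ T) ⊓ H : Subgroup G) : Set G) := by
      refine CfsgLib.LocalCharP.le_normalizer_of_conj_mem fun z hz x hx => ?_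
      obtain ⟨m, rfl⟩ := Subgroup.mem_zpowers_iff.mp hz
      rw [← (Commute.zpow_right (h.c_commutes hx.1 : Commute x c) m).eq, mul_inv_cancel_right]
      exact hx
    rw [← SetLike.mem_coe, Subgroup.coe_mul_of_right_le_normalizer_left _ _ hn] at hy'
    obtain ⟨x, hx, z, hz, hxz⟩ := hy'
    obtain ⟨m, rfl⟩ := Subgroup.mem_zpowers_iff.mp hz
    refine ⟨⟨⟨x, hx.2⟩, hx.1⟩, ?_⟩
    show (e ⟨x, hx.1⟩).2 = σ
    have hcP : c ∈ K ⊔ T := Subgroup.mem_sup_right (h.pair.V_le h.c_mem.1)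
    have hyd : y = (⟨x, hx.1⟩ : ↥(K ⊔ T)) * (⟨c, hcP⟩ : ↥(K ⊔ T)) ^ m :=
      Subtype.ext (by rw [Subgroup.coe_mul, SubgroupClass.coe_zpow]; exact hxz.symm)
    have hec' : e ⟨c, hcP⟩ = (Multiplicative.ofAdd 1, 1) := by
      rw [show (⟨c, hcP⟩ : ↥(K ⊔ T)) = e.symm (Multiplicative.ofAdd 1, 1) from Subtype.ext hec,
        MulEquiv.apply_symm_apply]
    have h3 := congrArg (fun v => (e v).2) hyd
    simp only [hy, MulEquiv.apply_symm_apply, map_mul, map_zpow, hec', Prod.snd_mul] at h3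
    simpa using h3.symm

end RichPair

/-- The central involution of a group `C₂ × S₄`. -/
theorem exists_central {T K : Subgroup G}
    (e : ↥(K ⊔ T) ≃* Multiplicative (ZMod 2) × Equiv.Perm (Fin 4)) :
    ∃ c : G, (c : G) = e.symm (Multiplicative.ofAdd 1, 1) ∧ c ≠ 1 ∧
      c ∈ Subgroup.centralizer ((K ⊔ T : Subgroup G) : Set G) := by
  set z : ↥(K ⊔ T) := e.symm (Multiplicative.ofAdd 1, 1) with hz
  refine ⟨z, rfl, fun h1 => ?_, Subgroup.mem_centralizer_iff.mpr fun x hx => ?_⟩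
  · have : z = 1 := Subtype.ext h1
    have := congrArg (fun v => (e v).1) this
    simp [hz] at this
  · have h1 : (⟨x, hx⟩ : ↥(K ⊔ T)) * z = z * ⟨x, hx⟩ := by
      refine e.injective ?_
      rw [map_mul, map_mul, hz, MulEquiv.apply_symm_apply]
      exact Prod.ext (mul_comm _ _) (by simp)
    exact congrArg Subtype.val h1

/-- The conclusion for a pair of configurations. -/
theorem TwoPair.exists_in_odd {T K K' : Subgroup G} (h : TwoPair T K K') (hG : ZN G) (H : Subgroup G)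
    (hH : H = Subgroup.closure {g : G | Odd (orderOf g)}) :
    ∃ M₁ M₂ : Subgroup ↥H, M₁ ≠ M₂ ∧ IsMaximalTwoLocal M₁ ∧ IsMaximalTwoLocal M₂ ∧
      Nonempty (↥M₁ ≃* Equiv.Perm (Fin 4)) ∧ Nonempty (↥M₂ ≃* Equiv.Perm (Fin 4)) ∧
      Nat.card ↥(M₁ ⊓ M₂) = 8 := by
  have hinf : Nat.card ↥((K ⊔ T).subgroupOf H ⊓ (K' ⊔ T).subgroupOf H) = Nat.card ↥(T ⊓ H) := by
    rw [show (K ⊔ T).subgroupOf H ⊓ (K' ⊔ T).subgroupOf H = ((K ⊔ T) ⊓ (K' ⊔ T)).subgroupOf H from
      (Subgroup.comap_inf _ _ _).symm, h.inf_eq, ← Subgroup.inf_subgroupOf_right]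
    exact Nat.card_congr (Subgroup.subgroupOfEquivOfLe inf_le_right).toEquiv
  have fin : IsMaximalTwoLocal ((K ⊔ T).subgroupOf H) → IsMaximalTwoLocal ((K' ⊔ T).subgroupOf H) →
      Nonempty (↥((K ⊔ T).subgroupOf H) ≃* Equiv.Perm (Fin 4)) →
      Nonempty (↥((K' ⊔ T).subgroupOf H) ≃* Equiv.Perm (Fin 4)) → Nat.card ↥(T ⊓ H) = 8 →
      ∃ M₁ M₂ : Subgroup ↥H, M₁ ≠ M₂ ∧ IsMaximalTwoLocal M₁ ∧ IsMaximalTwoLocal M₂ ∧
        Nonempty (↥M₁ ≃* Equiv.Perm (Fin 4)) ∧ Nonempty (↥M₂ ≃* Equiv.Perm (Fin 4)) ∧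
        Nat.card ↥(M₁ ⊓ M₂) = 8 := by
    intro m₁ m₂ e₁ e₂ h8
    refine ⟨_, _, fun he => ?_, m₁, m₂, e₁, e₂, hinf.trans h8⟩
    obtain ⟨f⟩ := e₁
    have h24 : Nat.card ↥((K ⊔ T).subgroupOf H) = 24 := by
      rw [Nat.card_congr f.toEquiv, Nat.card_perm, Nat.card_fin]; rfl
    rw [← he, inf_idem] at hinf
    omega
  rcases (h.g.amalgam h.g' h.bot).2 with ⟨⟨e⟩, ⟨e'⟩⟩ | ⟨⟨e⟩, ⟨e'⟩⟩
  · have hT := hH ▸ h.T_le_odd_of_S4 e e'
    have h1 : K ⊔ T ≤ H := sup_le (hH ▸ component_le_odd h.g) hT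
    have h2 : K' ⊔ T ≤ H := sup_le (hH ▸ component_le_odd h.g') hT
    refine fin (h.maximal_of_le h1) (h.symm.maximal_of_le h2)
      ⟨(Subgroup.subgroupOfEquivOfLe h1).trans e⟩ ⟨(Subgroup.subgroupOfEquivOfLe h2).trans e'⟩ ?_
    rw [inf_eq_left.mpr hT]
    have hc : Nat.card ↥(K ⊔ T) = 24 := by rw [Nat.card_congr e.toEquiv, Nat.card_perm, Nat.card_fin]; rfl
    rw [h.g.card_eq] at hc
    omega
  · obtain ⟨c, hc, hc1, hcc⟩ := exists_central e
    obtain ⟨c', hc', hc1', hcc'⟩ := exists_central e'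
    have h48 : Nat.card ↥(K ⊔ T) = 48 := by
      rw [Nat.card_congr e.toEquiv, Nat.card_prod, Nat.card_perm, Nat.card_fin,
        Nat.card_congr (Multiplicative.toAdd (α := ZMod 2)), Nat.card_zmod]
      rfl
    have hP := h48
    rw [h.card_P] at hP
    have R : RichPair T K K' c c' := ⟨h, by omega, hcc, hc1, hcc', hc1'⟩
    obtain ⟨S, hTS⟩ := h.g.sylow.2.1.exists_le_sylow
    have hcH : c ∉ H := hH ▸ R.c_not_mem_odd hG S hTS
    have hcH' : c' ∉ H := hH ▸ R.symm.c_not_mem_odd hG S hTS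
    have hK := hH ▸ component_le_odd h.g
    have hK' := hH ▸ component_le_odd h.g'
    have hD := hH ▸ R.D_le_odd
    have hD' := hH ▸ R.symm.D_le_odd
    refine fin (R.maximal_inf hK hD hcH) (R.symm.maximal_inf hK' hD' hcH')
      (R.equiv_perm hK hD hcH e hc) (R.symm.equiv_perm hK' hD' hcH' e' hc') ?_
    rw [R.T_inf hD hcH]
    obtain ⟨hDT, hcD, hD2⟩ := R.D_facts
    have hidx : ((wOf K ⊔ wOf K').subgroupOf T).index = 2 := by
      rw [Subgroup.index_eq_two_iff]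
      refine ⟨⟨c, h.V_le R.c_mem.1⟩, fun b => ?_⟩
      show Xor ((b : G) * c ∈ wOf K ⊔ wOf K') ((b : G) ∈ wOf K ⊔ wOf K')
      by_cases hb : (b : G) ∈ wOf K ⊔ wOf K'
      · exact Or.inr ⟨hb, fun hh => hcD (by simpa using mul_mem (inv_mem hb) hh)⟩
      · exact Or.inl ⟨hD2 _ b.2 _ (h.V_le R.c_mem.1) hb hcD, hb⟩
    have h1 := card_mul_rel hDT
    rw [Subgroup.relIndex, hidx] at h1
    rw [h.g.card_eq] at h48
    omega

end CfsgLib.JComp
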