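import Cfsg.Agent.JComp.Straddle
import Cfsg.Agent.JComp.CompFacts
import Cfsg.Agent.S2946

/-!
Components outside `M` in the maximal 2-local overgroup `L` of a largest straddler `T`, and their
fixed subgroups in `Ω₁Z(J(T))`.
-/

set_option autoImplicit false

open Cfsg
open scoped Pointwise commutatorElement

namespace CfsgLib.JComp

variable {G : Type*} [Group G] [Finite G]

local instance : Fact (Nat.Prime 2) := ⟨Nat.prime_two⟩

/-- `Ω₁Z(J(T))`. -/
abbrev ZJ (T : Subgroup G) : Subgroup G := omegaCenterOf (thompsonSubgroupOf 2 T)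

/-- The part of `Ω₁Z(J(T))` centralized by `K`. -/
abbrev ctr (T K : Subgroup G) : Subgroup G := ZJ T ⊓ Subgroup.centralizer (K : Set G)

omit [Finite G] in
theorem le_centralizer_singleton {K : Subgroup G} {x : G} (h : x ∈ Subgroup.centralizer (K : Set G)) :
    K ≤ Subgroup.centralizer ({x} : Set G) := fun k hk =>
  Subgroup.mem_centralizer_singleton_iff.mpr (Subgroup.mem_centralizer_iff.mp h k hk)

omit [Finite G] in
theorem J_le_centralizer_singleton {T : Subgroup G} {x : G} (hx : x ∈ ZJ T) :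
    thompsonSubgroupOf 2 T ≤ Subgroup.centralizer ({x} : Set G) :=
  le_centralizer_singleton (mem_omegaCenterOf.mp hx).2.1

omit [Finite G] in
theorem conj_mem_centralizer_singleton {m a x : G} (hx : x ∈ Subgroup.centralizer ({a} : Set G)) :
    m * x * m⁻¹ ∈ Subgroup.centralizer ({m * a * m⁻¹} : Set G) := by
  rw [Subgroup.mem_centralizer_singleton_iff] at hx ⊢
  calc m * x * m⁻¹ * (m * a * m⁻¹) = m * (x * a) * m⁻¹ := by group
    _ = m * (a * x) * m⁻¹ := by rw [hx]
    _ = _ := by group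

theorem isTwoLocal_map {L : Subgroup G} (hL : IsTwoLocal L) (g : G) :
    IsTwoLocal (L.map (MulAut.conj g).toMonoidHom) := by
  obtain ⟨R, hR, hR1, rfl⟩ := hL
  refine ⟨R.map (MulAut.conj g).toMonoidHom, hR.map _, fun h => hR1 ?_, ?_⟩
  · exact Subgroup.map_injective (MulAut.conj g).injective (h.trans (Subgroup.map_bot _).symm)
  · exact Subgroup.map_equiv_normalizer_eq R (MulAut.conj g)

theorem isMaximalTwoLocal_map {L : Subgroup G} (hL : IsMaximalTwoLocal L) (g : G) :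
    IsMaximalTwoLocal (L.map (MulAut.conj g).toMonoidHom) := by
  refine ⟨isTwoLocal_map hL.1 g, fun N hN hle => ?_⟩
  have h := hL.2 _ (isTwoLocal_map hN g⁻¹) fun x hx =>
    mem_map_conj.mpr (by simpa [mul_assoc] using hle (Subgroup.mem_map_of_mem _ hx))
  rw [← h, map_conj_inv]

/-- An element of `N(S')` of 2-power order lies in the Sylow subgroup `S'`. -/
theorem le_sylow_of_le_normalizer (S' : Sylow 2 G) {R : Subgroup G} (hR : IsPGroup 2 ↥R)
    (hn : R ≤ Subgroup.normalizer ((S' : Subgroup G) : Set G)) : R ≤ (S' : Subgroup G) := by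
  have h := S'.3 (hR.to_sup_of_normal_right' S'.isPGroup' hn) le_sup_right
  exact le_sup_left.trans h.le

theorem mem_sylow_of_mem_normalizer (S' : Sylow 2 G) {R : Subgroup G} (hR : IsPGroup 2 ↥R) {r : G}
    (hr : r ∈ R) (hn : r ∈ Subgroup.normalizer ((S' : Subgroup G) : Set G)) : r ∈ (S' : Subgroup G) :=
  le_sylow_of_le_normalizer S' (hR.to_le (Subgroup.zpowers_le.mpr hr)) (Subgroup.zpowers_le.mpr hn)
    (Subgroup.mem_zpowers r)

/-- A component and `J(T)` never lie together in the normalizer of a Sylow 2-subgroup. -/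
theorem not_closed {T K : Subgroup G} (hT : IsPGroup 2 ↥T) (hK : IsJComponent T K) (S' : Sylow 2 G)
    (hKn : K ≤ Subgroup.normalizer ((S' : Subgroup G) : Set G))
    (hJn : thompsonSubgroupOf 2 T ≤ Subgroup.normalizer ((S' : Subgroup G) : Set G)) : False := by
  have hJS := le_sylow_of_le_normalizer S' (J_isPGroup hT) hJn
  have hKS : K ≤ (S' : Subgroup G) := by
    rw [← hK.2.1]
    exact Subgroup.commutator_le.mpr fun k hk j hj =>
      mul_mem (conj_mem (hKn hk) (hJS hj)) (inv_mem (hJS hj))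
  exact pCoreOf_ne_self hK
    (CfsgLib.LocalCharP.le_pCoreOf le_rfl (S'.isPGroup'.to_le hKS) Subgroup.le_normalizer)

/-- If `m` carries `a` to `z` and `C(z)` normalizes a Sylow subgroup, no component centralizes `a`. -/
theorem not_ctr_of_conj {T K : Subgroup G} (hT : IsPGroup 2 ↥T) (hK : IsJComponent T K) (S : Sylow 2 G)
    {a z m : G} (hz : Subgroup.centralizer ({z} : Set G) ≤ Subgroup.normalizer ((S : Subgroup G) : Set G))
    (haJ : a ∈ ZJ T) (haK : a ∈ Subgroup.centralizer (K : Set G)) (hm : m * a * m⁻¹ = z) : False := by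
  have key : ∀ X : Subgroup G, X ≤ Subgroup.centralizer ({a} : Set G) →
      X.map (MulAut.conj m).toMonoidHom ≤ Subgroup.normalizer ((S : Subgroup G) : Set G) := by
    rintro X hX _ ⟨x, hx, rfl⟩
    refine hz ?_
    have h := conj_mem_centralizer_singleton (m := m) (hX hx)
    rwa [hm] at h
  refine not_closed (hT.map (MulAut.conj m).toMonoidHom) (isJComponent_map m hK) S
    (key _ (le_centralizer_singleton haK)) ?_
  rw [J_map]
  exact key _ (J_le_centralizer_singleton haJ)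

/-- The standing situation: a largest straddler `T` relative to `M` and a maximal 2-local `L` of its family. -/
structure Setup (S : Sylow 2 G) (M T L : Subgroup G) : Prop where
  hG : ZN G
  hMJ : Subgroup.normalizer (thompsonSubgroupOf 2 (S : Subgroup G) : Set G) ≤ M
  hT : T ∈ maxStraddlingTwoSubgroups M
  hLmax : IsMaximalTwoLocal L
  hLj : L ∈ jOvergroups T

/-- The components of `L` outside `M`. -/
def outComps (M T L : Subgroup G) : Set (Subgroup G) := {K | IsJComponent T K ∧ K ≤ L ∧ ¬ K ≤ M}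

namespace Setup

variable {S : Sylow 2 G} {M T L : Subgroup G} (P : Setup S M T L)

include P

theorem Tp : IsPGroup 2 ↥T := P.hT.1.1

theorem T_le_M : T ≤ M := P.hT.1.2.2.1

theorem T_le_L : T ≤ L := P.hLj.1.1

theorem J_le_L : thompsonSubgroupOf 2 T ≤ L :=
  (CfsgLib.LocalP.thompsonSubgroupOf_le T).trans P.T_le_L

theorem zero {K : Subgroup G} (hK : K ∈ outComps M T L) : K ∈ jComponentsZero T :=
  jComponentsZero_of_not_le S P.hMJ P.hG P.hT hK.1 fun h =>
    hK.2.2 ((Subgroup.le_normalizer.trans (normalizer_le_normalizer_wOf K)).trans h)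

theorem uniq {K L' : Subgroup G} (hK : K ∈ outComps M T L) (hL' : IsMaximalTwoLocal L')
    (hle : K ⊔ thompsonSubgroupOf 2 T ≤ L') : L' = L := by
  obtain ⟨h1, h2⟩ := maximal_twoLocal_eq S P.hMJ P.hG P.hT (P.zero hK) hK.2.2 P.hLmax (sup_le hK.2.1 P.J_le_L)
  obtain ⟨h3, h4⟩ := maximal_twoLocal_eq S P.hMJ P.hG P.hT (P.zero hK) hK.2.2 hL' hle
  rw [h2, h4, h1, h3]

/-- A 2-local subgroup containing a component outside `M` and `J(T)` lies in `L`. -/
theorem twoLocal_le {K N : Subgroup G} (hK : K ∈ outComps M T L) (hN : IsTwoLocal N) (hKN : K ≤ N)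
    (hJN : thompsonSubgroupOf 2 T ≤ N) : N ≤ L := by
  obtain ⟨L', hL', hle⟩ := exists_maximal_twoLocal hN
  exact P.uniq hK hL' ((sup_le hKN hJN).trans hle) ▸ hle

theorem cent_le {K : Subgroup G} (hK : K ∈ outComps M T L) {x : G} (hx : x ∈ ctr T K) (hx1 : x ≠ 1) :
    Subgroup.centralizer ({x} : Set G) ≤ L := by
  have hle : Subgroup.centralizer ({x} : Set G) ≤ Subgroup.normalizer (Subgroup.zpowers x : Set G) := by
    refine le_trans (le_of_eq ?_) (Subgroup.centralizer_le_normalizer _)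
    rw [Subgroup.zpowers_eq_closure, Subgroup.centralizer_closure]
  have hel := CfsgLib.LocalP.isElementaryAbelian_mono (omegaCenterOf_elem (thompsonSubgroupOf 2 T))
    (Subgroup.zpowers_le.mpr hx.1)
  refine hle.trans (P.twoLocal_le hK ⟨_, CfsgLib.LocalP.isPGroup_of_isElementaryAbelian hel, ?_, rfl⟩
    ((le_centralizer_singleton hx.2).trans hle) ((J_le_centralizer_singleton hx.1).trans hle))
  rwa [Ne, Subgroup.zpowers_eq_bot]

theorem normalizer_L_le : Subgroup.normalizer (L : Set G) ≤ L := by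
  have h1 := CfsgLib.LocalCharP.normalizer_le_normalizer_pCoreOf (p := 2) L
  have h2 := P.hLmax.2 _ ⟨_, CfsgLib.LocalCharP.isPGroup_pCoreOf L, pCore_ne_bot_of_mem P.hLj, rfl⟩
    (Subgroup.le_normalizer.trans h1)
  exact h1.trans h2.le

/-- Fusion in `Ω₁Z(J(T))` between elements centralized by components outside `M` is controlled by `L`. -/
theorem mem_of_conj {Ka Kb : Subgroup G} (hKa : Ka ∈ outComps M T L) (hKb : Kb ∈ outComps M T L) {a b m : G}
    (ha : a ∈ ctr T Ka) (ha1 : a ≠ 1) (hb : b ∈ ctr T Kb) (hm : m * a * m⁻¹ = b) : m ∈ L := by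
  have hle : Subgroup.centralizer ({b} : Set G) ≤ L.map (MulAut.conj m).toMonoidHom := by
    intro x hx
    refine mem_map_conj.mpr (P.cent_le hKa ha ha1 ?_)
    have h := conj_mem_centralizer_singleton (m := m⁻¹) hx
    rw [show m⁻¹ * b * m⁻¹⁻¹ = a by rw [← hm]; group, inv_inv] at h
    exact h
  have h := P.uniq hKb (isMaximalTwoLocal_map P.hLmax m)
    ((sup_le (le_centralizer_singleton hb.2) (J_le_centralizer_singleton hb.1)).trans hle)
  exact P.normalizer_L_le (Subgroup.mem_normalizer_iff_map_conj_eq.mpr h)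

theorem split {K : Subgroup G} (hK : IsJComponent T K) :
    ∃ w, w ∈ ZJ T ∧ w ∈ wOf K ∧ w ≠ 1 ∧ w ∉ Subgroup.centralizer (K : Set G) ∧
      (∀ x ∈ ZJ T, x ∈ ctr T K ∨ w * x ∈ ctr T K) ∧ (∀ x ∈ ZJ T, x ∈ wOf K → x = 1 ∨ x = w) := by
  obtain ⟨h2, hsup⟩ := Cfsg.Agent.S2946.result P.hG.char2 P.hG.solv P.hG.cent T P.Tp P.hT.1.2.1 K hK _ rfl
  set W₀ := ZJ T ⊓ wOf K with hW₀
  obtain ⟨w, hw, hw1⟩ := (Subgroup.bot_or_exists_ne_one W₀).resolve_left fun h => by
    rw [h, Subgroup.card_bot] at h2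
    norm_num at h2
  have hall : ∀ x ∈ W₀, x = 1 ∨ x = w := by
    intro x hx
    by_contra hcon
    push Not at hcon
    have hsub : ({1, x, w} : Set G) ⊆ (W₀ : Set G) := by
      rintro y (rfl | rfl | rfl)
      exacts [one_mem _, hx, hw]
    have hc := Set.ncard_le_ncard hsub (Set.toFinite _)
    rw [Set.ncard_insert_of_notMem (by simp [Ne.symm hcon.1, Ne.symm hw1]) (Set.toFinite _),
      Set.ncard_pair hcon.2, ← Nat.card_coe_set_eq] at hc
    have hc' : 3 ≤ Nat.card ↥W₀ := hc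
    have h2' : Nat.card ↥W₀ = 2 := h2
    omega
  obtain ⟨k, hk⟩ := exists_compElt hK
  refine ⟨w, hw.1, hw.2, hw1, fun hc => hw1 (hk.fpf hK hw.2 ?_), fun x hx => ?_, fun x h1 h2 => hall x ⟨h1, h2⟩⟩
  · rw [Subgroup.mem_centralizer_iff.mp hc k hk.mem, mul_inv_cancel_right]
  · have hcle : ZJ T ⊓ ((K ⊔ thompsonSubgroupOf 2 T) ⊓
        Subgroup.centralizer ((K : Set G) ⊔ (thompsonSubgroupOf 2 T : Set G))) ≤ ctr T K :=
      inf_le_inf_left _ (inf_le_right.trans (Subgroup.centralizer_le le_sup_left))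
    have hx' : x ∈ ctr T K ⊔ W₀ := by
      refine sup_le_sup_right hcle W₀ ?_
      rw [hsup]; exact hx
    have hn : W₀ ≤ Subgroup.normalizer (ctr T K : Set G) := by
      refine CfsgLib.LocalCharP.le_normalizer_of_conj_mem fun a ha c hc => ?_
      rw [(CfsgLib.LocalP.isElementaryAbelian_iff.mp (omegaCenterOf_elem _)).1 a ha.1 c hc.1,
        mul_inv_cancel_right]
      exact hc
    have hx'' : x ∈ (ctr T K : Set G) * (W₀ : Set G) := by
      rw [← Subgroup.coe_mul_of_right_le_normalizer_left _ _ hn]; exact hx'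
    obtain ⟨c, hc, a, ha, rfl⟩ := hx''
    rcases hall a ha with rfl | rfl
    · left; simpa using hc
    · right
      have he := CfsgLib.LocalP.isElementaryAbelian_iff.mp (omegaCenterOf_elem (thompsonSubgroupOf 2 T))
      have e : a * (c * a) = c := by
        rw [he.1 c hc.1 a ha.1, ← mul_assoc, ← sq, he.2 a ha.1, one_mul]
      exact e.symm ▸ hc

/-- The centralized part has index at most 2. -/
theorem mul_mem_ctr {K : Subgroup G} (hK : IsJComponent T K) {a b : G} (ha : a ∈ ZJ T) (hb : b ∈ ZJ T)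
    (ha' : a ∉ ctr T K) (hb' : b ∉ ctr T K) : a * b ∈ ctr T K := by
  obtain ⟨w, hw, -, -, -, hall, -⟩ := P.split hK
  have he := CfsgLib.LocalP.isElementaryAbelian_iff.mp (omegaCenterOf_elem (thompsonSubgroupOf 2 T))
  have h := mul_mem ((hall a ha).resolve_left ha') ((hall b hb).resolve_left hb')
  have e : w * a * (w * b) = a * b := by
    calc w * a * (w * b) = a * (w * w) * b := by rw [he.1 w hw a ha]; group
      _ = a * b := by rw [← sq, he.2 w hw, mul_one]
  rwa [e] at h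

theorem card_ZJ_le {K : Subgroup G} (hK : IsJComponent T K) :
    Nat.card ↥(ZJ T) ≤ 2 * Nat.card ↥(ctr T K) := by
  obtain ⟨w, hw, -, -, -, hall, -⟩ := P.split hK
  have he := CfsgLib.LocalP.isElementaryAbelian_iff.mp (omegaCenterOf_elem (thompsonSubgroupOf 2 T))
  have hsub : (ZJ T : Set G) ⊆ (ctr T K : Set G) ∪ (fun y => w * y) '' (ctr T K : Set G) := by
    intro x hx
    rcases hall x hx with h | h
    · exact Or.inl h
    · exact Or.inr ⟨w * x, h, by show w * (w * x) = x; rw [← mul_assoc, ← sq, he.2 w hw, one_mul]⟩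
  have h1 := (Set.ncard_le_ncard hsub (Set.toFinite _)).trans (Set.ncard_union_le _ _)
  have h2 := Set.ncard_image_le (s := (ctr T K : Set G)) (f := fun y => w * y) (Set.toFinite _)
  simp only [← Nat.card_coe_set_eq, SetLike.coe_sort_coe] at h1 h2 ⊢
  omega

theorem comp_cent {K K' : Subgroup G} (hK : K ∈ outComps M T L) (hK' : K' ∈ outComps M T L) (hne : K' ≠ K) :
    K' ≤ Subgroup.centralizer (wOf K : Set G) := by
  obtain ⟨r, τ, g, hS⟩ := exists_lSystem P.hG P.hLj
  obtain ⟨i, rfl⟩ := hS.exists_eq_comp P.hG P.hLj hK'.1 hK'.2.1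
  obtain ⟨j, rfl⟩ := hS.exists_eq_comp P.hG P.hLj hK.1 hK.2.1
  exact hS.comp_centralizes P.hLj fun h => hne (by rw [h])

theorem mem_ctr_of_ne {K K' : Subgroup G} (hK : K ∈ outComps M T L) (hK' : K' ∈ outComps M T L) (hne : K' ≠ K)
    {w : G} (hw : w ∈ ZJ T) (hwK : w ∈ wOf K) : w ∈ ctr T K' :=
  ⟨hw, Subgroup.le_centralizer_iff.mp (P.comp_cent hK hK' hne) hwK⟩

theorem conj_outComp {K : Subgroup G} (hK : K ∈ outComps M T L) {l : G} (hl : l ∈ L) (hlM : l ∈ M) :
    K.map (MulAut.conj l).toMonoidHom ∈ outComps M T L := by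
  obtain ⟨h1, h2⟩ := component_conj P.hG P.hLj hK.1 hK.2.1 hl
  refine ⟨h1, h2, fun h => hK.2.2 fun x hx => ?_⟩
  have h3 := mul_mem (mul_mem (inv_mem hlM) (h (Subgroup.mem_map_of_mem _ hx))) hlM
  simpa [mul_assoc] using h3

theorem normalizer_of_unique {K : Subgroup G} (hK : K ∈ outComps M T L)
    (huniq : ∀ K' ∈ outComps M T L, K' = K) : T ≤ Subgroup.normalizer (K : Set G) := fun _ ht =>
  Subgroup.mem_normalizer_iff_map_conj_eq.mpr (huniq _ (P.conj_outComp hK (P.T_le_L ht) (P.T_le_M ht)))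

theorem centralizes_ZJ {K : Subgroup G} (hK : IsJComponent T K) (hTK : T ≤ Subgroup.normalizer (K : Set G))
    (hc : ∀ a ∈ ctr T K, ∀ b ∈ ctr T K, a ≠ 1 → b ≠ 1 → a = b) :
    ZJ T ≤ Subgroup.centralizer (T : Set G) := by
  obtain ⟨w, hw, hwK, hw1, -, hall, huw⟩ := P.split hK
  have hTZ : T ≤ Subgroup.normalizer (ZJ T : Set G) :=
    (Subgroup.le_normalizer.trans (CfsgLib.LocalP.le_normalizer_thompsonSubgroupOf T)).trans
      (normalizer_le_normalizer_omegaCenterOf _)
  intro x hx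
  refine Subgroup.mem_centralizer_iff.mpr fun t ht => mul_inv_eq_iff_eq_mul.mp ?_
  have hwfix : t * w * t⁻¹ = w :=
    (huw _ (conj_mem (hTZ ht) hw) (conj_mem (normalizer_le_normalizer_wOf K (hTK ht)) hwK)).resolve_left
      fun h => hw1 (conj_eq_one_iff.mp h)
  have hctr : ∀ c ∈ ctr T K, t * c * t⁻¹ = c := by
    intro c hc'
    rcases eq_or_ne c 1 with rfl | hc1
    · group
    · exact hc _ ⟨conj_mem (hTZ ht) hc'.1, conj_mem (CfsgLib.Coprime.le_normalizer_centralizer hTK ht) hc'.2⟩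
        c hc' (fun h => hc1 (conj_eq_one_iff.mp h)) hc1
  rcases hall x hx with h | h
  · exact hctr x h
  · have h1 := hctr _ h
    have e : t * (w * x) * t⁻¹ = (t * w * t⁻¹) * (t * x * t⁻¹) := by group
    rw [e, hwfix] at h1
    exact mul_left_cancel h1

theorem mem_T_of_centralizes {x : G} (hx : x ∈ Subgroup.centralizer (T : Set G)) (hx2 : x ^ 2 = 1) :
    x ∈ T ∧ x ∈ ZJ T := by
  have hxT : x ∈ T := by
    refine pCoreOf_le_T P.hLj (P.hLj.2.2 ?_)
    exact Subgroup.centralizer_le (pCoreOf_le_T P.hLj) hx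
  refine ⟨hxT, mem_omegaCenterOf.mpr ⟨?_,
    Subgroup.centralizer_le (CfsgLib.LocalP.thompsonSubgroupOf_le T) hx, hx2⟩⟩
  obtain ⟨A, hA⟩ := exists_maxE T
  exact maxE_le_J hA (CfsgLib.LocalP.mem_of_centralizes hA hxT hx2 fun a ha =>
    Subgroup.mem_centralizer_iff.mp hx a (hA.1 ha))

theorem omegaCenter_T_le : omegaCenterOf T ≤ ZJ T := fun x hx =>
  (P.mem_T_of_centralizes (mem_omegaCenterOf.mp hx).2.1 (mem_omegaCenterOf.mp hx).2.2).2

theorem omegaCenter_S_le (hTS : T ≤ (S : Subgroup G)) : omegaCenterOf (S : Subgroup G) ≤ ZJ T := fun x hx =>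
  (P.mem_T_of_centralizes (Subgroup.centralizer_le hTS (mem_omegaCenterOf.mp hx).2.1)
    (mem_omegaCenterOf.mp hx).2.2).2

theorem normalizer_J_le_normalizer_ZJ :
    Subgroup.normalizer (thompsonSubgroupOf 2 T : Set G) ≤ Subgroup.normalizer (ZJ T : Set G) :=
  normalizer_le_normalizer_omegaCenterOf _

/-- An element of `N(J(T))` outside `L` moves every centralized part off itself. -/
theorem moved {g : G} (hgJ : g ∈ Subgroup.normalizer (thompsonSubgroupOf 2 T : Set G)) (hgL : g ∉ L)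
    {K K' : Subgroup G} (hK : K ∈ outComps M T L) (hK' : K' ∈ outComps M T L) {x : G} (hx : x ∈ ctr T K)
    (hx1 : x ≠ 1) : g * x * g⁻¹ ∈ ZJ T ∧ g * x * g⁻¹ ∉ ctr T K' :=
  ⟨conj_mem (P.normalizer_J_le_normalizer_ZJ hgJ) hx.1, fun h => hgL (P.mem_of_conj hK hK' hx hx1 h rfl)⟩

theorem ctr_small_of_moved {g : G} (hgJ : g ∈ Subgroup.normalizer (thompsonSubgroupOf 2 T : Set G))
    (hgL : g ∉ L) {K : Subgroup G} (hK : K ∈ outComps M T L) :
    ∀ a ∈ ctr T K, ∀ b ∈ ctr T K, a ≠ 1 → b ≠ 1 → a = b := by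
  intro a ha b hb ha1 hb1
  obtain ⟨h1, h2⟩ := P.moved hgJ hgL hK hK ha ha1
  obtain ⟨h3, h4⟩ := P.moved hgJ hgL hK hK hb hb1
  have h := P.mul_mem_ctr hK.1 h1 h3 h2 h4
  rw [show g * a * g⁻¹ * (g * b * g⁻¹) = g * (a * b) * g⁻¹ by group] at h
  by_contra hne
  refine (P.moved hgJ hgL hK hK (mul_mem ha hb) fun hab => hne ?_).2 h
  rw [eq_inv_of_mul_eq_one_left hab]
  exact CompGen.elem_inv (omegaCenterOf_elem _) hb.1

theorem unique_of_moved {g : G} (hgJ : g ∈ Subgroup.normalizer (thompsonSubgroupOf 2 T : Set G))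
    (hgL : g ∉ L) {K K' : Subgroup G} (hK : K ∈ outComps M T L) (hK' : K' ∈ outComps M T L) : K' = K := by
  by_contra hne
  obtain ⟨w, hw, hwK, hw1, hwc, -, -⟩ := P.split hK.1
  obtain ⟨w', hw', hwK', hw1', hwc', -, -⟩ := P.split hK'.1
  have hw_in : w ∈ ctr T K' := P.mem_ctr_of_ne hK hK' hne hw hwK
  have hw_in' : w' ∈ ctr T K := P.mem_ctr_of_ne hK' hK (Ne.symm hne) hw' hwK'
  have key : ∀ X ∈ outComps M T L, g * (w * w') * g⁻¹ ∈ ctr T X := by
    intro X hX
    obtain ⟨h1, h2⟩ := P.moved hgJ hgL hK' hX hw_in hw1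
    obtain ⟨h3, h4⟩ := P.moved hgJ hgL hK hX hw_in' hw1'
    have h := P.mul_mem_ctr hX.1 h1 h3 h2 h4
    rwa [show g * w * g⁻¹ * (g * w' * g⁻¹) = g * (w * w') * g⁻¹ by group] at h
  have hone : g * (w * w') * g⁻¹ = 1 := by
    by_contra hy
    have e1 := P.ctr_small_of_moved hgJ hgL hK _ (key K hK) _ hw_in' hy hw1'
    have e2 := P.ctr_small_of_moved hgJ hgL hK' _ (key K' hK') _ hw_in hy hw1
    exact hwc ((e2.symm.trans e1) ▸ hw_in'.2)
  have hww := conj_eq_one_iff.mp hone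
  rw [← eq_inv_of_mul_eq_one_left hww |>.trans (CompGen.elem_inv (omegaCenterOf_elem _) hw')] at hw_in'
  exact hwc hw_in'.2

end Setup

theorem omegaCenter_sylow_ne_bot (S : Sylow 2 G) (hS : (S : Subgroup G) ≠ ⊥) :
    omegaCenterOf (S : Subgroup G) ≠ ⊥ := by
  have h := CfsgLib.LocalCharP.inf_centralizer_ne_bot S.isPGroup' hS S.isPGroup' Subgroup.le_normalizer
  set C := (S : Subgroup G) ⊓ Subgroup.centralizer ((S : Subgroup G) : Set G)
  obtain ⟨⟨x, hxC⟩, hx⟩ := exists_prime_orderOf_dvd_card' (G := ↥C) 2 (by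
    rcases (S.isPGroup'.to_le (inf_le_left : C ≤ (S : Subgroup G))).card_eq_or_dvd with h1 | h1
    · exact absurd (Subgroup.eq_bot_of_card_eq C h1) h
    · exact h1)
  rw [Subgroup.orderOf_mk] at hx
  intro hb
  have hmem : x ∈ omegaCenterOf (S : Subgroup G) :=
    mem_omegaCenterOf.mpr ⟨hxC.1, hxC.2, hx ▸ pow_orderOf_eq_one x⟩
  rw [hb, Subgroup.mem_bot] at hmem
  rw [hmem, orderOf_one] at hx
  norm_num at hx

end CfsgLib.JComp
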