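import Cfsg.Agent.JComp.CenterCases
import Cfsg.Agent.Amalgam.SThreeBound
import Cfsg.Agent.Eq.Def_Amalgam

/-!
A component outside `M` together with `T`: the subgroup `P = ⟨K, T⟩` with `P/O₂(P) ≅ S₃`; two such
subgroups generating a subgroup with trivial 2-core form an active amalgam of index (3, 3).
-/

set_option autoImplicit false

open Cfsg
open scoped Pointwise commutatorElement

namespace CfsgLib.JComp

variable {G : Type*} [Group G] [Finite G]

local instance : Fact (Nat.Prime 2) := ⟨Nat.prime_two⟩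

theorem card_mul_rel {H K : Subgroup G} (h : H ≤ K) : Nat.card H * H.relIndex K = Nat.card K := by
  have := Subgroup.relIndex_mul_relIndex ⊥ H K bot_le h
  rwa [Subgroup.relIndex_bot_left, Subgroup.relIndex_bot_left] at this

/-- The order of the product of a subgroup and a subgroup normalizing it. -/
theorem card_sup_inf_of_normalizes {A B : Subgroup G} (hB : B ≤ Subgroup.normalizer (A : Set G)) :
    Nat.card ↥(A ⊔ B) * Nat.card ↥(A ⊓ B) = Nat.card A * Nat.card B := by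
  haveI : (A.subgroupOf (A ⊔ B)).Normal :=
    (Subgroup.normal_subgroupOf_iff_le_normalizer le_sup_left).mpr (sup_le Subgroup.le_normalizer hB)
  have hr : A.relIndex (A ⊔ B) = A.relIndex B := by
    rw [← Subgroup.relIndex_subgroupOf (H := A) (le_sup_right : B ≤ A ⊔ B),
      ← Subgroup.relIndex_sup_left (K := A.subgroupOf (A ⊔ B)),
      ← Subgroup.subgroupOf_sup le_sup_left le_sup_right, Subgroup.subgroupOf_self,
      Subgroup.relIndex_top_right]
    rfl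
  rw [← card_mul_rel (le_sup_left : A ≤ A ⊔ B),
    ← card_mul_rel (inf_le_right : A ⊓ B ≤ B), Subgroup.inf_relIndex_right, hr]
  ring

/-- `P = ⟨K, T⟩` for a component `K` normalized by `T`, with `Ω₁Z(T)` not central in `P`. -/
structure GoodComp (T K : Subgroup G) : Prop where
  comp : IsJComponent T K
  normT : T ≤ Subgroup.normalizer (K : Set G)
  charTwo : Subgroup.centralizer (pCoreOf 2 (K ⊔ T) : Set G) ≤ pCoreOf 2 (K ⊔ T)
  sylow : IsSylowTwoIn T (K ⊔ T)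
  index_six : (pCoreOf 2 (K ⊔ T)).relIndex (K ⊔ T) = 6
  nonabelian : ¬ ⁅K ⊔ T, K ⊔ T⁆ ≤ pCoreOf 2 (K ⊔ T)
  active : ⁅omegaCenterOf T, K ⊔ T⁆ ≠ ⊥
  card_eq : Nat.card ↥(K ⊔ T) = 3 * Nat.card T

/-- The 2-core of `⟨K, T⟩` has index 6. -/
theorem index_six_of_normalizes {T K : Subgroup G} (hT : IsPGroup 2 ↥T) (hK : IsJComponent T K)
    (hTK : T ≤ Subgroup.normalizer (K : Set G)) (hS : IsSylowTwoIn T (K ⊔ T)) :
    (pCoreOf 2 (K ⊔ T)).relIndex (K ⊔ T) = 6 ∧ Nat.card ↥(K ⊔ T) = 3 * Nat.card T ∧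
      ¬ K ≤ pCoreOf 2 (K ⊔ T) := by
  set X := K ⊔ T with hX
  set Q := pCoreOf 2 K with hQ
  set R := pCoreOf 2 X with hR
  have hXK : X ≤ Subgroup.normalizer (K : Set G) := sup_le Subgroup.le_normalizer hTK
  have hXQ : X ≤ Subgroup.normalizer (Q : Set G) :=
    hXK.trans (CfsgLib.LocalCharP.normalizer_le_normalizer_pCoreOf K)
  have hRT : R ≤ T := pCoreOf_le_sylowIn hS
  have hQR : Q ≤ R :=
    CfsgLib.LocalCharP.le_pCoreOf ((CfsgLib.LocalCharP.pCoreOf_le K).trans le_sup_left)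
      (CfsgLib.LocalCharP.isPGroup_pCoreOf K) hXQ
  have hQK : Q = K ⊓ T := by
    have hle : Q ≤ K ⊓ T := le_inf (CfsgLib.LocalCharP.pCoreOf_le K) (hQR.trans hRT)
    refine le_antisymm hle ?_
    have h3 : Q.relIndex (K ⊓ T) * (K ⊓ T).relIndex K = 3 :=
      (Subgroup.relIndex_mul_relIndex Q (K ⊓ T) K hle inf_le_left).trans hK.2.2.1
    rcases (Nat.dvd_prime Nat.prime_three).mp ⟨_, h3.symm⟩ with h | h
    · exact Subgroup.relIndex_eq_one.mp h
    · obtain ⟨e, he⟩ := IsPGroup.iff_card.mp (hT.to_le (inf_le_right : K ⊓ T ≤ T))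
      have hd : 3 ∣ 2 ^ e := by
        rw [← he, ← h]
        exact Subgroup.relIndex_dvd_card Q (K ⊓ T)
      exact absurd (Nat.Prime.dvd_of_dvd_pow Nat.prime_three hd) (by norm_num)
  have hcard : Nat.card ↥X = 3 * Nat.card T := by
    have h1 := card_sup_inf_of_normalizes hTK
    rw [← hQK] at h1
    have h2 : Nat.card K = Nat.card Q * 3 := by
      rw [← card_mul_rel (CfsgLib.LocalCharP.pCoreOf_le K : Q ≤ K), hQ, hK.2.2.1]
    rw [h2] at h1
    have hpos : 0 < Nat.card Q := Nat.card_pos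
    exact Nat.eq_of_mul_eq_mul_right hpos (h1.trans (by ring))
  have hnotK : ¬ K ≤ R := fun h =>
    pCoreOf_ne_self hK (CfsgLib.LocalCharP.le_pCoreOf le_rfl
      ((CfsgLib.LocalCharP.isPGroup_pCoreOf X).to_le h) Subgroup.le_normalizer)
  obtain ⟨k, hk⟩ := exists_compElt hK
  have hkX : k ∈ X := Subgroup.mem_sup_left hk.mem
  have hQn : ∀ {x q : G}, x ∈ X → q ∈ Q → x * q * x⁻¹ ∈ Q := fun hx hq => conj_mem (hXQ hx) hq
  have hQn' : ∀ {x q : G}, x ∈ X → q ∈ Q → x⁻¹ * q * x ∈ Q := fun hx hq => by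
    simpa using hQn (inv_mem hx) hq
  -- the elements of `T` acting trivially on `K/Q`
  let C : Subgroup G :=
    { carrier := {x | x ∈ T ∧ x * k * x⁻¹ * k⁻¹ ∈ Q}
      one_mem' := ⟨one_mem _, by simp⟩
      mul_mem' := by
        intro x y hx hy
        refine ⟨mul_mem hx.1 hy.1, ?_⟩
        have e : x * y * k * (x * y)⁻¹ * k⁻¹ =
            x * (y * k * y⁻¹ * k⁻¹) * x⁻¹ * (x * k * x⁻¹ * k⁻¹) := by group
        rw [e]
        exact mul_mem (hQn (Subgroup.mem_sup_right hx.1) hy.2) hx.2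
      inv_mem' := by
        intro x hx
        refine ⟨inv_mem hx.1, ?_⟩
        have e : x⁻¹ * k * x⁻¹⁻¹ * k⁻¹ = x⁻¹ * (x * k * x⁻¹ * k⁻¹)⁻¹ * x := by group
        rw [e]
        exact hQn' (Subgroup.mem_sup_right hx.1) (inv_mem hx.2) }
  have hkQ : ∀ n : ℕ, k ^ n ∈ Q → 3 ∣ n := fun n hn => by
    by_contra hnd
    have h3 : k ^ (3 * (n / 3)) ∈ Q := by rw [pow_mul]; exact pow_mem hk.cube _
    have hm : k ^ (n % 3) ∈ Q := by
      have := mul_mem (inv_mem h3) hn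
      rwa [show (k ^ (3 * (n / 3)))⁻¹ * k ^ n = k ^ (n % 3) by
        rw [inv_mul_eq_iff_eq_mul, ← pow_add, Nat.div_add_mod]] at this
    rcases (show n % 3 = 1 ∨ n % 3 = 2 by omega) with h | h <;> rw [h] at hm
    · exact hk.notCore (by simpa using hm)
    · refine hk.notCore ?_
      have := mul_mem (inv_mem hm) hk.cube
      rwa [pow_succ k 2, ← mul_assoc, inv_mul_cancel, one_mul] at this
  have hdich : ∀ t ∈ T, t * k * t⁻¹ * k⁻¹ ∈ Q ∨ t * k * t⁻¹ * k ∈ Q := by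
    intro t ht
    obtain ⟨q, hq, n, hn⟩ := hk.rep _ (conj_mem (hTK ht) hk.mem)
    have hmod : k ^ (3 * (n / 3)) ∈ Q := by rw [pow_mul]; exact pow_mem hk.cube _
    have hn3 : n = 3 * (n / 3) + n % 3 := (Nat.div_add_mod n 3).symm
    rcases (show n % 3 = 0 ∨ n % 3 = 1 ∨ n % 3 = 2 by omega) with h | h | h
    · exfalso
      have h1 : t * k * t⁻¹ ∈ Q := by
        rw [hn, hn3, h, add_zero]; exact mul_mem hq hmod
      exact hk.notCore (by simpa [mul_assoc] using hQn' (Subgroup.mem_sup_right ht) h1)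
    · left
      rw [hn, hn3, h, pow_add, pow_one, ← mul_assoc, mul_inv_cancel_right]
      exact mul_mem hq hmod
    · right
      rw [hn, hn3, h, pow_add, mul_assoc, mul_assoc, ← pow_succ]
      exact mul_mem hq (mul_mem hmod hk.cube)
  have hprod : ∀ t ∈ T, ∀ t' ∈ T, t ∉ C → t' ∉ C → t * t' ∈ C := by
    intro t ht t' ht' htC ht'C
    have a1 := (hdich t ht).resolve_left fun h => htC ⟨ht, h⟩
    have a2 := (hdich t' ht').resolve_left fun h => ht'C ⟨ht', h⟩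
    refine ⟨mul_mem ht ht', ?_⟩
    have e : t * t' * k * (t * t')⁻¹ * k⁻¹ =
        t * (t' * k * t'⁻¹ * k) * t⁻¹ * (k * (t * k * t⁻¹ * k)⁻¹ * k⁻¹) := by group
    rw [e]
    exact mul_mem (hQn (Subgroup.mem_sup_right ht) a2) (hQn hkX (inv_mem a1))
  have hQC : Q ≤ C := fun q hq => by
    refine ⟨(hQR.trans hRT) hq, ?_⟩
    have e : q * k * q⁻¹ * k⁻¹ = q * (k * q⁻¹ * k⁻¹) := by group
    rw [e]
    exact mul_mem hq (hQn hkX (inv_mem hq))
  have hCR : C ≤ R := by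
    have hCT : C ≤ T := fun x hx => hx.1
    refine CfsgLib.LocalCharP.le_pCoreOf (hCT.trans le_sup_right)
      (hT.to_le fun x hx => hx.1) (sup_le ?_ ?_)
    · intro x hx
      obtain ⟨q, hq, n, rfl⟩ := hk.rep x hx
      refine mul_mem (Subgroup.le_normalizer (hQC hq)) (pow_mem ?_ n)
      refine Subgroup.mem_normalizer_iff_map_conj_eq.mpr (Subgroup.eq_of_le_of_card_ge ?_
        (le_of_eq (Subgroup.card_map_of_injective (MulAut.conj k).injective).symm))
      rintro _ ⟨c, hc, rfl⟩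
      have e : k * c * k⁻¹ = (c * k * c⁻¹ * k⁻¹)⁻¹ * c := by group
      show k * c * k⁻¹ ∈ C
      rw [e]
      exact mul_mem (hQC (inv_mem hc.2)) hc
    · refine CfsgLib.LocalCharP.le_normalizer_of_conj_mem fun t ht c hc =>
        ⟨mul_mem (mul_mem ht hc.1) (inv_mem ht), ?_⟩
      by_cases htC : t ∈ C
      · exact (mul_mem (mul_mem htC hc) (inv_mem htC)).2
      · by_cases h' : t * c ∈ C
        · exact absurd (by simpa using mul_mem h' (inv_mem hc)) htC
        · exact (hprod _ (mul_mem ht hc.1) _ (inv_mem ht) h'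
            (fun h => htC (by simpa using inv_mem h))).2
  obtain ⟨t₀, ht₀, ht₀R⟩ := Set.not_subset.mp fun h : (T : Set G) ⊆ R =>
    J_not_le_pCoreOf hK (le_sup_left : K ≤ X) ((CfsgLib.LocalP.thompsonSubgroupOf_le T).trans h)
  have h2 : R.relIndex T = 2 := by
    rw [Subgroup.relIndex, Subgroup.index_eq_two_iff]
    refine ⟨⟨t₀, ht₀⟩, fun b => ?_⟩
    show Xor ((b : G) * t₀ ∈ R) ((b : G) ∈ R)
    by_cases hb : (b : G) ∈ R
    · exact Or.inr ⟨hb, fun hh => ht₀R (by simpa using mul_mem (inv_mem hb) hh)⟩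
    · exact Or.inl ⟨hCR (hprod _ b.2 _ ht₀ (fun h => hb (hCR h)) fun h => ht₀R (hCR h)), hb⟩
  have h3 : T.relIndex X = 3 := by
    have h := card_mul_rel (le_sup_right : T ≤ X)
    rw [hcard] at h
    exact Nat.eq_of_mul_eq_mul_left (Nat.card_pos : 0 < Nat.card T) (h.trans (mul_comm _ _))
  refine ⟨?_, hcard, hnotK⟩
  rw [← Subgroup.relIndex_mul_relIndex R T X hRT le_sup_right, h2, h3]

namespace Setup

variable {S : Sylow 2 G} {M T L : Subgroup G} (P : Setup S M T L)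

include P

theorem outside_of_outComp {K : Subgroup G} (hK : K ∈ outComps M T L) : K ∈ jComponentsOutside M T :=
  ⟨P.zero hK, hK.2.2, ne_bot_of_le_ne_bot (pCore_ne_bot_of_mem P.hLj)
    (CfsgLib.LocalCharP.le_pCoreOf ((pCoreOf_le_T P.hLj).trans le_sup_right)
      (CfsgLib.LocalCharP.isPGroup_pCoreOf L)
      ((sup_le hK.2.1 P.T_le_L).trans (CfsgLib.LocalCharP.le_normalizer_pCoreOf L)))⟩

/-- A component outside `M` gives a good pair `(T, K)`, and `Ω₁Z(T) = Ω₁Z(J(T))`. -/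
theorem goodComp (hO : pCore 2 G = ⊥) (hTS : T ≤ (S : Subgroup G)) {K : Subgroup G}
    (hK : K ∈ outComps M T L) : GoodComp T K ∧ omegaCenterOf T = ZJ T := by
  obtain ⟨hTK, hcases⟩ := component_cases S P.hG hO P.hMJ P.hT hTS (P.outside_of_outComp hK) P.hLmax
    (sup_le hK.2.1 P.J_le_L)
  have hZT : omegaCenterOf T = ZJ T := by
    have hle := omegaCenter_le (pCoreOf_le_T P.hLj) hTS P.hLj.2.2
    rcases hcases with ⟨h, -⟩ | ⟨h, -, -⟩ | ⟨h, -, -⟩
    · exact le_antisymm P.omegaCenter_T_le (h.ge.trans hle)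
    · exact le_antisymm P.omegaCenter_T_le (h.ge.trans hle)
    · exact h
  have hXL : K ⊔ T ≤ L := sup_le hK.2.1 P.T_le_L
  have hS : IsSylowTwoIn T (K ⊔ T) :=
    ⟨le_sup_right, P.Tp, P.hLj.1.2.2.of_dvd_nat
      ⟨_, (Subgroup.relIndex_mul_relIndex T (K ⊔ T) L le_sup_right hXL).symm⟩⟩
  obtain ⟨h6, hcard, hnotK⟩ := index_six_of_normalizes P.Tp hK.1 hTK hS
  have hOL : pCoreOf 2 L ≤ pCoreOf 2 (K ⊔ T) :=
    CfsgLib.LocalCharP.le_pCoreOf ((pCoreOf_le_T P.hLj).trans le_sup_right)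
      (CfsgLib.LocalCharP.isPGroup_pCoreOf L) (hXL.trans (CfsgLib.LocalCharP.le_normalizer_pCoreOf L))
  refine ⟨⟨hK.1, hTK, ((Subgroup.centralizer_le hOL).trans P.hLj.2.2).trans hOL, hS, h6, fun h => hnotK ?_,
    fun h => ?_, hcard⟩, hZT⟩
  · refine le_trans ?_ h
    rw (occs := .pos [1]) [← hK.1.2.1]
    exact Subgroup.commutator_mono le_sup_left
      ((CfsgLib.LocalP.thompsonSubgroupOf_le T).trans le_sup_right)
  · obtain ⟨w, hw, -, -, hwK, -⟩ := P.split hK.1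
    rw [Subgroup.commutator_eq_bot_iff_le_centralizer, hZT] at h
    exact hwK (Subgroup.centralizer_le (SetLike.coe_subset_coe.mpr (le_sup_left : K ≤ K ⊔ T)) (h hw))

end Setup

/-- Two configurations on `T` with different maximal 2-local subgroups generate a subgroup with
trivial 2-core. -/
theorem pCoreOf_pair_eq_bot {S S' : Sylow 2 G} {M M' T L L' K K' : Subgroup G} (P : Setup S M T L)
    (P' : Setup S' M' T L') (hK : K ∈ outComps M T L) (hK' : K' ∈ outComps M' T L') (hne : L ≠ L') :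
    pCoreOf 2 ((K ⊔ T) ⊔ (K' ⊔ T)) = ⊥ := by
  by_contra hO
  obtain ⟨L₂, hL₂, hle⟩ := exists_maximal_twoLocal
    (N := Subgroup.normalizer (pCoreOf 2 ((K ⊔ T) ⊔ (K' ⊔ T)) : Set G))
    ⟨_, CfsgLib.LocalCharP.isPGroup_pCoreOf _, hO, rfl⟩
  have hX := (CfsgLib.LocalCharP.le_normalizer_pCoreOf (p := 2) ((K ⊔ T) ⊔ (K' ⊔ T))).trans hle
  have hJ := CfsgLib.LocalP.thompsonSubgroupOf_le (p := 2) T
  have e1 := P.uniq hK hL₂ (sup_le (le_sup_left.trans (le_sup_left.trans hX))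
    ((hJ.trans le_sup_right).trans (le_sup_left.trans hX)))
  have e2 := P'.uniq hK' hL₂ (sup_le (le_sup_left.trans (le_sup_right.trans hX))
    ((hJ.trans le_sup_right).trans (le_sup_right.trans hX)))
  exact hne (e1.symm.trans e2)

omit [Finite G] in
theorem pCore_subgroupOf_map {A B : Subgroup G} (h : A ≤ B) :
    (pCore 2 ↥(A.subgroupOf B)).map (Subgroup.subgroupOfEquivOfLe h).toMonoidHom = pCore 2 ↥A :=
  CfsgLib.Amalgam.map_pCore_equiv _

namespace GoodComp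

variable {T K K' : Subgroup G}

theorem pCoreOf_ne_bot (h : GoodComp T K) : pCoreOf 2 (K ⊔ T) ≠ ⊥ := fun hb => by
  have hc := h.charTwo
  rw [hb] at hc
  have hK : K ≤ ⊥ := fun x _ => hc (Subgroup.mem_centralizer_iff.mpr fun y hy => by
    rw [SetLike.mem_coe, Subgroup.mem_bot] at hy
    simp [hy])
  exact pCoreOf_ne_self h.comp (hK.trans bot_le)

theorem pCoreOf_le_T (h : GoodComp T K) : pCoreOf 2 (K ⊔ T) ≤ T := pCoreOf_le_sylowIn h.sylow

/-- The groups of a pair with trivial common 2-core. -/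
theorem inf_eq (h : GoodComp T K) (h' : GoodComp T K') (hO : pCoreOf 2 ((K ⊔ T) ⊔ (K' ⊔ T)) = ⊥) :
    (K ⊔ T) ⊓ (K' ⊔ T) = T := by
  have hle : T ≤ (K ⊔ T) ⊓ (K' ⊔ T) := le_inf le_sup_right le_sup_right
  have h3 : T.relIndex ((K ⊔ T) ⊓ (K' ⊔ T)) * ((K ⊔ T) ⊓ (K' ⊔ T)).relIndex (K ⊔ T) = 3 := by
    rw [Subgroup.relIndex_mul_relIndex _ _ _ hle inf_le_left]
    have hc := card_mul_rel (le_sup_right : T ≤ K ⊔ T)
    rw [h.card_eq] at hc
    exact Nat.eq_of_mul_eq_mul_left (Nat.card_pos : 0 < Nat.card T) (hc.trans (mul_comm _ _))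
  rcases (Nat.dvd_prime Nat.prime_three).mp ⟨_, h3.symm⟩ with e | e
  · exact le_antisymm (Subgroup.relIndex_eq_one.mp e) hle
  exfalso
  have h1 : ((K ⊔ T) ⊓ (K' ⊔ T)).relIndex (K ⊔ T) = 1 := by rw [e] at h3; omega
  have hsub : K ⊔ T ≤ K' ⊔ T := (Subgroup.relIndex_eq_one.mp h1).trans inf_le_right
  have heq := Subgroup.eq_of_le_of_card_ge hsub (by rw [h.card_eq, h'.card_eq])
  rw [← heq, sup_idem] at hO
  exact h.pCoreOf_ne_bot hO

/-- Both groups are `S₄` or both `C₂ × S₄`, and the 2-cores are elementary abelian. -/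
theorem amalgam (h : GoodComp T K) (h' : GoodComp T K')
    (hO : pCoreOf 2 ((K ⊔ T) ⊔ (K' ⊔ T)) = ⊥) :
    IsElementaryAbelian 2 (pCoreOf 2 (K ⊔ T)) ∧
      ((Nonempty (↥(K ⊔ T) ≃* Equiv.Perm (Fin 4)) ∧ Nonempty (↥(K' ⊔ T) ≃* Equiv.Perm (Fin 4))) ∨
        (Nonempty (↥(K ⊔ T) ≃* Multiplicative (ZMod 2) × Equiv.Perm (Fin 4)) ∧
          Nonempty (↥(K' ⊔ T) ≃* Multiplicative (ZMod 2) × Equiv.Perm (Fin 4)))) := by
  classical
  have hinf := h.inf_eq h' hO
  set A := K ⊔ T with hA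
  set B := K' ⊔ T with hB
  set X := A ⊔ B with hX
  have hAX : A ≤ X := le_sup_left
  have hBX : B ≤ X := le_sup_right
  set M₁ := A.subgroupOf X
  set M₂ := B.subgroupOf X
  let e₁ := Subgroup.subgroupOfEquivOfLe hAX
  let e₂ := Subgroup.subgroupOfEquivOfLe hBX
  have hM : M₁ ⊓ M₂ = T.subgroupOf X := by
    rw [show M₁ ⊓ M₂ = (A ⊓ B).subgroupOf X from (Subgroup.comap_inf _ _ _).symm, hinf]
  have hTX : T ≤ X := le_sup_right.trans hAX
  have cM : Nat.card ↥(M₁ ⊓ M₂) = Nat.card T := by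
    rw [hM]; exact Nat.card_congr (Subgroup.subgroupOfEquivOfLe hTX).toEquiv
  have hcore : ∀ {K₀ : Subgroup G}, GoodComp T K₀ → (hle : K₀ ⊔ T ≤ X) →
      Nat.card ↥((K₀ ⊔ T).subgroupOf X) = 6 * Nat.card (pCore 2 ↥((K₀ ⊔ T).subgroupOf X)) ∧
      Subgroup.centralizer (pCore 2 ↥((K₀ ⊔ T).subgroupOf X) : Set ↥((K₀ ⊔ T).subgroupOf X)) ≤
        pCore 2 ↥((K₀ ⊔ T).subgroupOf X) ∧
      ¬ (K₀ ⊔ T).subgroupOf X ≤ Subgroup.centralizer
          (CfsgLib.Amalgam.omegaCentre 2 (M₁ ⊓ M₂) : Set ↥X) := by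
    intro K₀ hg hle
    set e := Subgroup.subgroupOfEquivOfLe hle
    have hmap := pCore_subgroupOf_map hle
    have hmem : ∀ y, y ∈ pCore 2 ↥((K₀ ⊔ T).subgroupOf X) ↔
        ((y : ↥X) : G) ∈ pCoreOf 2 (K₀ ⊔ T) := fun y => by
      constructor
      · intro hy
        exact ⟨e y, by rw [← hmap]; exact Subgroup.mem_map_of_mem _ hy, rfl⟩
      · rintro ⟨z, hz, he⟩
        rw [← hmap] at hz
        obtain ⟨u, hu, rfl⟩ := hz
        have : u = y := Subtype.ext (Subtype.ext he)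
        exact this ▸ hu
    refine ⟨?_, ?_, ?_⟩
    · have hc1 : Nat.card ↥((K₀ ⊔ T).subgroupOf X) = Nat.card ↥(K₀ ⊔ T) := Nat.card_congr e.toEquiv
      have hc2 : Nat.card (pCore 2 ↥((K₀ ⊔ T).subgroupOf X)) = Nat.card ↥(pCoreOf 2 (K₀ ⊔ T)) := by
        rw [pCoreOf, Subgroup.card_map_of_injective (Subgroup.subtype_injective _), ← hmap,
          Subgroup.card_map_of_injective (by exact e.injective)]
      rw [hc1, hc2, ← card_mul_rel (CfsgLib.LocalCharP.pCoreOf_le (p := 2) (K₀ ⊔ T)),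
        hg.index_six, mul_comm]
    · intro y hy
      refine (hmem y).mpr (hg.charTwo (Subgroup.mem_centralizer_iff.mpr fun q hq => ?_))
      have hqA := CfsgLib.LocalCharP.pCoreOf_le (p := 2) (K₀ ⊔ T) hq
      exact congrArg (fun z : ↥((K₀ ⊔ T).subgroupOf X) => ((z : ↥X) : G))
        (Subgroup.mem_centralizer_iff.mp hy ⟨⟨q, hle hqA⟩, hqA⟩ ((hmem _).mpr hq))
    · intro hc
      refine hg.active (Subgroup.commutator_eq_bot_iff_le_centralizer.mpr fun z hz => ?_)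
      obtain ⟨hzT, hzc, hz2⟩ := mem_omegaCenterOf.mp hz
      have hzM : (⟨z, hTX hzT⟩ : ↥X) ∈ CfsgLib.Amalgam.omegaCentre 2 (M₁ ⊓ M₂) := by
        refine Subgroup.subset_closure ⟨⟨?_, Subgroup.mem_centralizer_iff.mpr fun t ht => ?_⟩, Subtype.ext hz2⟩
        · rw [hM]; exact hzT
        · rw [SetLike.mem_coe, hM] at ht
          exact Subtype.ext (Subgroup.mem_centralizer_iff.mp hzc _ ht)
      refine Subgroup.mem_centralizer_iff.mpr fun x hx => ?_
      exact congrArg Subtype.val (Subgroup.mem_centralizer_iff.mp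
        (hc (show (⟨x, hle hx⟩ : ↥X) ∈ (K₀ ⊔ T).subgroupOf X from hx)) _ hzM).symm
  obtain ⟨k1, p1, a1⟩ := hcore h hAX
  obtain ⟨k2, p2, a2⟩ := hcore h' hBX
  have hne : ∀ {C D : Subgroup G}, C ⊓ D = T → C ⊔ D = X → T ≠ D → C.subgroupOf X ≠ ⊤ := by
    intro C D hCD hsup hTD htop
    rw [Subgroup.subgroupOf_eq_top] at htop
    exact hTD (hCD.symm.trans (inf_eq_right.mpr ((le_sup_right.trans hsup.le).trans htop)))
  have hTne : ∀ {K₀ : Subgroup G}, GoodComp T K₀ → T ≠ K₀ ⊔ T := fun hg he => by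
    have := hg.card_eq
    rw [← he] at this
    have hpos : 0 < Nat.card T := Nat.card_pos
    omega
  have hP : CfsgLib.Amalgam.SThreeActive M₁ M₂ :=
    { pair := ⟨by rw [← Subgroup.subgroupOf_sup hAX hBX, Subgroup.subgroupOf_self],
        hne hinf rfl (hTne h'), hne ((inf_comm B A).trans hinf) (sup_comm B A) (hTne h), fun N hN hn => by
          have hNT : N.map X.subtype ≤ T := by
            refine (Subgroup.map_mono (hN.trans hM.le)).trans ?_
            rw [Subgroup.map_subgroupOf_eq_of_le hTX]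
          have hNp : IsPGroup 2 ↥(N.map X.subtype) := h.sylow.2.1.to_le hNT
          have hle : N.map X.subtype ≤ pCoreOf 2 X :=
            CfsgLib.LocalCharP.le_pCoreOf (Subgroup.map_subtype_le _) hNp
              (CfsgLib.LocalCharP.le_normalizer_of_conj_mem (by
                rintro g hg _ ⟨y, hy, rfl⟩
                exact ⟨⟨g, hg⟩ * y * ⟨g, hg⟩⁻¹, hn.conj_mem y hy ⟨g, hg⟩, rfl⟩))
          rw [hO, le_bot_iff, Subgroup.map_eq_bot_iff_of_injective _ X.subtype_injective] at hle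
          exact hle⟩
      finite₁ := inferInstance
      finite₂ := inferInstance
      two := by rw [hM]; exact h.sylow.2.1.comap_of_injective X.subtype X.subtype_injective
      card₁ := by rw [cM, ← h.card_eq]; exact Nat.card_congr e₁.toEquiv
      card₂ := by rw [cM, ← h'.card_eq]; exact Nat.card_congr e₂.toEquiv
      core₁ := k1
      core₂ := k2
      charP₁ := p1
      charP₂ := p2
      active₁ := a1
      active₂ := a2 }
  refine ⟨?_, ?_⟩
  · have key : ∀ v ∈ pCoreOf 2 A, ∃ x ∈ vertexZ 2 (CfsgLib.Amalgam.base₁ M₁ M₂), (x : G) = v := by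
      intro v hv
      obtain ⟨y, hy, rfl⟩ := hv
      rw [← pCore_subgroupOf_map hAX] at hy
      obtain ⟨u, hu, rfl⟩ := hy
      refine ⟨(u : ↥X), ?_, rfl⟩
      rw [← hP.Q_eq_Z, vertexQ, CfsgLib.Amalgam.stabilizer_base₁]
      exact ⟨u, hu, rfl⟩
    refine CfsgLib.LocalP.isElementaryAbelian_iff.mpr ⟨fun x hx y hy => ?_, fun x hx => ?_⟩
    · obtain ⟨x', hx', rfl⟩ := key x hx
      obtain ⟨y', hy', rfl⟩ := key y hy
      exact congrArg Subtype.val (hP.Z_comm hx' hy')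
    · obtain ⟨x', hx', rfl⟩ := key x hx
      rw [sq]
      exact congrArg Subtype.val (hP.Z_sq hx')
  · rcases hP.groups with ⟨⟨f⟩, ⟨g⟩⟩ | ⟨⟨f⟩, ⟨g⟩⟩
    · exact Or.inl ⟨⟨e₁.symm.trans f⟩, ⟨e₂.symm.trans g⟩⟩
    · exact Or.inr ⟨⟨e₁.symm.trans f⟩, ⟨e₂.symm.trans g⟩⟩

theorem card_pCoreOf_le (h : GoodComp T K) (h' : GoodComp T K')
    (hO : pCoreOf 2 ((K ⊔ T) ⊔ (K' ⊔ T)) = ⊥) : Nat.card ↥(pCoreOf 2 (K ⊔ T)) ≤ 8 := by
  have hc : Nat.card ↥(K ⊔ T) ≤ 48 := by
    rcases (h.amalgam h' hO).2 with ⟨⟨f⟩, -⟩ | ⟨⟨f⟩, -⟩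
    · rw [Nat.card_congr f.toEquiv, Nat.card_perm, Nat.card_fin]
      decide
    · rw [Nat.card_congr f.toEquiv, Nat.card_prod, Nat.card_perm, Nat.card_fin,
        Nat.card_congr (Multiplicative.toAdd (α := ZMod 2)), Nat.card_zmod]
      decide
  rw [← card_mul_rel (CfsgLib.LocalCharP.pCoreOf_le (p := 2) (K ⊔ T)), h.index_six] at hc
  omega

end GoodComp

end CfsgLib.JComp
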