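import Cfsg.Agent.JComp.Cases
import Cfsg.Agent.JComp.Orbit

/-!
When every straddler relative to `L` is smaller than the Sylow subgroup, `L` has only one component
outside `M`.
-/

set_option autoImplicit false

open Cfsg
open scoped Pointwise commutatorElement

namespace CfsgLib.JComp

variable {G : Type*} [Group G] [Finite G]

local instance : Fact (Nat.Prime 2) := ⟨Nat.prime_two⟩

/-- In a four-group with an element `w` moved by the fixed-point-free `k`, the elements are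
`1, w, w^k, w * w^k`, and the third is `w^{k²}`. -/
theorem wOf_four {T K : Subgroup G} (hK : IsJComponent T K) {k : G} (hk : CompElt K k) {w : G}
    (hw : w ∈ wOf K) (hw1 : w ≠ 1) :
    (∀ x ∈ wOf K, x = 1 ∨ x = w ∨ x = k * w * k⁻¹ ∨ x = w * (k * w * k⁻¹)) ∧
      k * (k * w * k⁻¹) * k⁻¹ = w * (k * w * k⁻¹) ∧ k * w * k⁻¹ ≠ w ∧ k * w * k⁻¹ ≠ 1 := by
  set W := wOf K with hW
  have hel := CfsgLib.LocalP.isElementaryAbelian_iff.mp (wOf_elementary hK)
  set u := k * w * k⁻¹ with hu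
  have huW : u ∈ W := conj_mem hk.mem_normalizer_wOf hw
  have hne : u ≠ w := fun h => hw1 (hk.fpf hK hw h)
  have hu1 : u ≠ 1 := fun h => hw1 (conj_eq_one_iff.mp h)
  have hwu1 : w * u ≠ 1 := fun h => hne (by
    rw [eq_inv_of_mul_eq_one_right h]; exact CompGen.elem_inv (wOf_elementary hK) hw)
  have hwuw : w * u ≠ w := fun h => hu1 (mul_left_cancel (h.trans (mul_one w).symm))
  have hwuu : w * u ≠ u := fun h => hw1 (mul_right_cancel (h.trans (one_mul u).symm))
  have hall : ∀ x ∈ W, x = 1 ∨ x = w ∨ x = u ∨ x = w * u := by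
    intro x hx
    by_contra hcon
    push Not at hcon
    obtain ⟨h1, h2, h3, h4⟩ := hcon
    have hsub : ({1, w, u, w * u, x} : Set G) ⊆ (W : Set G) := by
      rintro y (rfl | rfl | rfl | rfl | rfl)
      exacts [one_mem _, hw, huW, mul_mem hw huW, hx]
    have hc := Set.ncard_le_ncard hsub (Set.toFinite _)
    rw [Set.ncard_insert_of_notMem (by simp [Ne.symm hw1, Ne.symm hu1, Ne.symm hwu1, Ne.symm h1]) (Set.toFinite _),
      Set.ncard_insert_of_notMem (by simp [Ne.symm hne, Ne.symm hwuw, Ne.symm h2]) (Set.toFinite _),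
      Set.ncard_insert_of_notMem (by simp [Ne.symm hwuu, Ne.symm h3]) (Set.toFinite _),
      Set.ncard_pair (Ne.symm h4), ← Nat.card_coe_set_eq] at hc
    have hc' : 5 ≤ Nat.card ↥W := hc
    have h4' : Nat.card ↥W = 4 := hK.2.2.2.2.1
    omega
  refine ⟨hall, ?_, hne, hu1⟩
  rcases hall _ (conj_mem hk.mem_normalizer_wOf huW) with h | h | h | h
  · exact absurd (conj_eq_one_iff.mp h) hu1
  · refine absurd (hk.fpf hK hw ?_) hw1
    calc k * w * k⁻¹ = k * (k * u * k⁻¹) * k⁻¹ := by rw [h]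
      _ = w := hk.cube_conj (wOf_le_omega hK hw)
  · exact absurd (hk.fpf hK huW h) hu1
  · exact h

theorem Setup.wOf_le_module {S : Sylow 2 G} {M T L K : Subgroup G} (P : Setup S M T L)
    (hK : K ∈ outComps M T L) : wOf K ≤ sylowCenterClosure 2 L := by
  obtain ⟨r, τ, g, hS⟩ := exists_lSystem P.hG P.hLj
  obtain ⟨i, rfl⟩ := hS.exists_eq_comp P.hG P.hLj hK.1 hK.2.1
  exact (hS.compGen P.hLj i).wOf_le_module

theorem Setup.pCoreOf_comp_le {S : Sylow 2 G} {M T L K : Subgroup G} (P : Setup S M T L)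
    (hK : K ∈ outComps M T L) : pCoreOf 2 K ≤ T := by
  obtain ⟨r, τ, g, hS⟩ := exists_lSystem P.hG P.hLj
  obtain ⟨i, rfl⟩ := hS.exists_eq_comp P.hG P.hLj hK.1 hK.2.1
  rw [(hS.compGen P.hLj i).pCore_eq]
  exact inf_le_right.trans (pCoreOf_le_T P.hLj)

theorem proper_unique (S : Sylow 2 G) {M L T' L' K' K₁ K₂ : Subgroup G}
    (P : Setup S M (S : Subgroup G) L)
    (hNJ : Subgroup.normalizer (thompsonSubgroupOf 2 (S : Subgroup G) : Set G) ≤ L)
    (P' : Setup S L T' L') (hT'S : T' ≤ (S : Subgroup G)) (hne : T' ≠ (S : Subgroup G))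
    (hK' : K' ∈ outComps L T' L') (h₁ : K₁ ∈ outComps M (S : Subgroup G) L)
    (h₂ : K₂ ∈ outComps M (S : Subgroup G) L) : K₁ = K₂ := by
  classical
  by_contra h12
  set T := (S : Subgroup G) with hT
  set R := outComps M T L with hR
  obtain ⟨-, hT'K', -, -, z, hz, hz1, hzall, hzout, -⟩ := P'.lt_facts hT'S hne hK'
  have hCz : Subgroup.centralizer ({z} : Set G) ≤ Subgroup.normalizer (T : Set G) :=
    centralizer_le_of_unique P.hG hzall
  have hNSJ : Subgroup.normalizer (T : Set G) ≤ Subgroup.normalizer (thompsonSubgroupOf 2 T : Set G) :=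
    CfsgLib.LocalP.le_normalizer_thompsonSubgroupOf T
  have hNSL : Subgroup.normalizer (T : Set G) ≤ L := hNSJ.trans hNJ
  have hNSM : Subgroup.normalizer (T : Set G) ≤ M := hNSJ.trans P.hMJ
  have hTN : T ≤ Subgroup.normalizer (T : Set G) := Subgroup.le_normalizer
  -- the module spanned by the four-groups
  set V := sylowCenterClosure 2 L
  have hVel := CfsgLib.LocalP.isElementaryAbelian_iff.mp
    (CfsgLib.LocalCharP.sylowCenterClosure_elementaryAbelian (charP_of_mem P.hLj) : IsElementaryAbelian 2 V)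
  set V₀ := sSup (wOf '' R) with hV₀
  have hWV₀ : ∀ X ∈ R, wOf X ≤ V₀ := fun X hX => le_sSup ⟨X, hX, rfl⟩
  have hV₀V : V₀ ≤ V := sSup_le (by rintro _ ⟨X, hX, rfl⟩; exact P.wOf_le_module hX)
  have hV₀S : V₀ ≤ T := hV₀V.trans (((module_le P.hLj).trans inf_le_left).trans (pCoreOf_le_T P.hLj))
  have hab : ∀ a ∈ V₀, ∀ b ∈ V₀, a * b = b * a := fun a ha b hb => hVel.1 a (hV₀V ha) b (hV₀V hb)
  have hinv : ∀ a ∈ V₀, a * a = 1 := fun a ha => by rw [← sq]; exact hVel.2 a (hV₀V ha)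
  have hNV : Subgroup.normalizer (T : Set G) ≤ Subgroup.normalizer (V₀ : Set G) := by
    refine CfsgLib.LocalCharP.le_normalizer_of_conj_mem fun n hn x hx => ?_
    have hle : V₀ ≤ V₀.comap (MulAut.conj n).toMonoidHom := sSup_le (by
      rintro _ ⟨X, hX, rfl⟩
      refine Subgroup.map_le_iff_le_comap.mp ?_
      rw [map_wOf]
      exact hWV₀ _ (P.conj_outComp hX (hNSL hn) (hNSM hn)))
    exact hle hx
  -- every element of `V₀` is conjugate in `L` to one of `Ω₁Z(J(S))`
  have hcomps : ∀ s : Finset (Subgroup G), (∀ X ∈ s, X ∈ R) → ∀ x ∈ s.sup wOf,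
      ∃ c ∈ s.sup id, c⁻¹ * x * c ∈ ZJ T := by
    intro s
    induction s using Finset.induction_on with
    | empty =>
      intro _ x hx
      rw [Finset.sup_empty, Subgroup.mem_bot] at hx
      exact ⟨1, one_mem _, by rw [hx]; simp⟩
    | insert X s hXs ih =>
      intro hs x hx
      have hX : X ∈ R := hs X (Finset.mem_insert_self X s)
      have hs' : ∀ Y ∈ s, Y ∈ R := fun Y hY => hs Y (Finset.mem_insert_of_mem hY)
      have hsV : s.sup wOf ≤ V₀ := Finset.sup_le fun Y hY => hWV₀ Y (hs' Y hY)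
      rw [Finset.sup_insert] at hx
      have hx' : x ∈ (wOf X : Set G) * ((s.sup wOf : Subgroup G) : Set G) := by
        rw [← Subgroup.coe_mul_of_right_le_normalizer_left _ _ ?_]
        · exact hx
        · refine CfsgLib.LocalCharP.le_normalizer_of_conj_mem fun b hb a ha => ?_
          rw [hab b (hsV hb) a (hWV₀ X hX ha), mul_inv_cancel_right]
          exact ha
      obtain ⟨a, ha, b, hb, rfl⟩ := hx'
      obtain ⟨c, hc, hcb⟩ := ih hs' b hb
      rw [Finset.sup_insert, id]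
      rcases eq_or_ne a 1 with rfl | ha1
      · exact ⟨c, Subgroup.mem_sup_right hc, by simpa using hcb⟩
      obtain ⟨w, hw, hwX, hw1, -, -, -⟩ := P.split hX.1
      obtain ⟨k, hk⟩ := exists_compElt hX.1
      obtain ⟨hall, hkk, -, -⟩ := wOf_four hX.1 hk hwX hw1
      obtain ⟨m, hm, hma⟩ : ∃ m ∈ X, m⁻¹ * a * m = w := by
        rcases hall a ha with h | h | h | h
        · exact absurd h ha1
        · exact ⟨1, one_mem _, by rw [h]; group⟩
        · exact ⟨k, hk.mem, by rw [h]; group⟩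
        · exact ⟨k * k, mul_mem hk.mem hk.mem, by rw [h, ← hkk]; group⟩
      have hcw : c * w = w * c := by
        have hle : s.sup id ≤ Subgroup.centralizer (wOf X : Set G) := Finset.sup_le fun Y hY =>
          P.comp_cent hX (hs' Y hY) fun h => hXs (h ▸ hY)
        exact (Subgroup.mem_centralizer_iff.mp (hle hc) w hwX).symm
      have hmb : m * b = b * m := by
        have hle : s.sup wOf ≤ Subgroup.centralizer (X : Set G) := Finset.sup_le fun Y hY =>
          Subgroup.le_centralizer_iff.mp (P.comp_cent (hs' Y hY) hX fun h => hXs (h ▸ hY))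
        exact Subgroup.mem_centralizer_iff.mp (hle hb) m hm
      refine ⟨m * c, mul_mem (Subgroup.mem_sup_left hm) (Subgroup.mem_sup_right hc), ?_⟩
      have e : (m * c)⁻¹ * (a * b) * (m * c) = w * (c⁻¹ * b * c) := by
        calc (m * c)⁻¹ * (a * b) * (m * c) = c⁻¹ * (m⁻¹ * a * (b * m)) * c := by group
          _ = c⁻¹ * (m⁻¹ * a * m * b) * c := by rw [← hmb]; group
          _ = c⁻¹ * (w * b) * c := by rw [hma]
          _ = c⁻¹ * (w * c) * (c⁻¹ * b * c) := by group
          _ = _ := by rw [← hcw]; group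
      show (m * c)⁻¹ * (a * b) * (m * c) ∈ ZJ T
      rw [e]
      exact mul_mem hw hcb
  have hconjZ : ∀ x ∈ V₀, ∃ c ∈ L, c⁻¹ * x * c ∈ ZJ T := by
    intro x hx
    haveI : Fintype (Subgroup G) := Fintype.ofFinite _
    set s : Finset (Subgroup G) := Finset.univ.filter fun X => X ∈ R
    have hle : V₀ ≤ s.sup wOf := sSup_le (by
      rintro _ ⟨X, hX, rfl⟩
      exact Finset.le_sup (f := wOf) (by simp [s, hX]))
    obtain ⟨c, hc, h⟩ := hcomps s (fun X hX => (Finset.mem_filter.mp hX).2) x (hle hx)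
    exact ⟨c, (Finset.sup_le (f := id) fun X hX => (Finset.mem_filter.mp hX).2.2.1 : s.sup id ≤ L) hc, h⟩
  have hTZ : T ≤ Subgroup.normalizer (ZJ T : Set G) :=
    hTN.trans (hNSJ.trans P.normalizer_J_le_normalizer_ZJ)
  have hTp : IsPGroup 2 ↥T := S.isPGroup'
  -- elements other than `z` are centralized by a component
  have hctl : ∀ a ∈ ZJ T, a = 1 ∨ a = z ∨ ∃ X ∈ R, a ∈ ctr T X := by
    intro a ha
    by_contra hcon
    push Not at hcon
    obtain ⟨ha1, haz, hno⟩ := hcon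
    set B := ZJ T ⊓ ⨅ X ∈ R, Subgroup.centralizer (X : Set G)
    have hBn : T ≤ Subgroup.normalizer (B : Set G) := by
      refine CfsgLib.LocalCharP.le_normalizer_of_conj_mem fun t ht x hx => Subgroup.mem_inf.mpr
        ⟨conj_mem (hTZ ht) hx.1, Subgroup.mem_iInf.mpr fun X => Subgroup.mem_iInf.mpr fun hX => ?_⟩
      refine Subgroup.mem_centralizer_iff.mpr fun y hy => ?_
      have hX' := P.conj_outComp hX (inv_mem (P.T_le_L ht)) (inv_mem (P.T_le_M ht))
      have hmem : x ∈ Subgroup.centralizer (X.map (MulAut.conj t⁻¹).toMonoidHom : Set G) :=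
        Subgroup.mem_iInf.mp (Subgroup.mem_iInf.mp hx.2 _) hX'
      have h := Subgroup.mem_centralizer_iff.mp hmem _ (Subgroup.mem_map_of_mem _ hy)
      rw [show (MulAut.conj t⁻¹).toMonoidHom y = t⁻¹ * y * t by simp [mul_assoc]] at h
      calc y * (t * x * t⁻¹) = t * (t⁻¹ * y * t * x) * t⁻¹ := by group
        _ = t * (x * (t⁻¹ * y * t)) * t⁻¹ := by rw [h]
        _ = t * x * t⁻¹ * y := by group
    have hBbot : B = ⊥ := by
      by_contra hB
      obtain ⟨b, hb, hb1⟩ := (Subgroup.bot_or_exists_ne_one _).resolve_left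
        (CfsgLib.LocalCharP.inf_centralizer_ne_bot (CfsgLib.LocalP.isPGroup_of_isElementaryAbelian
          (CfsgLib.LocalP.isElementaryAbelian_mono (omegaCenterOf_elem _) inf_le_left)) hB hTp hBn)
      have hbz : b = z := (hzall b (mem_omegaCenterOf.mpr
        ⟨CfsgLib.LocalP.thompsonSubgroupOf_le T (omegaCenterOf_le _ hb.1.1), hb.2,
          (mem_omegaCenterOf.mp hb.1.1).2.2⟩)).resolve_left hb1
      refine not_ctr_of_conj hTp h₁.1 S hCz hb.1.1
        (Subgroup.mem_iInf.mp (Subgroup.mem_iInf.mp hb.1.2 K₁) h₁) (m := 1) ?_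
      rw [hbz]; group
    have hzJ : z ∈ ZJ T := P.omegaCenter_S_le le_rfl hz
    have hazB : a * z ∈ B := by
      refine Subgroup.mem_inf.mpr
        ⟨mul_mem ha hzJ, Subgroup.mem_iInf.mpr fun X => Subgroup.mem_iInf.mpr fun hX => ?_⟩
      exact (P.mul_mem_ctr hX.1 ha hzJ (hno X hX) fun h =>
        not_ctr_of_conj hTp hX.1 S hCz h.1 h.2 (m := 1) (by group)).2
    rw [hBbot, Subgroup.mem_bot] at hazB
    exact haz ((eq_inv_of_mul_eq_one_left hazB).trans (CompGen.elem_inv (omegaCenterOf_elem _) hzJ))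
  -- `V₀` meets its conjugates outside `L` trivially
  have hTI : ∀ x ∈ V₀, ∀ y : G, y * x * y⁻¹ ∈ V₀ → x ≠ 1 → y ∈ L := by
    intro x hx y hy hx1
    obtain ⟨c₀, hc₀, ha⟩ := hconjZ x hx
    obtain ⟨c, hc, hb⟩ := hconjZ _ hy
    set a := c₀⁻¹ * x * c₀ with ha'
    set b := c⁻¹ * (y * x * y⁻¹) * c with hb'
    set m := c⁻¹ * y * c₀ with hm
    have hmab : m * a * m⁻¹ = b := by rw [hm, ha', hb']; group
    suffices hmL : m ∈ L by
      have h := mul_mem (mul_mem hc hmL) (inv_mem hc₀)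
      rwa [show c * m * c₀⁻¹ = y by rw [hm]; group] at h
    have ha1 : a ≠ 1 := fun h => hx1 (by
      rw [show x = c₀ * a * c₀⁻¹ by rw [ha']; group, h]; group)
    have hb1 : b ≠ 1 := fun h => ha1 (by
      rw [show a = m⁻¹ * b * m by rw [← hmab]; group, h]; group)
    rcases (hctl a ha).resolve_left ha1 with haz | ⟨X, hX, haX⟩ <;>
      rcases (hctl b hb).resolve_left hb1 with hbz | ⟨Y, hY, hbY⟩
    · rw [haz, hbz] at hmab
      exact hNSL (hCz (Subgroup.mem_centralizer_singleton_iff.mpr (mul_inv_eq_iff_eq_mul.mp hmab)))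
    · exact (not_ctr_of_conj hTp hY.1 S hCz hbY.1 hbY.2 (m := m⁻¹) (by rw [← hmab, haz]; group)).elim
    · exact (not_ctr_of_conj hTp hX.1 S hCz haX.1 haX.2 (m := m) (hmab.trans hbz)).elim
    · exact P.mem_of_conj hX hY haX ha1 hbY hmab
  -- `V₀` is not inside `T'`
  have hnot : ¬ V₀ ≤ T' := by
    intro hle
    obtain ⟨w₁, hw₁, hwK₁, hw₁1, -, -, huw⟩ := P.split h₁.1
    have hw₁T' : w₁ ∈ T' := hle (hWV₀ K₁ h₁ hwK₁)
    obtain ⟨k, hk⟩ := exists_compElt h₁.1
    have hfix : ∀ A, MaxE T' A → ∀ a ∈ A, a * w₁ = w₁ * a := by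
      intro A hA a ha
      have hcW : ∀ a ∈ A, (wOf K₁).map (MulAut.conj a).toMonoidHom ≤ V₀ := fun a ha => by
        rw [map_wOf]
        exact hWV₀ _ (P.conj_outComp h₁ (P.T_le_L (hT'S (hA.1 ha))) (P.T_le_M (hT'S (hA.1 ha))))
      have hAn : A ≤ Subgroup.normalizer (wOf K₁ : Set G) := by
        refine le_normalizer_of_conjugates hA h₁.1.2.2.2.2.1 (wOf_elementary h₁.1)
          (fun a ha => (hcW a ha).trans hle)
          (fun a ha w hw w' hw' => hab _ (hcW a ha ⟨w, hw, rfl⟩) _ (hWV₀ K₁ h₁ hw'))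
          hk.mem_normalizer_wOf (fun w hw h => hk.fpf h₁.1 hw h) ?_
        intro a ha hna w hw
        have hKa := P.conj_outComp h₁ (P.T_le_L (hT'S (hA.1 ha))) (P.T_le_M (hT'S (hA.1 ha)))
        have hne' : K₁ ≠ K₁.map (MulAut.conj a).toMonoidHom := fun h =>
          hna (normalizer_le_normalizer_wOf K₁ (Subgroup.mem_normalizer_iff_map_conj_eq.mpr h.symm))
        have hmem : a * w * a⁻¹ ∈ wOf (K₁.map (MulAut.conj a).toMonoidHom) := by
          rw [← map_wOf]; exact ⟨w, hw, rfl⟩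
        rw [← Subgroup.mem_centralizer_iff.mp (P.comp_cent hKa h₁ hne' hk.mem) _ hmem, mul_inv_cancel_right]
      exact mul_inv_eq_iff_eq_mul.mp ((huw _ (conj_mem (hTZ (hT'S (hA.1 ha))) hw₁)
        (conj_mem (hAn ha) hwK₁)).resolve_left fun h => hw₁1 (conj_eq_one_iff.mp h))
    have hJc : thompsonSubgroupOf 2 T' ≤ Subgroup.centralizer ({w₁} : Set G) :=
      J_le_iff.mpr fun A hA a ha => Subgroup.mem_centralizer_singleton_iff.mpr (hfix A hA a ha)
    have hw₁2 : w₁ ^ 2 = 1 := (mem_omegaCenterOf.mp hw₁).2.2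
    have hw₁J : w₁ ∈ ZJ T' := by
      refine mem_omegaCenterOf.mpr ⟨?_, Subgroup.mem_centralizer_iff.mpr fun j hj =>
        Subgroup.mem_centralizer_singleton_iff.mp (hJc hj), hw₁2⟩
      obtain ⟨A, hA⟩ := exists_maxE T'
      exact maxE_le_J hA (CfsgLib.LocalP.mem_of_centralizes hA hw₁T' hw₁2 (hfix A hA))
    have hin : w₁ ∈ ctr T K₂ := P.mem_ctr_of_ne h₁ h₂ (Ne.symm h12) hw₁ hwK₁
    rcases (hzout w₁ hw₁J).resolve_left hw₁1 with h | h
    · exact not_ctr_of_conj hTp h₂.1 S hCz hin.1 hin.2 (m := 1) (by rw [h]; group)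
    · exact h (P.cent_le h₂ hin hw₁1)
  -- set-up inside `L'`
  have hzJ' : z ∈ ZJ T' := P'.omegaCenter_S_le hT'S hz
  obtain ⟨w, hw, hwK, hw1, -, hwall, -⟩ := P'.split hK'.1
  have hzw : w * z ∈ ctr T' K' := (hwall z hzJ').resolve_left fun h =>
    not_ctr_of_conj P'.Tp hK'.1 S hCz h.1 h.2 (m := 1) (by group)
  have helJ' := CfsgLib.LocalP.isElementaryAbelian_iff.mp (omegaCenterOf_elem (thompsonSubgroupOf 2 T'))
  set h := w * z with hh
  have hzhw : z = w * h := by rw [hh, ← mul_assoc, ← sq, helJ'.2 w hw, one_mul]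
  obtain ⟨k, hk⟩ := exists_compElt hK'.1
  obtain ⟨hWall, hkk, huw, hu1⟩ := wOf_four hK'.1 hk hwK hw1
  set u := k * w * k⁻¹ with hu
  set W' := wOf K'
  have hWel := CfsgLib.LocalP.isElementaryAbelian_iff.mp (wOf_elementary hK'.1)
  have huW : u ∈ W' := conj_mem hk.mem_normalizer_wOf hwK
  have hWT' : W' ≤ T' := (wOf_le_pCoreOf hK'.1).trans (P'.pCoreOf_comp_le hK')
  have hJ'T' : thompsonSubgroupOf 2 T' ≤ T' := CfsgLib.LocalP.thompsonSubgroupOf_le T'
  have hhT' : h ∈ T' := hJ'T' (omegaCenterOf_le _ hzw.1)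
  set N := Subgroup.normalizer (W' : Set G) ⊓ Subgroup.centralizer ({h} : Set G) with hN
  have hKN : K' ≤ N := le_inf (Subgroup.le_normalizer.trans (normalizer_le_normalizer_wOf K'))
    (le_centralizer_singleton hzw.2)
  have hJN : thompsonSubgroupOf 2 T' ≤ N :=
    le_inf ((J_le_normalizer_component hK'.1).trans (normalizer_le_normalizer_wOf K'))
      (J_le_centralizer_singleton hzw.1)
  have hNL' : N ≤ L' := by
    rcases eq_or_ne h 1 with h1 | h1
    · exact inf_le_left.trans (P'.twoLocal_le hK' (isTwoLocal_normalizer_wOf hK'.1)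
        (hKN.trans inf_le_left) (hJN.trans inf_le_left))
    · exact inf_le_right.trans (P'.cent_le hK' hzw h1)
  have hSL' : ∀ x ∈ T, x ∈ L' → x ∈ T' := fun x hx hxL => by
    rw [← sylowIn_maximal P'.hLj.1 (hTp.to_le (inf_le_left : T ⊓ L' ≤ T)) inf_le_right (le_inf hT'S P'.T_le_L)]
    exact ⟨hx, hxL⟩
  have hzV : z ∈ V₀ := by
    have hne0 : V₀ ≠ ⊥ := ne_bot_of_le_ne_bot (wOf_ne_bot h₁.1) (hWV₀ K₁ h₁)
    obtain ⟨x, hx, hx1⟩ := (Subgroup.bot_or_exists_ne_one _).resolve_left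
      (CfsgLib.LocalCharP.inf_centralizer_ne_bot (hTp.to_le hV₀S) hne0 hTp (hTN.trans hNV))
    have hxz := (hzall x (mem_omegaCenterOf.mpr ⟨hV₀S hx.1, hx.2, by rw [sq]; exact hinv x hx.1⟩)).resolve_left hx1
    exact hxz ▸ hx.1
  set C₀ := Subgroup.centralizer (W' : Set G) ⊓ Subgroup.centralizer ({h} : Set G) with hC₀
  have hC₀z : C₀ ≤ Subgroup.centralizer ({z} : Set G) := fun c hc => by
    have h1 := Subgroup.mem_centralizer_iff.mp hc.1 w hwK
    have h2 := Subgroup.mem_centralizer_singleton_iff.mp hc.2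
    refine Subgroup.mem_centralizer_singleton_iff.mpr ?_
    calc c * z = (c * w) * h := by rw [hzhw, mul_assoc]
      _ = (w * c) * h := by rw [h1]
      _ = w * (h * c) := by rw [mul_assoc, h2]
      _ = z * c := by rw [← mul_assoc, ← hzhw]
  have hC₀N : C₀ ≤ N := inf_le_inf_right _ (Subgroup.centralizer_le_normalizer _)
  have hNC₀ : N ≤ Subgroup.normalizer (C₀ : Set G) := fun n hn =>
    Subgroup.inf_normalizer_le_normalizer_inf
      ⟨CfsgLib.Coprime.le_normalizer_centralizer le_rfl hn.1, Subgroup.le_normalizer hn.2⟩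
  set R₁ := T ⊓ C₀ with hR₁
  have hR₁n : N ≤ Subgroup.normalizer (R₁ : Set G) := by
    refine CfsgLib.LocalCharP.le_normalizer_of_conj_mem fun n hn x hx => ?_
    have hc := conj_mem (hNC₀ hn) hx.2
    exact ⟨mem_sylow_of_mem_normalizer S (hTp.map (MulAut.conj n).toMonoidHom) ⟨x, hx.1, rfl⟩
      (hCz (hC₀z hc)), hc⟩
  set X := V₀ ⊓ C₀ with hXdef
  have hXR : X ≤ R₁ := inf_le_inf_right _ hV₀S
  have hzX : z ∈ X := by
    refine ⟨hzV, Subgroup.mem_centralizer_iff.mpr fun x hx => ?_, Subgroup.mem_centralizer_singleton_iff.mpr ?_⟩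
    · exact (omegaCenterOf_comm hz (hT'S (hWT' hx))).symm
    · exact omegaCenterOf_comm hz (hT'S hhT')
  have hXn : ∀ n ∈ N, n ∈ Subgroup.normalizer (T : Set G) → n ∈ Subgroup.normalizer (X : Set G) :=
    fun n hn hnT => Subgroup.inf_normalizer_le_normalizer_inf ⟨hNV hnT, hNC₀ hn⟩
  have hR₁X : R₁ ≤ Subgroup.normalizer (X : Set G) := fun x hx => hXn x (hC₀N hx.2) (hTN hx.1)
  -- every conjugate of `X` under `N` is one of three
  have hthree : ∀ n ∈ N, ∃ m ∈ N, (m = 1 ∨ m ∉ L) ∧ ∀ x ∈ X, m⁻¹ * (n * x * n⁻¹) * m ∈ X := by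
    intro n hn
    have hkN : k ∈ N := hKN hk.mem
    have hkL : k ∉ L := fun hkL => hK'.2.2 fun x hx => by
      obtain ⟨q, hq, i, rfl⟩ := hk.rep x hx
      exact mul_mem (P.T_le_L (hT'S (P'.pCoreOf_comp_le hK' hq))) (pow_mem hkL i)
    have hkkL : k * k ∉ L := fun h2 => hkL (by
      have h3 := mul_mem (P.T_le_L (hT'S (P'.pCoreOf_comp_le hK' hk.cube))) (inv_mem h2)
      rwa [show k ^ 3 * (k * k)⁻¹ = k by group] at h3)
    obtain ⟨m, hm, hmL, hmw⟩ : ∃ m ∈ N, (m = 1 ∨ m ∉ L) ∧ m * w * m⁻¹ = n * w * n⁻¹ := by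
      rcases hWall _ (conj_mem hn.1 hwK) with e | e | e | e
      · exact absurd (conj_eq_one_iff.mp e) hw1
      · exact ⟨1, one_mem _, Or.inl rfl, by rw [e]; group⟩
      · exact ⟨k, hkN, Or.inr hkL, e.symm⟩
      · refine ⟨k * k, mul_mem hkN hkN, Or.inr hkkL, ?_⟩
        calc k * k * w * (k * k)⁻¹ = k * u * k⁻¹ := by rw [hu]; group
          _ = w * u := hkk
          _ = _ := e.symm
    refine ⟨m, hm, hmL, fun x hx => ?_⟩
    have hq : m⁻¹ * n ∈ N := mul_mem (inv_mem hm) hn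
    have hqz : m⁻¹ * n ∈ Subgroup.centralizer ({z} : Set G) := by
      refine Subgroup.mem_centralizer_singleton_iff.mpr ?_
      have h1 : m⁻¹ * n * w = w * (m⁻¹ * n) := by
        calc m⁻¹ * n * w = m⁻¹ * (n * w * n⁻¹) * n := by group
          _ = m⁻¹ * (m * w * m⁻¹) * n := by rw [hmw]
          _ = _ := by group
      calc m⁻¹ * n * z = (m⁻¹ * n * w) * h := by rw [hzhw, mul_assoc _ w h]
        _ = w * ((m⁻¹ * n) * h) := by rw [h1, mul_assoc]
        _ = w * (h * (m⁻¹ * n)) := by rw [Subgroup.mem_centralizer_singleton_iff.mp hq.2]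
        _ = z * (m⁻¹ * n) := by rw [← mul_assoc, ← hzhw]
    have h2 := conj_mem (hXn _ hq (hCz hqz)) hx
    simpa [mul_assoc] using h2
  -- the normal abelian subgroup generated by `X`
  set P₀ := ⨆ n : ↥N, X.map (MulAut.conj (n : G)).toMonoidHom with hP₀
  have hXP : X ≤ P₀ := le_trans (fun x hx => by
    exact ⟨x, hx, by simp⟩) (le_iSup (fun n : ↥N => X.map (MulAut.conj (n : G)).toMonoidHom) 1)
  have hP₀R : P₀ ≤ R₁ := iSup_le fun n => by
    rintro _ ⟨x, hx, rfl⟩
    exact conj_mem (hR₁n n.2) (hXR hx)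
  have hP₀n : N ≤ Subgroup.normalizer (P₀ : Set G) := by
    refine CfsgLib.LocalCharP.le_normalizer_of_conj_mem fun n hn p hp => ?_
    have hle : P₀ ≤ P₀.comap (MulAut.conj n).toMonoidHom := iSup_le fun j => by
      rintro _ ⟨x, hx, rfl⟩
      refine le_iSup (fun j : ↥N => X.map (MulAut.conj (j : G)).toMonoidHom) (⟨n, hn⟩ * j) ?_
      exact ⟨x, hx, by simp [mul_assoc]⟩
    exact hle hp
  have hP₀X : P₀ ≤ Subgroup.centralizer (X : Set G) := iSup_le fun n => by
    rintro _ ⟨x₀, hx₀, rfl⟩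
    obtain ⟨m, hmN, hmL, hmX⟩ := hthree n n.2
    refine Subgroup.mem_centralizer_iff.mpr fun x hx => ?_
    set p := (MulAut.conj (n : G)).toMonoidHom x₀
    set x₁ := m⁻¹ * p * m
    have hx₁ : x₁ ∈ X := hmX x₀ hx₀
    have hp : p = m * x₁ * m⁻¹ := by simp only [x₁]; group
    have hpR : p ∈ R₁ := conj_mem (hR₁n n.2) (hXR hx₀)
    rcases hmL with rfl | hmL
    · rw [hp, one_mul, inv_one, mul_one]
      exact hab x hx.1 x₁ hx₁.1
    by_contra hne
    set c := x * p * x⁻¹ * p⁻¹ with hc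
    have hcX : c ∈ X := by
      have := mul_mem hx (conj_mem (hR₁X hpR) (inv_mem hx))
      simpa [hc, mul_assoc] using this
    have hcm : m⁻¹ * c * m ∈ X := by
      have hxR : m⁻¹ * x * m ∈ R₁ := by simpa using conj_mem (hR₁n (inv_mem hmN)) (hXR hx)
      have h1 := mul_mem (conj_mem (hR₁X hxR) hx₁) (inv_mem hx₁)
      rw [hc, hp]
      simpa [mul_assoc] using h1
    have hc1 : m⁻¹ * c * m ≠ 1 := fun h1 => hne (by
      have h2 : c = 1 := by
        calc c = m * (m⁻¹ * c * m) * m⁻¹ := by group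
          _ = 1 := by rw [h1]; group
      exact mul_inv_eq_iff_eq_mul.mp (mul_inv_eq_one.mp h2))
    refine hmL (hTI _ hcm.1 m ?_ hc1)
    rw [show m * (m⁻¹ * c * m) * m⁻¹ = c by group]
    exact hcX.1
  -- `V₀` normalizes it
  obtain ⟨e, heT, he2, hecomm, hcl⟩ : ∃ e ∈ T, e * e = 1 ∧ (∀ p ∈ C₀, p * e = e * p) ∧
      ∀ v ∈ V₀, v * e = e * v → v ∈ C₀ := by
    rcases eq_or_ne h 1 with h1 | h1
    · refine ⟨u, hT'S (hWT' huW), by rw [← sq]; exact hWel.2 u huW,
        fun p hp => (Subgroup.mem_centralizer_iff.mp hp.1 u huW).symm, fun v hv hvu =>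
        ⟨Subgroup.mem_centralizer_iff.mpr fun x hx => ?_,
          Subgroup.mem_centralizer_singleton_iff.mpr (by rw [h1, mul_one, one_mul])⟩⟩
      have hvw : w * v = v * w := by
        have hw' : w = z := by rw [hzhw, h1, mul_one]
        rw [hw']; exact hab z hzV v hv
      rcases hWall x hx with rfl | rfl | rfl | rfl
      · simp
      · exact hvw
      · exact hvu.symm
      · rw [mul_assoc, ← hvu, ← mul_assoc, hvw, mul_assoc]
    · refine ⟨h, hT'S hhT', by rw [← sq]; exact helJ'.2 h hzw.1,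
        fun p hp => Subgroup.mem_centralizer_singleton_iff.mp hp.2, fun v hv hvh =>
        ⟨Subgroup.mem_centralizer_iff.mpr fun x hx => ?_, Subgroup.mem_centralizer_singleton_iff.mpr hvh⟩⟩
      have hvT' : v ∈ T' := hSL' v (hV₀S hv)
        (P'.cent_le hK' hzw h1 (Subgroup.mem_centralizer_singleton_iff.mpr hvh))
      have hwz : w = z * h := by rw [hzhw, mul_assoc, ← sq, helJ'.2 h hzw.1, mul_one]
      have hvw : w * v = v * w := by
        rw [hwz, mul_assoc, ← hvh, ← mul_assoc, hab z hzV v hv, mul_assoc]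
      have hvu : u * v = v * u := by
        refine (mul_inv_eq_iff_eq_mul.mp ?_).symm
        rcases hWall _ (conj_mem (normalizer_le_normalizer_wOf K' (hT'K' hvT')) huW) with e | e | e | e
        · exact absurd (conj_eq_one_iff.mp e) hu1
        · refine absurd (mul_left_cancel (mul_right_cancel (e.trans ?_))) huw
          rw [← hvw, mul_inv_cancel_right]
        · exact e
        · exfalso
          have hwV : w ∈ V₀ := by
            have h2 := mul_mem hv (conj_mem (hNV (hTN (hT'S (hWT' huW)))) (inv_mem hv))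
            rw [← mul_assoc, ← mul_assoc, e, mul_inv_cancel_right] at h2
            exact h2
          refine hnot fun y hy => hSL' y (hV₀S hy) (P'.cent_le hK' hzw h1
            (Subgroup.mem_centralizer_singleton_iff.mpr ?_))
          rw [hh]
          exact hab y hy _ (mul_mem hwV hzV)
      rcases hWall x hx with rfl | rfl | rfl | rfl
      · simp
      · exact hvw
      · exact hvu
      · rw [mul_assoc, hvu, ← mul_assoc, hvw, mul_assoc]
  have hV₀P : V₀ ≤ Subgroup.normalizer (P₀ : Set G) := by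
    refine CfsgLib.LocalCharP.le_normalizer_of_conj_mem fun v hv p hp => ?_
    have hp1 := hP₀R hp
    have hpe : p * e = e * p := hecomm p hp1.2
    have hpn : p ∈ Subgroup.normalizer (V₀ : Set G) := hNV (hTN hp1.1)
    have hvi : v⁻¹ = v := (eq_inv_of_mul_eq_one_left (hinv v hv)).symm
    have hei : e⁻¹ = e := (eq_inv_of_mul_eq_one_left he2).symm
    set v₁ := p * v * p⁻¹ with hv₁
    have hv₁V : v₁ ∈ V₀ := conj_mem hpn hv
    have hev : e * v * e⁻¹ ∈ V₀ := conj_mem (hNV (hTN heT)) hv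
    -- `[v, e]` is fixed by `p`
    set c := v * (e * v * e⁻¹) with hc
    have hcV : c ∈ V₀ := mul_mem hv hev
    have hce : c * e = e * c := by
      refine (mul_inv_eq_iff_eq_mul.mp ?_).symm
      calc e * c * e⁻¹ = (e * v * e⁻¹) * (e * e * v * (e * e)⁻¹) := by rw [hc]; group
        _ = c := by rw [he2, one_mul, inv_one, mul_one, hc, hab _ hev v hv]
    have hpc : p * c * p⁻¹ = c := by
      rw [← Subgroup.mem_centralizer_iff.mp (hP₀X hp) c ⟨hcV, hcl c hcV hce⟩, mul_inv_cancel_right]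
    have hd : v * v₁ * e = e * (v * v₁) := by
      refine (mul_inv_eq_iff_eq_mul.mp ?_).symm
      have e1 : e * v * e⁻¹ = v * c := by rw [hc, ← mul_assoc, hinv v hv, one_mul]
      calc e * (v * v₁) * e⁻¹ = (e * v * e⁻¹) * (e * p * v * (e * p)⁻¹) := by rw [hv₁]; group
        _ = (e * v * e⁻¹) * (p * e * v * (p * e)⁻¹) := by rw [hpe]
        _ = (e * v * e⁻¹) * (p * (e * v * e⁻¹) * p⁻¹) := by group
        _ = v * c * (v₁ * (p * c * p⁻¹)) := by rw [e1, hv₁]; group
        _ = v * c * (v₁ * c) := by rw [hpc]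
        _ = v * (c * v₁) * c := by group
        _ = v * (v₁ * c) * c := by rw [hab c hcV v₁ hv₁V]
        _ = v * v₁ * (c * c) := by group
        _ = v * v₁ := by rw [hinv c hcV, mul_one]
    have hdP : v * v₁ ∈ P₀ := hXP ⟨mul_mem hv hv₁V, hcl _ (mul_mem hv hv₁V) hd⟩
    have he' : v * p * v⁻¹ = v * v₁ * p := by
      calc v * p * v⁻¹ = v * (p * v⁻¹ * p⁻¹) * p := by group
        _ = _ := by rw [hvi, hv₁]
    rw [he']
    exact mul_mem hdP hp
  have hP₀ne : P₀ ≠ ⊥ := fun hb => hz1 (by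
    have := hXP hzX
    rwa [hb, Subgroup.mem_bot] at this)
  have hle := P'.twoLocal_le hK' ⟨P₀, hTp.to_le (hP₀R.trans inf_le_left), hP₀ne, rfl⟩
    (hKN.trans hP₀n) (hJN.trans hP₀n)
  exact hnot fun v hv => hSL' v (hV₀S hv) (hle (hV₀P hv))

end CfsgLib.JComp
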