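import Cfsg.Agent.JComp.Pair
import Cfsg.Agent.JComp.Proper

/-!
A largest straddler `T` lies in two configurations with different maximal 2-local subgroups.
-/

set_option autoImplicit false

open Cfsg
open scoped Pointwise commutatorElement

namespace CfsgLib.JComp

variable {G : Type*} [Group G] [Finite G]

local instance : Fact (Nat.Prime 2) := ⟨Nat.prime_two⟩

/-- An element of `N(T) ∩ M` outside `L` carries a configuration to a second one. -/
theorem Setup.conj_config {S : Sylow 2 G} {M T L K : Subgroup G} (P : Setup S M T L)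
    (hK : K ∈ outComps M T L) {g : G} (hgT : g ∈ Subgroup.normalizer (T : Set G)) (hgM : g ∈ M)
    (hgL : g ∉ L) :
    Setup S M T (L.map (MulAut.conj g).toMonoidHom) ∧
      K.map (MulAut.conj g).toMonoidHom ∈ outComps M T (L.map (MulAut.conj g).toMonoidHom) ∧
      L ≠ L.map (MulAut.conj g).toMonoidHom := by
  have hTg : T.map (MulAut.conj g).toMonoidHom = T := Subgroup.mem_normalizer_iff_map_conj_eq.mp hgT
  have hKM : ¬ K.map (MulAut.conj g).toMonoidHom ≤ M := fun h => hK.2.2 fun x hx => by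
    have h3 := mul_mem (mul_mem (inv_mem hgM) (h (Subgroup.mem_map_of_mem _ hx))) hgM
    simpa [mul_assoc] using h3
  have hKL : K.map (MulAut.conj g).toMonoidHom ≤ L.map (MulAut.conj g).toMonoidHom :=
    Subgroup.map_mono hK.2.1
  have hmax := isMaximalTwoLocal_map P.hLmax g
  have hj : L.map (MulAut.conj g).toMonoidHom ∈ jOvergroups T :=
    mem_jOvergroups_of_le S P.hMJ P.hG P.hT hmax.1 (fun h => hKM (hKL.trans h))
      (hTg.ge.trans (Subgroup.map_mono P.T_le_L))
  have hc := isJComponent_map g hK.1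
  rw [hTg] at hc
  exact ⟨⟨P.hG, P.hMJ, P.hT, hmax, hj⟩, ⟨hc, hKL, hKM⟩,
    fun h => hgL (P.normalizer_L_le (Subgroup.mem_normalizer_iff_map_conj_eq.mpr h.symm))⟩

/-- If `N(J(S)) ≤ L` and `S` does not straddle `L`, no configuration relative to `L` exists. -/
theorem no_proper_straddler (S : Sylow 2 G) {M L K T' L' K' : Subgroup G}
    (P : Setup S M (S : Subgroup G) L) (hO : pCore 2 G = ⊥) (hK : K ∈ outComps M (S : Subgroup G) L)
    (P' : Setup S L T' L') (hT'S : T' ≤ (S : Subgroup G)) (hne : T' ≠ (S : Subgroup G))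
    (hK' : K' ∈ outComps L T' L') : False := by
  obtain ⟨-, -, -, -, z, hz, hz1, hzall, -, hdesc⟩ := P'.lt_facts hT'S hne hK'
  have hCz := centralizer_le_of_unique P.hG hzall
  obtain ⟨hgood, hZS⟩ := P.goodComp hO le_rfl hK
  -- the four-group of `K`
  obtain ⟨w, hwZ, hwW, hw1, -, -, -⟩ := P.split hK.1
  obtain rfl : w = z := (hzall w (hZS ▸ hwZ)).resolve_left hw1
  obtain ⟨k, hk⟩ := exists_compElt hK.1
  obtain ⟨hall, -, hu_ne, hu1⟩ := wOf_four hK.1 hk hwW hz1
  set W := wOf K with hW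
  set u := k * w * k⁻¹ with hu
  have huW : u ∈ W := conj_mem hk.mem_normalizer_wOf hwW
  have hel := CfsgLib.LocalP.isElementaryAbelian_iff.mp (wOf_elementary hK.1)
  have hWS : W ≤ (S : Subgroup G) := (wOf_le_pCoreOf hK.1).trans (P.pCoreOf_comp_le hK)
  have hSW : (S : Subgroup G) ≤ Subgroup.normalizer (W : Set G) :=
    hgood.normT.trans (normalizer_le_normalizer_wOf K)
  have hzS : w ∈ (S : Subgroup G) := omegaCenterOf_le _ hz
  have hzc : ∀ t ∈ (S : Subgroup G), t * w * t⁻¹ = w := fun t ht => by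
    rw [← omegaCenterOf_comm hz ht, mul_inv_cancel_right]
  have hmoves : ∀ t ∈ (S : Subgroup G), ∀ x ∈ W, t * x * t⁻¹ = x ∨ t * x * t⁻¹ = w * x := by
    intro t ht x hx
    have himg : t * u * t⁻¹ = u ∨ t * u * t⁻¹ = w * u := by
      rcases hall _ (conj_mem (hSW ht) huW) with h | h | h | h
      · exact absurd (conj_eq_one_iff.mp h) hu1
      · exact absurd (mul_left_cancel (mul_right_cancel (h.trans (hzc t ht).symm))) hu_ne
      · exact Or.inl h
      · exact Or.inr h
    rcases hall x hx with rfl | rfl | rfl | rfl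
    · left; group
    · exact Or.inl (hzc t ht)
    · exact himg
    · have e : t * (w * u) * t⁻¹ = (t * w * t⁻¹) * (t * u * t⁻¹) := by group
      rw [e, hzc t ht]
      rcases himg with h | h <;> rw [h]
      · exact Or.inl rfl
      · exact Or.inr rfl
  -- `W` lies in `T'`
  set Q' := pCoreOf 2 L' with hQ'
  have hQ'S : Q' ≤ (S : Subgroup G) := (pCoreOf_le_T P'.hLj).trans hT'S
  have hzQ' : w ∈ Q' := P'.hLj.2.2 (Subgroup.mem_centralizer_iff.mpr fun q hq =>
    (omegaCenterOf_comm hz (hQ'S hq)).symm)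
  have hw2 : w * w = 1 := by rw [← sq]; exact hel.2 w hwW
  have hnQ : ∀ x ∈ W, ∀ q ∈ Q', x * q * x⁻¹ ∈ Q' := by
    intro x hx q hq
    rcases hmoves q (hQ'S hq) x hx with h | h
    · have e : x * q * x⁻¹ = x * (q * x⁻¹ * q⁻¹) * q := by group
      rw [e, show q * x⁻¹ * q⁻¹ = (q * x * q⁻¹)⁻¹ by group, h, mul_inv_cancel, one_mul]
      exact hq
    · have e : x * q * x⁻¹ = x * (q * x⁻¹ * q⁻¹) * q := by group
      rw [e, show q * x⁻¹ * q⁻¹ = (q * x * q⁻¹)⁻¹ by group, h, mul_inv_rev, ← mul_assoc, mul_inv_cancel,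
        one_mul, inv_eq_of_mul_eq_one_right hw2]
      exact mul_mem hzQ' hq
  have hWT' : W ≤ T' := by
    intro x hx
    have hxn : x ∈ Subgroup.normalizer (Q' : Set G) := by
      refine Subgroup.mem_normalizer_iff_map_conj_eq.mpr (Subgroup.eq_of_le_of_card_ge ?_
        (le_of_eq (Subgroup.card_map_of_injective (MulAut.conj x).injective).symm))
      rintro _ ⟨q, hq, rfl⟩
      exact hnQ x hx q hq
    have hN : Subgroup.normalizer (Q' : Set G) ≤ L' :=
      (P'.hLmax.2 _ ⟨_, CfsgLib.LocalCharP.isPGroup_pCoreOf L', pCore_ne_bot_of_mem P'.hLj, rfl⟩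
        (CfsgLib.LocalCharP.le_normalizer_pCoreOf L')).le
    have h := sylowIn_maximal P'.hLj.1
      (S.isPGroup'.to_le (sup_le hT'S (Subgroup.zpowers_le.mpr (hWS hx))))
      (sup_le P'.T_le_L (Subgroup.zpowers_le.mpr (hN hxn))) (le_sup_left : T' ≤ T' ⊔ Subgroup.zpowers x)
    exact h.le (Subgroup.mem_sup_right (Subgroup.mem_zpowers x))
  -- `u` is not central in `T'`
  have huc : u ∉ Subgroup.centralizer (T' : Set G) := by
    intro hc
    have huJ := (P'.mem_T_of_centralizes hc (hel.2 u huW)).2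
    have hzJ := P'.omegaCenter_S_le hT'S hz
    rcases hdesc with hbot | ⟨h, g, hh, hh1, -, -, -, -, -, -, hallJ⟩
    · obtain ⟨v, hv, -, -, -, hsplit, -⟩ := P'.split hK'.1
      have helJ := CfsgLib.LocalP.isElementaryAbelian_iff.mp (omegaCenterOf_elem (thompsonSubgroupOf 2 T'))
      have h2 : ∀ x ∈ ZJ T', x = 1 ∨ x = v := fun x hx => by
        rcases hsplit x hx with h | h
        · exact Or.inl (hbot x h)
        · exact Or.inr (mul_left_cancel ((hbot _ h).trans (by rw [← sq, helJ.2 v hv])))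
      exact hu_ne (((h2 u huJ).resolve_left hu1).trans ((h2 w hzJ).resolve_left hz1).symm)
    · rcases hallJ u huJ with e | e | e | e
      · exact hu1 e
      · exact not_ctr_of_conj P'.Tp hK'.1 S hCz hh.1 hh.2 (m := k⁻¹) (by rw [← e, hu]; group)
      · exact not_ctr_of_conj P'.Tp hK'.1 S hCz hh.1 hh.2 (m := k⁻¹ * g) (by
          calc k⁻¹ * g * h * (k⁻¹ * g)⁻¹ = k⁻¹ * (g * h * g⁻¹) * k := by group
            _ = w := by rw [← e, hu]; group)
      · exact hu_ne e
  -- the two configurations inside `T'`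
  obtain ⟨g, hgS, hgT, hgL'⟩ := P'.exists_moved_of_lt hT'S hne
  obtain ⟨P'', hK'', hL''⟩ := P'.conj_config hK' hgT (P.T_le_L hgS) hgL'
  obtain ⟨hg', -⟩ := P'.goodComp hO hT'S hK'
  obtain ⟨hg'', -⟩ := P''.goodComp hO hT'S hK''
  have hbot := pCoreOf_pair_eq_bot P' P'' hK' hK'' hL''
  have hTg : T'.map (MulAut.conj g).toMonoidHom = T' := Subgroup.mem_normalizer_iff_map_conj_eq.mp hgT
  have hX : K'.map (MulAut.conj g).toMonoidHom ⊔ T' = (K' ⊔ T').map (MulAut.conj g).toMonoidHom := by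
    rw [Subgroup.map_sup, hTg]
  set V := pCoreOf 2 (K' ⊔ T') with hV
  set V' := pCoreOf 2 (K'.map (MulAut.conj g).toMonoidHom ⊔ T') with hV'
  have hVV' : V' = V.map (MulAut.conj g).toMonoidHom := by rw [hV', hX, hV, map_pCoreOf]
  have hVab := (CfsgLib.LocalP.isElementaryAbelian_iff.mp (hg'.amalgam hg'' hbot).1).1
  have hV'ab : ∀ a ∈ V', ∀ b ∈ V', a * b = b * a := by
    rw [hVV']
    rintro _ ⟨a, ha, rfl⟩ _ ⟨b, hb, rfl⟩
    rw [← map_mul, hVab a ha b hb, map_mul]
  have hVne : V ≠ V' := by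
    intro h
    refine hg'.pCoreOf_ne_bot (le_bot_iff.mp ?_)
    refine le_trans ?_ hbot.le
    exact CfsgLib.LocalCharP.le_pCoreOf ((CfsgLib.LocalCharP.pCoreOf_le _).trans le_sup_left)
      (CfsgLib.LocalCharP.isPGroup_pCoreOf _)
      (sup_le (CfsgLib.LocalCharP.le_normalizer_pCoreOf _)
        ((CfsgLib.LocalCharP.le_normalizer_pCoreOf _).trans (by rw [← hV', ← h])))
  obtain ⟨b, hb, hbV⟩ := Set.not_subset.mp fun h : (V' : Set G) ⊆ V =>
    hVne (Subgroup.eq_of_le_of_card_ge h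
      (by rw [hVV', Subgroup.card_map_of_injective (MulAut.conj g).injective])).symm
  have hidx : (V.subgroupOf T').index = 2 := by
    have h1 := Subgroup.relIndex_mul_relIndex V T' (K' ⊔ T') hg'.pCoreOf_le_T le_sup_right
    rw [hg'.index_six] at h1
    have h3 : T'.relIndex (K' ⊔ T') = 3 := by
      have hc := card_mul_rel (le_sup_right : T' ≤ K' ⊔ T')
      rw [hg'.card_eq] at hc
      exact Nat.eq_of_mul_eq_mul_left (Nat.card_pos : 0 < Nat.card T') (hc.trans (mul_comm _ _))
    rw [h3] at h1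
    show V.relIndex T' = 2
    omega
  have hbT : b ∈ T' := hg''.pCoreOf_le_T hb
  have hdec : ∀ t ∈ T', t ∉ V → t * b ∈ V := fun t ht htV =>
    (Subgroup.mul_mem_iff_of_index_two hidx (a := ⟨t, ht⟩) (b := ⟨b, hbT⟩)).mpr
      (iff_of_false htV hbV)
  have hzV : w ∈ V := hg'.charTwo (Subgroup.mem_centralizer_iff.mpr fun q hq =>
    (omegaCenterOf_comm hz (hT'S (hg'.pCoreOf_le_T hq))).symm)
  have hzV' : w ∈ V' := hg''.charTwo (Subgroup.mem_centralizer_iff.mpr fun q hq =>
    (omegaCenterOf_comm hz (hT'S (hg''.pCoreOf_le_T hq))).symm)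
  -- `u` lies in `V` or `V'`
  have huT : u ∈ T' := hWT' huW
  have hu2 : u * u = 1 := by rw [← sq]; exact hel.2 u huW
  have huVV : u ∈ V ∨ u ∈ V' := by
    by_contra hcon
    push Not at hcon
    have ha := hdec u huT hcon.1
    set a := u * b with hadef
    have hb2 : b * b = 1 := by
      rw [hVV'] at hb
      obtain ⟨b₀, hb₀, rfl⟩ := hb
      rw [← map_mul, ← sq, (CfsgLib.LocalP.isElementaryAbelian_iff.mp (hg'.amalgam hg'' hbot).1).2 b₀ hb₀,
        map_one]
    have ha2 : a * a = 1 := by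
      rw [← sq]; exact (CfsgLib.LocalP.isElementaryAbelian_iff.mp (hg'.amalgam hg'' hbot).1).2 a ha
    have hab : a * b = b * a := by
      have e : a * b = u := by rw [hadef, mul_assoc, hb2, mul_one]
      have e' : b * a = u := by
        calc b * a = (a * b⁻¹)⁻¹ := by rw [mul_inv_rev, inv_inv, inv_eq_of_mul_eq_one_right ha2]
          _ = (a * b)⁻¹ := by rw [inv_eq_of_mul_eq_one_right hb2]
          _ = u := by rw [e, inv_eq_of_mul_eq_one_right hu2]
      rw [e, e']
    have haT : ∀ t ∈ T', t * a = a * t := fun t ht => by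
      by_cases htV : t ∈ V
      · exact hVab t htV a ha
      · have h1 := hVab _ (hdec t ht htV) a ha
        have e : t = t * b * b := by rw [mul_assoc, hb2, mul_one]
        rw [e, mul_assoc, ← hab, ← mul_assoc, h1, mul_assoc]
    have haV' : a ∈ V' := hg''.charTwo (Subgroup.mem_centralizer_iff.mpr fun q hq =>
      haT q (hg''.pCoreOf_le_T hq))
    exact hcon.2 (by simpa [hadef, mul_assoc, hb2] using mul_mem haV' hb)
  have hgW : W.map (MulAut.conj g).toMonoidHom = W := Subgroup.mem_normalizer_iff_map_conj_eq.mp (hSW hgS)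
  have hWV : W ≤ V ∧ W ≤ V' := by
    rcases huVV with h | h
    · have hle : W ≤ V := fun x hx => by
        rcases hall x hx with rfl | rfl | rfl | rfl
        exacts [one_mem _, hzV, h, mul_mem hzV h]
      exact ⟨hle, by rw [← hgW, hVV']; exact Subgroup.map_mono hle⟩
    · have hle : W ≤ V' := fun x hx => by
        rcases hall x hx with rfl | rfl | rfl | rfl
        exacts [one_mem _, hzV', h, mul_mem hzV' h]
      refine ⟨(Subgroup.map_le_map_iff_of_injective (f := (MulAut.conj g).toMonoidHom)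
        (MulAut.conj g).injective).mp ?_, hle⟩
      rw [hgW, ← hVV']
      exact hle
  refine huc (Subgroup.mem_centralizer_iff.mpr fun t ht => ?_)
  by_cases htV : t ∈ V
  · exact hVab t htV u (hWV.1 huW)
  · have h1 := hVab _ (hdec t ht htV) u (hWV.1 huW)
    have h2 := hV'ab _ (inv_mem hb) u (hWV.2 huW)
    calc t * u = t * b * (b⁻¹ * u) := by group
      _ = t * b * u * b⁻¹ := by rw [h2]; group
      _ = u * t := by rw [h1]; group

/-- Two configurations on `T` with distinct maximal 2-local subgroups. -/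
theorem exists_two_configs (S : Sylow 2 G) {M T : Subgroup G} (hG : ZN G) (hO : pCore 2 G = ⊥)
    (hMJ : Subgroup.normalizer (thompsonSubgroupOf 2 (S : Subgroup G) : Set G) ≤ M)
    (hT : T ∈ maxStraddlingTwoSubgroups M) (hTS : T ≤ (S : Subgroup G)) :
    ∃ M' K K' L L', Setup S M T L ∧ Setup S M' T L' ∧ K ∈ outComps M T L ∧ K' ∈ outComps M' T L' ∧
      L ≠ L' := by
  obtain ⟨K, hK₀⟩ := exists_component_outside S hMJ hG hT
  obtain ⟨L, P, hK, -⟩ := exists_setup S hG hMJ hT hK₀
  by_cases hne : T = (S : Subgroup G)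
  swap
  · obtain ⟨g, hgS, hgT, hgL⟩ := P.exists_moved_of_lt hTS hne
    obtain ⟨P', hK', hne'⟩ := P.conj_config hK hgT (sylow_le_of_normalizer_J_le S hMJ hgS) hgL
    exact ⟨M, K, _, L, _, P, P', hK, hK', hne'⟩
  subst hne
  by_cases hNJ : Subgroup.normalizer (thompsonSubgroupOf 2 (S : Subgroup G) : Set G) ≤ L
  swap
  · obtain ⟨g, hgJ, hgL⟩ := Set.not_subset.mp hNJ
    obtain ⟨-, hZS⟩ := P.goodComp hO le_rfl hK
    set Z := omegaCenterOf (S : Subgroup G) with hZdef
    have hgZ : g ∈ Subgroup.normalizer (Z : Set G) := by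
      rw [hZS]; exact normalizer_le_normalizer_omegaCenterOf _ hgJ
    have hgS : g ∈ Subgroup.normalizer ((S : Subgroup G) : Set G) := by
      refine Subgroup.mem_normalizer_iff_map_conj_eq.mpr (Subgroup.eq_of_le_of_card_ge ?_
        (le_of_eq (Subgroup.card_map_of_injective (MulAut.conj g).injective).symm))
      refine le_sylow_of_le_normalizer S (S.isPGroup'.map _) (le_trans ?_ (hG.cent S))
      rintro _ ⟨s, hs, rfl⟩
      refine conj_mem (CfsgLib.Coprime.le_normalizer_centralizer le_rfl hgZ) ?_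
      exact Subgroup.mem_centralizer_iff.mpr fun x hx => omegaCenterOf_comm hx hs
    obtain ⟨P', hK', hne'⟩ := P.conj_config hK hgS (hMJ hgJ) hgL
    exact ⟨M, K, _, L, _, P, P', hK, hK', hne'⟩
  by_cases hS : (S : Subgroup G) ∈ straddlingTwoSubgroups L
  · have hSmax := sylow_maxStraddling S hS
    obtain ⟨K', hK'₀⟩ := exists_component_outside S hNJ hG hSmax
    obtain ⟨L', P', hK', -⟩ := exists_setup S hG hNJ hSmax hK'₀
    exact ⟨L, K, K', L, L', P, P', hK, hK', fun h => hK'.2.2 (h ▸ hK'.2.1)⟩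
  exfalso
  obtain ⟨T₁, hT₁⟩ := exists_maxStraddling (straddling_nonempty S P hO hNJ)
  obtain ⟨l, hl, hle⟩ := exists_sylowIn_ge_conj (sylowIn_of_sylow_le S P.T_le_L) hT₁.1.1 hT₁.1.2.2.1
  set T' := T₁.map (MulAut.conj l⁻¹).toMonoidHom
  have hT' : T' ∈ maxStraddlingTwoSubgroups L := maxStraddling_conj hT₁ (inv_mem hl)
  have hT'S : T' ≤ (S : Subgroup G) := by
    rintro _ ⟨x, hx, rfl⟩
    simpa [mul_assoc] using mem_map_conj.mp (hle hx)
  obtain ⟨K', hK'₀⟩ := exists_component_outside S hNJ hG hT'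
  obtain ⟨L', P', hK', -⟩ := exists_setup S hG hNJ hT' hK'₀
  exact no_proper_straddler S P hO hK P' hT'S (fun h => hS (h ▸ hT'.1)) hK'

/-- A largest straddler lies in a Sylow 2-subgroup inside `M` with the same normalizer property. -/
theorem exists_sylow_ge (S : Sylow 2 G) {M T : Subgroup G}
    (hMJ : Subgroup.normalizer (thompsonSubgroupOf 2 (S : Subgroup G) : Set G) ≤ M)
    (hT : T ∈ maxStraddlingTwoSubgroups M) :
    ∃ S₁ : Sylow 2 G, T ≤ (S₁ : Subgroup G) ∧
      Subgroup.normalizer (thompsonSubgroupOf 2 (S₁ : Subgroup G) : Set G) ≤ M := by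
  obtain ⟨m, hm, hle⟩ := exists_sylowIn_ge_conj (sylowIn_of_sylow_le S (sylow_le_of_normalizer_J_le S hMJ))
    hT.1.1 hT.1.2.2.1
  let S₁ : Sylow 2 G := m • S
  have hS₁ : (S₁ : Subgroup G) = (S : Subgroup G).map (MulAut.conj m).toMonoidHom := rfl
  refine ⟨S₁, hS₁ ▸ hle, fun x hx => ?_⟩
  rw [hS₁, J_map] at hx
  have h1 : m⁻¹ * x * m ∈ Subgroup.normalizer (thompsonSubgroupOf 2 (S : Subgroup G) : Set G) := by
    rw [Subgroup.mem_normalizer_iff] at hx ⊢
    intro y
    have h := hx (m * y * m⁻¹)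
    rw [mem_map_conj, mem_map_conj] at h
    simpa [mul_assoc] using h
  simpa [mul_assoc] using mul_mem (mul_mem hm (hMJ h1)) (inv_mem hm)

end CfsgLib.JComp
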