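import Cfsg.Agent.JComp.TwoPair
import Cfsg.Agent.JComp.OddTransfer

/-!
The `C₂ × S₄` case: the central involutions lie outside the subgroup generated by the elements of
odd order.
-/

set_option autoImplicit false

open Cfsg
open scoped Pointwise commutatorElement

namespace CfsgLib.JComp

variable {G : Type*} [Group G] [Finite G]

local instance : Fact (Nat.Prime 2) := ⟨Nat.prime_two⟩

/-- A pair with cores of order 8 and central involutions `c`, `c'`. -/
structure RichPair (T K K' : Subgroup G) (c c' : G) : Prop where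
  pair : TwoPair T K K'
  card8 : Nat.card ↥(coreP T K) = 8
  cent : c ∈ Subgroup.centralizer ((K ⊔ T : Subgroup G) : Set G)
  ne_one : c ≠ 1
  cent' : c' ∈ Subgroup.centralizer ((K' ⊔ T : Subgroup G) : Set G)
  ne_one' : c' ≠ 1

namespace RichPair

variable {T K K' : Subgroup G} {c c' : G} (h : RichPair T K K' c c')

include h

theorem symm : RichPair T K' K c' c :=
  ⟨h.pair.symm, h.pair.card_V_eq.trans h.card8, h.cent', h.ne_one', h.cent, h.ne_one⟩

theorem c_commutes {x : G} (hx : x ∈ K ⊔ T) : x * c = c * x :=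
  Subgroup.mem_centralizer_iff.mp h.cent x hx

theorem c_central : c ∈ Subgroup.centralizer (T : Set G) :=
  Subgroup.centralizer_le (SetLike.coe_subset_coe.mpr (le_sup_right : T ≤ K ⊔ T)) h.cent

theorem c_mem : c ∈ coreP T K ∧ c ∈ coreP T K' := h.pair.mem_inter_of_central h.c_central

theorem c_sq : c * c = 1 := h.pair.sq_one h.c_mem.1

theorem c_notW : c ∉ wOf K := fun hc => by
  obtain ⟨k, hk⟩ := exists_compElt h.pair.g.comp
  refine h.ne_one (hk.fpf h.pair.g.comp hc ?_)
  rw [h.c_commutes (Subgroup.mem_sup_left hk.mem), mul_inv_cancel_right]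

theorem mem_W_or {v : G} (hv : v ∈ coreP T K) : v ∈ wOf K ∨ v * c ∈ wOf K := by
  have hidx : ((wOf K).subgroupOf (coreP T K)).index = 2 := by
    have hc := card_mul_rel h.pair.W_le_V
    have h4 : Nat.card ↥(wOf K) = 4 := h.pair.g.comp.2.2.2.2.1
    rw [h4, h.card8, Subgroup.relIndex] at hc
    omega
  by_cases hvW : v ∈ wOf K
  · exact Or.inl hvW
  · exact Or.inr ((Subgroup.mul_mem_iff_of_index_two hidx (a := ⟨v, hv⟩) (b := ⟨c, h.c_mem.1⟩)).mpr
      (iff_of_false hvW h.c_notW))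

theorem commutator_mem_W {t v : G} (ht : t ∈ T) (hv : v ∈ coreP T K) : t * v * t⁻¹ * v⁻¹ ∈ wOf K := by
  have hW := h.pair.P_le_normalizer_W (Subgroup.mem_sup_right ht)
  rcases h.mem_W_or hv with hvW | hvW
  · exact mul_mem (conj_mem hW hvW) (inv_mem hvW)
  · have e : t * v * t⁻¹ * v⁻¹ = t * (v * c) * t⁻¹ * (v * c)⁻¹ := by
      have hc' := h.c_commutes (Subgroup.mem_sup_right (inv_mem ht))
      symm
      calc t * (v * c) * t⁻¹ * (v * c)⁻¹ = t * v * (c * t⁻¹) * (c⁻¹ * v⁻¹) := by group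
        _ = t * v * (t⁻¹ * c) * (c⁻¹ * v⁻¹) := by rw [hc']
        _ = _ := by group
    rw [e]
    exact mul_mem (conj_mem hW hvW) (inv_mem hvW)

/-- The common element of the two four-groups. -/
theorem exists_w : ∃ w, w ≠ 1 ∧ w ∈ wOf K ∧ w ∈ wOf K' ∧ w ∈ Subgroup.centralizer (T : Set G) ∧
    (∀ a ∈ coreP T K, ∀ b ∈ coreP T K', b * a * b⁻¹ * a⁻¹ = 1 ∨ b * a * b⁻¹ * a⁻¹ = w) ∧
    (∀ x ∈ coreP T K, x ∈ coreP T K' → x = 1 ∨ x = w ∨ x = c ∨ x = w * c) ∧
    (∀ n ∈ Subgroup.normalizer (T : Set G), n * w * n⁻¹ = w) := by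
  -- the intersection of `W` with the other core has two elements
  obtain ⟨k, hk⟩ := exists_compElt h.pair.g.comp
  have hnle : ¬ wOf K ≤ coreP T K' := fun hle => by
    obtain ⟨b, hb, hbV⟩ := h.pair.symm.exists_not_mem
    refine hbV ?_
    rcases h.mem_W_or hb with hW | hW
    · exact hle hW
    · have := mul_mem (hle hW) (inv_mem h.c_mem.2)
      simpa using this
  obtain ⟨b, hb, hbV⟩ := h.pair.exists_not_mem
  obtain ⟨a, haW, haV⟩ := Set.not_subset.mp hnle
  have hcm : ∀ x ∈ coreP T K, ∀ y ∈ coreP T K', y * x * y⁻¹ * x⁻¹ ∈ wOf K ∧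
      y * x * y⁻¹ * x⁻¹ ∈ wOf K' ∧ y * x * y⁻¹ * x⁻¹ ∈ coreP T K' := by
    intro x hx y hy
    have h1 := h.symm.commutator_mem_W (h.pair.V_le hx) hy
    refine ⟨h.commutator_mem_W (h.pair.symm.V_le hy) hx, ?_, ?_⟩
    · have e : y * x * y⁻¹ * x⁻¹ = (x * y * x⁻¹ * y⁻¹)⁻¹ := by group
      rw [e]; exact inv_mem h1
    · have e : y * x * y⁻¹ * x⁻¹ = (x * y * x⁻¹ * y⁻¹)⁻¹ := by group
      rw [e]; exact inv_mem (h.pair.symm.W_le_V h1)
  set w := b * a * b⁻¹ * a⁻¹ with hw
  have hw1 : w ≠ 1 := fun he => haV (h.pair.mem_inter_of_central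
    (Subgroup.mem_centralizer_iff.mpr fun t ht => by
      have hab : b * a = a * b := by
        calc b * a = b * a * b⁻¹ * a⁻¹ * (a * b) := by group
          _ = a * b := by rw [← hw, he, one_mul]
      by_cases htV : t ∈ coreP T K
      · exact h.pair.comm htV (h.pair.W_le_V haW)
      · have h1 := h.pair.comm (h.pair.mul_mem_of_not_mem ht (h.pair.symm.V_le hb) htV hbV)
          (h.pair.W_le_V haW)
        have e : t = t * b * b := by rw [mul_assoc, h.pair.symm.sq_one hb, mul_one]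
        rw [e, mul_assoc, hab, ← mul_assoc, h1, mul_assoc])).2
  obtain ⟨hwW, hwW', hwV'⟩ := hcm a (h.pair.W_le_V haW) b hb
  have huniq : ∀ x ∈ wOf K, x ∈ coreP T K' → x = 1 ∨ x = w := by
    intro x hx hx'
    by_contra hcon
    push Not at hcon
    obtain ⟨hall, -, -, -⟩ := wOf_four h.pair.g.comp hk hwW hw1
    refine hnle fun y hy => ?_
    have hgen : k * w * k⁻¹ ∈ coreP T K' := by
      rcases hall x hx with e | e | e | e
      · exact absurd e hcon.1
      · exact absurd e hcon.2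
      · exact e ▸ hx'
      · have := mul_mem (inv_mem hwV') hx'
        rwa [e, inv_mul_cancel_left] at this
    rcases hall y hy with rfl | rfl | rfl | rfl
    exacts [one_mem _, hwV', hgen, mul_mem hwV' hgen]
  have hwc : w ∈ Subgroup.centralizer (T : Set G) :=
    h.pair.central_of_mem_inter (h.pair.W_le_V hwW) hwV'
  have hcomm : ∀ x ∈ coreP T K, ∀ y ∈ coreP T K', y * x * y⁻¹ * x⁻¹ = 1 ∨ y * x * y⁻¹ * x⁻¹ = w :=
    fun x hx y hy => huniq _ (hcm x hx y hy).1 (hcm x hx y hy).2.2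
  have hcomm' : ∀ x ∈ coreP T K, ∀ y ∈ coreP T K', x * y * x⁻¹ * y⁻¹ = 1 ∨ x * y * x⁻¹ * y⁻¹ = w := by
    intro x hx y hy
    have e : x * y * x⁻¹ * y⁻¹ = (y * x * y⁻¹ * x⁻¹)⁻¹ := by group
    rw [e]
    rcases hcomm x hx y hy with e' | e' <;> rw [e']
    · left; simp
    · exact Or.inr (h.pair.inv_self (h.pair.W_le_V hwW))
  refine ⟨w, hw1, hwW, hwW', hwc, hcomm, fun x hx hx' => ?_, fun n hn => ?_⟩
  · rcases h.mem_W_or hx with hW | hW
    · rcases huniq x hW hx' with e | e
      · exact Or.inl e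
      · exact Or.inr (Or.inl e)
    · rcases huniq _ hW (mul_mem hx' h.c_mem.2) with e | e
      · exact Or.inr (Or.inr (Or.inl ((eq_inv_of_mul_eq_one_left e).trans (h.pair.inv_self h.c_mem.1))))
      · exact Or.inr (Or.inr (Or.inr (by rw [← e, mul_assoc, h.c_sq, mul_one])))
  · have hnT : ∀ {x : G}, x ∈ T → n * x * n⁻¹ ∈ T := fun hx => conj_mem hn hx
    have hinv : ∀ {x : G}, x ∈ T → x * x = 1 → (n * x * n⁻¹) * (n * x * n⁻¹) = 1 := fun {x} _ hx2 => by
      calc n * x * n⁻¹ * (n * x * n⁻¹) = n * (x * x) * n⁻¹ := by group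
        _ = 1 := by rw [hx2]; group
    have haT := h.pair.V_le (h.pair.W_le_V haW)
    have hbT := h.pair.symm.V_le hb
    have e : n * w * n⁻¹ = (n * b * n⁻¹) * (n * a * n⁻¹) * (n * b * n⁻¹)⁻¹ * (n * a * n⁻¹)⁻¹ := by
      rw [hw]; group
    have hne : n * w * n⁻¹ ≠ 1 := fun he => hw1 (conj_eq_one_iff.mp he)
    rw [e] at hne ⊢
    rcases h.pair.mem_or_mem (hnT hbT) (hinv hbT (h.pair.symm.sq_one hb)) with hB | hB <;>
      rcases h.pair.mem_or_mem (hnT haT) (hinv haT (h.pair.sq_one (h.pair.W_le_V haW))) with hA | hA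
    · exact absurd (by rw [h.pair.comm hB hA]; group) hne
    · exact (hcomm' _ hB _ hA).resolve_left hne
    · exact (hcomm _ hA _ hB).resolve_left hne
    · exact absurd (by rw [h.pair.symm.comm hB hA]; group) hne

theorem centralizer_c_le : Subgroup.centralizer ({c} : Set G) ≤ K ⊔ T := by
  have hn : Subgroup.normalizer (Subgroup.zpowers c : Set G) = K ⊔ T := by
    refine h.pair.eq_of_normalizer_ge ?_ (by rw [Ne, Subgroup.zpowers_eq_bot]; exact h.ne_one) ?_
    · exact h.pair.g.sylow.2.1.to_le (Subgroup.zpowers_le.mpr (h.pair.V_le h.c_mem.1))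
    · refine CfsgLib.LocalCharP.le_normalizer_of_conj_mem fun g hg x hx => ?_
      obtain ⟨m, rfl⟩ := Subgroup.mem_zpowers_iff.mp hx
      rw [← conj_zpow, h.c_commutes hg, mul_inv_cancel_right]
      exact Subgroup.zpow_mem _ (Subgroup.mem_zpowers c) m
  rw [← hn]
  refine le_trans (le_of_eq ?_) (Subgroup.centralizer_le_normalizer _)
  rw [Subgroup.zpowers_eq_closure, Subgroup.centralizer_closure]

/-- `c` is not conjugate to the common element `w`. -/
theorem not_conj_w {w : G} (hw : w ∈ Subgroup.centralizer (T : Set G)) (hw1 : w ≠ 1) (hwW : w ∈ wOf K)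
    (hfix : ∀ n ∈ Subgroup.normalizer (T : Set G), n * w * n⁻¹ = w) (g : G) : g * c * g⁻¹ ≠ w := by
  intro he
  set L := (K ⊔ T).map (MulAut.conj g).toMonoidHom
  have hS : IsSylowTwoIn (T.map (MulAut.conj g).toMonoidHom) L := isSylowTwoIn_map g h.pair.g.sylow
  have hCw : ∀ l ∈ L, l * w * l⁻¹ = w := by
    rintro _ ⟨p, hp, rfl⟩
    show g * p * g⁻¹ * w * (g * p * g⁻¹)⁻¹ = w
    rw [← he, show g * p * g⁻¹ * (g * c * g⁻¹) * (g * p * g⁻¹)⁻¹ = g * (p * c * p⁻¹) * g⁻¹ by group,
      h.c_commutes hp, mul_inv_cancel_right]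
  have hTL : T ≤ L := fun t ht => by
    refine mem_map_conj.mpr (h.centralizer_c_le (Subgroup.mem_centralizer_singleton_iff.mpr ?_))
    have h1 := Subgroup.mem_centralizer_iff.mp hw t ht
    rw [← he] at h1
    calc g⁻¹ * t * g * c = g⁻¹ * (t * (g * c * g⁻¹)) * g := by group
      _ = g⁻¹ * (g * c * g⁻¹ * t) * g := by rw [h1]
      _ = c * (g⁻¹ * t * g) := by group
  obtain ⟨l, hl, hle⟩ := exists_sylowIn_ge_conj hS h.pair.g.sylow.2.1 hTL
  have hTn : T.map (MulAut.conj (l * g)).toMonoidHom = T := by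
    have e : (T.map (MulAut.conj g).toMonoidHom).map (MulAut.conj l).toMonoidHom =
        T.map (MulAut.conj (l * g)).toMonoidHom := by
      ext x; simp only [mem_map_conj]; rw [mul_inv_rev]; simp only [mul_assoc]
    rw [← e]
    exact (Subgroup.eq_of_le_of_card_ge hle (by
      rw [Subgroup.card_map_of_injective (MulAut.conj l).injective,
        Subgroup.card_map_of_injective (MulAut.conj g).injective])).symm
  have hn : l * g ∈ Subgroup.normalizer (T : Set G) := Subgroup.mem_normalizer_iff_map_conj_eq.mpr hTn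
  have h1 := hfix _ hn
  have h2 : l * g * c * (l * g)⁻¹ = w := by
    calc l * g * c * (l * g)⁻¹ = l * (g * c * g⁻¹) * l⁻¹ := by group
      _ = w := by rw [he]; exact hCw l hl
  exact h.c_notW (by rw [mul_left_cancel (mul_right_cancel (h2.trans h1.symm))]; exact hwW)

/-- The nontrivial elements of `W` are conjugate to `w`, those of `V \ W` other than `c` to `w * c`. -/
theorem core_classes {w : G} (hwW : w ∈ wOf K) (hw1 : w ≠ 1) {x : G} (hx : x ∈ coreP T K) :
    x = 1 ∨ x = c ∨ (x ∈ wOf K ∧ ∃ g, g * w * g⁻¹ = x) ∨ (x ∉ wOf K ∧ ∃ g, g * (w * c) * g⁻¹ = x) := by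
  obtain ⟨k, hk⟩ := exists_compElt h.pair.g.comp
  obtain ⟨hall, hkk, -, -⟩ := wOf_four h.pair.g.comp hk hwW hw1
  have hconj : ∀ y ∈ wOf K, y ≠ 1 → ∃ g ∈ K ⊔ T, g * w * g⁻¹ = y := by
    intro y hy hy1
    rcases hall y hy with e | e | e | e
    · exact absurd e hy1
    · exact ⟨1, one_mem _, by rw [e]; group⟩
    · exact ⟨k, Subgroup.mem_sup_left hk.mem, e.symm⟩
    · exact ⟨k * k, Subgroup.mem_sup_left (mul_mem hk.mem hk.mem), by rw [e, ← hkk]; group⟩
  rcases eq_or_ne x 1 with rfl | hx1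
  · exact Or.inl rfl
  rcases h.mem_W_or hx with hW | hW
  · obtain ⟨g, -, hg⟩ := hconj x hW hx1
    exact Or.inr (Or.inr (Or.inl ⟨hW, g, hg⟩))
  · rcases eq_or_ne (x * c) 1 with e | e
    · exact Or.inr (Or.inl ((eq_inv_of_mul_eq_one_left e).trans (h.pair.inv_self h.c_mem.1)))
    · obtain ⟨g, hgP, hg⟩ := hconj _ hW e
      refine Or.inr (Or.inr (Or.inr ⟨fun hxW => h.c_notW ?_, g, ?_⟩))
      · simpa using mul_mem (inv_mem hxW) hW
      · calc g * (w * c) * g⁻¹ = g * w * (c * g⁻¹) := by group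
          _ = g * w * (g⁻¹ * c) := by rw [h.c_commutes (inv_mem hgP)]
          _ = g * w * g⁻¹ * c := by group
          _ = x := by rw [hg, mul_assoc, h.c_sq, mul_one]

/-- The 2-elements around `T`: `S` normalizes `T` with index at most 2. -/
theorem sylow_facts (S : Sylow 2 G) (hTS : T ≤ (S : Subgroup G)) :
    (S : Subgroup G) ≤ Subgroup.normalizer (T : Set G) ∧
      (∀ x ∈ (S : Subgroup G), ∀ y ∈ (S : Subgroup G), x ∉ T → y ∉ T → x * y ∈ T) ∧
      ∀ E : Subgroup G, IsElementaryAbelian 2 E → E ≤ (S : Subgroup G) → Nat.card E = 8 → E ≤ T := by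
  obtain ⟨w, -, hwW, hwW', hwc, -, hZ, -⟩ := h.exists_w
  set R := (S : Subgroup G) ⊓ Subgroup.normalizer (T : Set G) with hR
  have hTR : T ≤ R := le_inf hTS Subgroup.le_normalizer
  have hV8 : Nat.card ↥(coreP T K) = 8 := h.card8
  have hV8' : Nat.card ↥(coreP T K') = 8 := h.symm.card8
  have hmove : ∀ n ∈ R, n ∉ T → (coreP T K).map (MulAut.conj n).toMonoidHom = coreP T K' := by
    intro n hn hnT
    have hsub : (coreP T K).map (MulAut.conj n).toMonoidHom ≤ T := by
      rintro _ ⟨v, hv, rfl⟩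
      exact conj_mem hn.2 (h.pair.V_le hv)
    have hc : Nat.card ↥((coreP T K).map (MulAut.conj n).toMonoidHom) = 8 :=
      (Subgroup.card_map_of_injective (MulAut.conj n).injective).trans hV8
    rcases h.pair.elem_le (CfsgLib.LocalP.isElementaryAbelian_map _ (h.pair.g.amalgam h.pair.g' h.pair.bot).1)
      hsub with hle | hle
    · exfalso
      refine hnT (h.pair.mem_T_of_mem S.isPGroup' hTS hn.1 ?_)
      rw [← h.pair.normalizer_V]
      exact Subgroup.mem_normalizer_iff_map_conj_eq.mpr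
        (Subgroup.eq_of_le_of_card_ge hle (hV8.trans hc.symm).le)
    · exact Subgroup.eq_of_le_of_card_ge hle (hV8'.trans hc.symm).le
  have hprod : ∀ x ∈ R, ∀ y ∈ R, x ∉ T → y ∉ T → x * y ∈ T := by
    intro x hx y hy hxT hyT
    by_contra hxy
    have h1 := hmove _ (mul_mem hx hy) hxy
    have h2 := hmove x hx hxT
    have h3 : coreP T K = (coreP T K).map (MulAut.conj y).toMonoidHom := by
      refine Subgroup.map_injective (f := (MulAut.conj x).toMonoidHom) (MulAut.conj x).injective ?_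
      show (coreP T K).map (MulAut.conj x).toMonoidHom =
        ((coreP T K).map (MulAut.conj y).toMonoidHom).map (MulAut.conj x).toMonoidHom
      rw [h2, ← h1]
      ext z; simp only [mem_map_conj]; rw [mul_inv_rev]; simp only [mul_assoc]
    exact h.pair.ne (h3.trans (hmove y hy hyT))
  have hElem : ∀ E : Subgroup G, IsElementaryAbelian 2 E → E ≤ R → Nat.card E = 8 → E ≤ T := by
    intro E hE hER hE8
    by_contra hnot
    obtain ⟨r, hrE, hrT⟩ := Set.not_subset.mp hnot
    obtain ⟨hEab, hE2⟩ := CfsgLib.LocalP.isElementaryAbelian_iff.mp hE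
    have hrV := hmove r (hER hrE) hrT
    have hsub : E ⊓ T ≤ coreP T K ⊓ coreP T K' := by
      intro e he
      have hre : r * e * r⁻¹ = e := by rw [hEab r hrE e he.1, mul_inv_cancel_right]
      have hre' : r⁻¹ * e * r = e := by rw [mul_assoc, hEab e he.1 r hrE, inv_mul_cancel_left]
      rcases h.pair.mem_or_mem he.2 (by rw [← sq]; exact hE2 e he.1) with hv | hv
      · refine ⟨hv, ?_⟩
        rw [← hrV, ← hre]
        exact Subgroup.mem_map_of_mem _ hv
      · refine ⟨?_, hv⟩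
        rw [← hrV, mem_map_conj, hre'] at hv
        exact hv
    have hidx : T.relIndex E ≤ 2 := by
      have h1 : (T.subgroupOf E).index = 2 := by
        rw [Subgroup.index_eq_two_iff]
        refine ⟨⟨r, hrE⟩, fun b => ?_⟩
        show Xor ((b : G) * r ∈ T) ((b : G) ∈ T)
        by_cases hb : (b : G) ∈ T
        · exact Or.inr ⟨hb, fun hh => hrT (by simpa using mul_mem (inv_mem hb) hh)⟩
        · exact Or.inl ⟨hprod _ (hER b.2) _ (hER hrE) hb hrT, hb⟩
      exact h1.le
    have hbig : 4 ≤ Nat.card ↥(E ⊓ T) := by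
      have h1 := card_mul_rel (inf_le_left : E ⊓ T ≤ E)
      rw [Subgroup.inf_relIndex_left, hE8] at h1
      have h2 : 0 < Nat.card ↥(E ⊓ T) := Nat.card_pos
      rcases (show T.relIndex E = 0 ∨ T.relIndex E = 1 ∨ T.relIndex E = 2 by omega) with e | e | e <;>
        rw [e] at h1 <;> omega
    have hcE : c ∈ E ⊓ T := by
      by_contra hc
      have hsub' : ((E ⊓ T : Subgroup G) : Set G) ⊆ {1, w, w * c} := fun e he => by
        rcases hZ e (hsub he).1 (hsub he).2 with e' | e' | e' | e'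
        · exact Or.inl e'
        · exact Or.inr (Or.inl e')
        · exact absurd (e' ▸ he) hc
        · exact Or.inr (Or.inr e')
      have h1 := Set.ncard_le_ncard hsub' (Set.toFinite _)
      have h3 : ({1, w, w * c} : Set G).ncard ≤ 3 := by
        refine (Set.ncard_insert_le _ _).trans (Nat.succ_le_succ ((Set.ncard_insert_le _ _).trans ?_))
        rw [Set.ncard_singleton]
      rw [← Nat.card_coe_set_eq] at h1
      have h1' : Nat.card ↥(E ⊓ T) ≤ ({1, w, w * c} : Set G).ncard := h1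
      omega
    exact hrT (h.pair.mem_T_of_mem S.isPGroup' hTS (hER hrE).1
      (h.centralizer_c_le (Subgroup.mem_centralizer_singleton_iff.mpr (hEab r hrE c hcE.1))))
  have hRS : R = (S : Subgroup G) := by
    by_contra hne
    obtain ⟨n, hnS, hnR, hnot⟩ := CfsgLib.LocalP.exists_normalizes_not_mem S.isPGroup' inf_le_left hne
    refine hnot ⟨hnS, Subgroup.mem_normalizer_iff_map_conj_eq.mpr (Subgroup.eq_of_le_of_card_ge ?_
      (le_of_eq (Subgroup.card_map_of_injective (MulAut.conj n).injective).symm))⟩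
    show T.map (MulAut.conj n).toMonoidHom ≤ T
    rw (occs := .pos [1]) [← h.pair.sup_eq]
    rw [Subgroup.map_sup]
    have key : ∀ V : Subgroup G, IsElementaryAbelian 2 V → Nat.card V = 8 → V ≤ T →
        V.map (MulAut.conj n).toMonoidHom ≤ T := by
      intro V hV hc hVT
      refine hElem _ (CfsgLib.LocalP.isElementaryAbelian_map _ hV) ?_
        ((Subgroup.card_map_of_injective (MulAut.conj n).injective).trans hc)
      rintro _ ⟨v, hv, rfl⟩
      exact conj_mem hnR (hTR (hVT hv))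
    exact sup_le (key _ (h.pair.g.amalgam h.pair.g' h.pair.bot).1 hV8 h.pair.V_le)
      (key _ (h.pair.symm.g.amalgam h.pair.g h.pair.symm.bot).1 hV8' h.pair.symm.V_le)
  exact ⟨inf_eq_left.mp hRS, fun x hx y hy => hprod x (hRS.ge hx) y (hRS.ge hy),
    fun E hE hES => hElem E hE (hRS.ge.trans' hES)⟩

/-- `W ⊔ W'` is contained in `T` with index 2 and misses `c`. -/
theorem D_facts : wOf K ⊔ wOf K' ≤ T ∧ c ∉ wOf K ⊔ wOf K' ∧
    (∀ x ∈ T, ∀ y ∈ T, x ∉ wOf K ⊔ wOf K' → y ∉ wOf K ⊔ wOf K' → x * y ∈ wOf K ⊔ wOf K') := by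
  obtain ⟨w, hw1, hwW, hwW', hwc, -, hZ, -⟩ := h.exists_w
  have hDT : wOf K ⊔ wOf K' ≤ T :=
    sup_le (h.pair.W_le_V.trans h.pair.V_le) (h.pair.symm.W_le_V.trans h.pair.symm.V_le)
  have hn : wOf K' ≤ Subgroup.normalizer (wOf K : Set G) :=
    ((h.pair.symm.W_le_V.trans h.pair.symm.V_le).trans le_sup_right).trans h.pair.P_le_normalizer_W
  have hinf : wOf K ⊓ wOf K' ≤ coreP T K ⊓ coreP T K' := inf_le_inf h.pair.W_le_V h.pair.symm.W_le_V
  have hpair : wOf K ⊓ wOf K' ≤ Subgroup.zpowers w := by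
    intro x hx
    rcases hZ x (hinf hx).1 (hinf hx).2 with e | e | e | e
    · rw [e]; exact one_mem _
    · rw [e]; exact Subgroup.mem_zpowers w
    · exact absurd (e ▸ hx.1) h.c_notW
    · refine absurd ?_ h.c_notW
      have h1 := mul_mem (inv_mem hwW) hx.1
      rwa [e, inv_mul_cancel_left] at h1
  have hcD : c ∉ wOf K ⊔ wOf K' := by
    intro hc
    rw [← SetLike.mem_coe, Subgroup.coe_mul_of_right_le_normalizer_left _ _ hn] at hc
    obtain ⟨a, ha, b, hb, hab⟩ := hc
    have hab' : a * b = c := hab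
    have hbV : b ∈ coreP T K := by
      have := mul_mem (inv_mem (h.pair.W_le_V ha)) h.c_mem.1
      rwa [← hab', inv_mul_cancel_left] at this
    rcases hZ b hbV (h.pair.symm.W_le_V hb) with e | e | e | e
    · exact h.c_notW (by rw [← hab', e, mul_one]; exact ha)
    · exact h.c_notW (by rw [← hab']; exact mul_mem ha (e ▸ hwW))
    · refine h.symm.c_notW ?_
      have hcW' : c ∈ wOf K' := e ▸ hb
      rcases hZ c' h.symm.c_mem.2 h.symm.c_mem.1 with q | q | q | q
      · exact absurd q h.ne_one'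
      · exact q ▸ hwW'
      · exact q ▸ hcW'
      · exact q ▸ mul_mem hwW' hcW'
    · refine h.symm.c_notW ?_
      have hwcW' : w * c ∈ wOf K' := e ▸ hb
      rcases hZ c' h.symm.c_mem.2 h.symm.c_mem.1 with q | q | q | q
      · exact absurd q h.ne_one'
      · exact q ▸ hwW'
      · rw [q]
        have h4 := mul_mem (inv_mem hwW') hwcW'
        rwa [inv_mul_cancel_left] at h4
      · exact q ▸ hwcW'
  refine ⟨hDT, hcD, fun x hx y hy hxD hyD => ?_⟩
  have hcard : Nat.card ↥(wOf K ⊔ wOf K') ≥ 8 := by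
    have h1 := card_sup_inf_of_normalizes hn
    rw [h.pair.g.comp.2.2.2.2.1, h.pair.g'.comp.2.2.2.2.1] at h1
    have h2 : Nat.card ↥(wOf K ⊓ wOf K') ≤ 2 := by
      refine (Subgroup.card_le_of_le hpair).trans ?_
      rw [Nat.card_zpowers]
      exact orderOf_le_of_pow_eq_one (by norm_num) (by rw [sq]; exact h.pair.sq_one (h.pair.W_le_V hwW))
    have h3 := Nat.mul_le_mul (le_refl (Nat.card ↥(wOf K ⊔ wOf K'))) h2
    omega
  have hidx : ((wOf K ⊔ wOf K').subgroupOf T).index = 2 := by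
    have h1 := card_mul_rel hDT
    rw [h.pair.card_T, h.card8, Subgroup.relIndex] at h1
    have hne : ((wOf K ⊔ wOf K').subgroupOf T).index ≠ 1 := fun h2 =>
      hcD (Subgroup.relIndex_eq_one.mp h2 (h.pair.V_le h.c_mem.1))
    have h0 : ((wOf K ⊔ wOf K').subgroupOf T).index ≠ 0 := Subgroup.index_ne_zero_of_finite
    have h3 := Nat.mul_le_mul_right ((wOf K ⊔ wOf K').subgroupOf T).index hcard
    omega
  exact (Subgroup.mul_mem_iff_of_index_two hidx (a := ⟨x, hx⟩) (b := ⟨y, hy⟩)).mpr (iff_of_false hxD hyD)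

/-- `c` is not a product of elements of odd order. -/
theorem c_not_mem_odd (hG : ZN G) (S : Sylow 2 G) (hTS : T ≤ (S : Subgroup G)) :
    c ∉ Subgroup.closure {g : G | Odd (orderOf g)} := by
  classical
  obtain ⟨w, hw1, hwW, hwW', hwc, -, hZ, hfix⟩ := h.exists_w
  obtain ⟨hST, hindex, hElem⟩ := h.sylow_facts S hTS
  obtain ⟨hDT, hcD, hD2⟩ := h.D_facts
  set D := wOf K ⊔ wOf K' with hD
  have hncw : ∀ g : G, g * c * g⁻¹ ≠ w := h.not_conj_w hwc hw1 hwW hfix
  have hncw' : ∀ g : G, g * c' * g⁻¹ ≠ w := h.symm.not_conj_w hwc hw1 hwW' hfix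
  have hc' : c' = w * c := by
    rcases hZ c' h.symm.c_mem.2 h.symm.c_mem.1 with q | q | q | q
    · exact absurd q h.ne_one'
    · exact absurd (q ▸ hwW') h.symm.c_notW
    · exfalso
      refine h.pair.P_ne (h.pair.symm.max.2 _ h.pair.max.1 (fun x hx => ?_))
      exact h.centralizer_c_le (Subgroup.mem_centralizer_singleton_iff.mpr
        (q ▸ h.symm.c_commutes hx))
    · exact q
  have hwc' : w * c' = c := by rw [hc', ← mul_assoc, h.pair.sq_one (h.pair.W_le_V hwW), one_mul]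
  -- the elements of `T` conjugate to `w` lie in `D`, those conjugate to `c` do not
  have hwD : ∀ (g : G), g * w * g⁻¹ ∈ T → g * w * g⁻¹ ∈ D := by
    intro g hg
    have hsq : g * w * g⁻¹ * (g * w * g⁻¹) = 1 := by
      calc g * w * g⁻¹ * (g * w * g⁻¹) = g * (w * w) * g⁻¹ := by group
        _ = 1 := by rw [h.pair.sq_one (h.pair.W_le_V hwW)]; group
    have hne : g * w * g⁻¹ ≠ 1 := fun e => hw1 (conj_eq_one_iff.mp e)
    rcases h.pair.mem_or_mem hg hsq with hv | hv
    · rcases h.core_classes hwW hw1 hv with e | e | ⟨e, -⟩ | ⟨-, g', e⟩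
      · exact absurd e hne
      · exact absurd (show g⁻¹ * c * g⁻¹⁻¹ = w by rw [← e]; group) (hncw g⁻¹)
      · exact Subgroup.mem_sup_left e
      · rw [← hc'] at e
        exact absurd (show g⁻¹ * g' * c' * (g⁻¹ * g')⁻¹ = w by
          calc g⁻¹ * g' * c' * (g⁻¹ * g')⁻¹ = g⁻¹ * (g' * c' * g'⁻¹) * g := by group
            _ = w := by rw [e]; group) (hncw' _)
    · rcases h.symm.core_classes hwW' hw1 hv with e | e | ⟨e, -⟩ | ⟨-, g', e⟩
      · exact absurd e hne
      · exact absurd (show g⁻¹ * c' * g⁻¹⁻¹ = w by rw [← e]; group) (hncw' g⁻¹)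
      · exact Subgroup.mem_sup_right e
      · rw [hwc'] at e
        exact absurd (show g⁻¹ * g' * c * (g⁻¹ * g')⁻¹ = w by
          calc g⁻¹ * g' * c * (g⁻¹ * g')⁻¹ = g⁻¹ * (g' * c * g'⁻¹) * g := by group
            _ = w := by rw [e]; group) (hncw _)
  have hDc : ∀ (g : G), g * c * g⁻¹ ∈ T → g * c * g⁻¹ ∉ D := by
    intro g hg hgD
    have hsq : g * c * g⁻¹ * (g * c * g⁻¹) = 1 := by
      calc g * c * g⁻¹ * (g * c * g⁻¹) = g * (c * c) * g⁻¹ := by group
        _ = 1 := by rw [h.c_sq]; group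
    have hne : g * c * g⁻¹ ≠ 1 := fun e => h.ne_one (conj_eq_one_iff.mp e)
    have hW2 : ∀ {K₀ K₁ : Subgroup G} {d d' : G}, RichPair T K₀ K₁ d d' →
        w ∈ wOf K₀ → d ∉ D → wOf K₀ ≤ D → g * c * g⁻¹ ∈ coreP T K₀ → False := by
      intro K₀ K₁ d d' h₀ hw₀ hd hle hv
      rcases h₀.core_classes hw₀ hw1 hv with e | e | ⟨-, g', e⟩ | ⟨hnW, -⟩
      · exact hne e
      · exact hd (e ▸ hgD)
      · exact hncw (g'⁻¹ * g) (by
          calc g'⁻¹ * g * c * (g'⁻¹ * g)⁻¹ = g'⁻¹ * (g * c * g⁻¹) * g' := by group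
            _ = w := by rw [← e]; group)
      · rcases h₀.mem_W_or hv with e | e
        · exact hnW e
        · have h1 := mul_mem (inv_mem hgD) (hle e)
          rw [inv_mul_cancel_left] at h1
          exact hd h1
    rcases h.pair.mem_or_mem hg hsq with hv | hv
    · exact hW2 h hwW hcD le_sup_left hv
    · refine hW2 h.symm hwW' ?_ le_sup_right hv
      intro hd
      exact hcD (hwc' ▸ mul_mem (Subgroup.mem_sup_left hwW) hd)
  -- conjugates of `c` in `S` lie in `T`
  have hcT : ∀ (g : G), g * c * g⁻¹ ∈ (S : Subgroup G) → g * c * g⁻¹ ∈ T := by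
    intro g hg
    by_contra hxT
    set x := g * c * g⁻¹ with hx
    have hs : ∀ {s : G}, s ∈ (S : Subgroup G) → s * w * s⁻¹ = w := fun hs => hfix _ (hST hs)
    have hzS : w ∈ omegaCenterOf (S : Subgroup G) := mem_omegaCenterOf.mpr
      ⟨hTS (h.pair.V_le (h.pair.W_le_V hwW)), Subgroup.mem_centralizer_iff.mpr fun s hs' =>
        mul_inv_eq_iff_eq_mul.mp (hs hs'), by rw [sq]; exact h.pair.sq_one (h.pair.W_le_V hwW)⟩
    have hall : ∀ y ∈ omegaCenterOf (S : Subgroup G), y = 1 ∨ y = w := by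
      intro y hy
      obtain ⟨-, hyc, -⟩ := mem_omegaCenterOf.mp hy
      obtain ⟨hy1, hy2⟩ := h.pair.mem_inter_of_central (Subgroup.centralizer_le hTS hyc)
      rcases hZ y hy1 hy2 with e | e | e | e
      · exact Or.inl e
      · exact Or.inr e
      · refine absurd (h.pair.mem_T_of_mem S.isPGroup' hTS hg (h.centralizer_c_le ?_)) hxT
        rw [← e]
        exact Subgroup.mem_centralizer_singleton_iff.mpr (Subgroup.mem_centralizer_iff.mp hyc x hg)
      · refine absurd (h.pair.symm.mem_T_of_mem S.isPGroup' hTS hg (h.symm.centralizer_c_le ?_)) hxT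
        rw [hc', ← e]
        exact Subgroup.mem_centralizer_singleton_iff.mpr (Subgroup.mem_centralizer_iff.mp hyc x hg)
    have hCw := centralizer_le_of_unique (S := S) hG hall
    -- move `g⁻¹ w g` into `T`
    have hw' : g⁻¹ * w * g ∈ K ⊔ T := h.centralizer_c_le (Subgroup.mem_centralizer_singleton_iff.mpr (by
      calc g⁻¹ * w * g * c = g⁻¹ * (w * x) * g := by rw [hx]; group
        _ = g⁻¹ * (x * w) * g := by rw [omegaCenterOf_comm hzS hg]
        _ = c * (g⁻¹ * w * g) := by rw [hx]; group))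
    have hw'2 : IsPGroup 2 ↥(Subgroup.zpowers (g⁻¹ * w * g)) := by
      refine IsPGroup.of_card (n := 1) ?_
      rw [Nat.card_zpowers, pow_one]
      refine orderOf_eq_prime ?_ fun e => hw1 ?_
      · calc (g⁻¹ * w * g) ^ 2 = g⁻¹ * (w * w) * g := by rw [sq]; group
          _ = 1 := by rw [h.pair.sq_one (h.pair.W_le_V hwW)]; group
      · rw [show w = g * (g⁻¹ * w * g) * g⁻¹ by group, e]; group
    obtain ⟨p, hp, hple⟩ := exists_sylowIn_ge_conj h.pair.g.sylow hw'2 (Subgroup.zpowers_le.mpr hw')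
    have hpT := mem_map_conj.mp (hple (Subgroup.mem_zpowers _))
    set u := p⁻¹ * (g⁻¹ * w * g) * p with hu
    have hu2 : u * u = 1 := by
      calc u * u = p⁻¹ * g⁻¹ * (w * w) * g * p := by rw [hu]; group
        _ = 1 := by rw [h.pair.sq_one (h.pair.W_le_V hwW)]; group
    obtain ⟨V₀, hV₀e, hV₀8, hcV₀, huV₀⟩ : ∃ V₀ : Subgroup G, IsElementaryAbelian 2 V₀ ∧
        Nat.card V₀ = 8 ∧ c ∈ V₀ ∧ u ∈ V₀ := by
      rcases h.pair.mem_or_mem hpT hu2 with hv | hv
      · exact ⟨_, (h.pair.g.amalgam h.pair.g' h.pair.bot).1, h.card8, h.c_mem.1, hv⟩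
      · exact ⟨_, (h.pair.symm.g.amalgam h.pair.g h.pair.symm.bot).1, h.symm.card8, h.c_mem.2, hv⟩
    set m := g * p
    set E := V₀.map (MulAut.conj m).toMonoidHom with hE
    have hEel : IsElementaryAbelian 2 E := CfsgLib.LocalP.isElementaryAbelian_map _ hV₀e
    have hwE : w ∈ E := by
      refine mem_map_conj.mpr ?_
      rwa [show (g * p)⁻¹ * w * (g * p) = u by rw [hu]; group]
    have hxE : x ∈ E := by
      refine mem_map_conj.mpr ?_
      have hpc := h.c_commutes hp
      rwa [show (g * p)⁻¹ * x * (g * p) = c by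
        calc (g * p)⁻¹ * x * (g * p) = p⁻¹ * (c * p) := by rw [hx]; group
          _ = p⁻¹ * (p * c) := by rw [hpc]
          _ = c := by group]
    have hEn : E ≤ Subgroup.normalizer ((S : Subgroup G) : Set G) := fun e he => hCw
      (Subgroup.mem_centralizer_singleton_iff.mpr
        ((CfsgLib.LocalP.isElementaryAbelian_iff.mp hEel).1 e he w hwE))
    have hES := le_sylow_of_le_normalizer S (CfsgLib.LocalP.isPGroup_of_isElementaryAbelian hEel) hEn
    exact hxT (hElem E hEel hES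
      ((Subgroup.card_map_of_injective (MulAut.conj m).injective).trans hV₀8) hxE)
  -- the map `S → S ⧸ D`
  set R := (S : Subgroup G)
  have hDS : D ≤ R := hDT.trans hTS
  have hn : R ≤ Subgroup.normalizer (D : Set G) := by
    refine CfsgLib.LocalCharP.le_normalizer_of_conj_mem fun s hs x hx => ?_
    have hle : D ≤ D.comap (MulAut.conj s).toMonoidHom := by
      refine sup_le ?_ ?_
      · intro y hy
        show s * y * s⁻¹ ∈ D
        rcases eq_or_ne y 1 with e | hy1
        · rw [e]; simp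
        · rcases h.core_classes hwW hw1 (h.pair.W_le_V hy) with e | e | ⟨-, g, e⟩ | ⟨e, -⟩
          · exact absurd e hy1
          · exact absurd (e ▸ hy) h.c_notW
          · have h1 := hwD (s * g)
            rw [show s * g * w * (s * g)⁻¹ = s * y * s⁻¹ by rw [← e]; group] at h1
            exact h1 (conj_mem (hST hs) (h.pair.V_le (h.pair.W_le_V hy)))
          · exact absurd hy e
      · intro y hy
        show s * y * s⁻¹ ∈ D
        rcases eq_or_ne y 1 with e | hy1
        · rw [e]; simp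
        · rcases h.symm.core_classes hwW' hw1 (h.pair.symm.W_le_V hy) with e | e | ⟨-, g, e⟩ | ⟨e, -⟩
          · exact absurd e hy1
          · exact absurd (e ▸ hy) h.symm.c_notW
          · have h1 := hwD (s * g)
            rw [show s * g * w * (s * g)⁻¹ = s * y * s⁻¹ by rw [← e]; group] at h1
            exact h1 (conj_mem (hST hs) (h.pair.symm.V_le (h.pair.symm.W_le_V hy)))
          · exact absurd hy e
    exact hle hx
  set N := D.subgroupOf R
  haveI : N.Normal := Subgroup.normal_subgroupOf_of_le_normalizer hn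
  have hcomm : ∀ a ∈ R, ∀ b ∈ R, a * b * a⁻¹ * b⁻¹ ∈ D := by
    have ht : ∀ a ∈ R, ∀ t ∈ T, a * t * a⁻¹ * t⁻¹ ∈ D := by
      intro a ha t ht
      by_cases htD : t ∈ D
      · exact mul_mem (conj_mem (hn ha) htD) (inv_mem htD)
      · refine hD2 _ (conj_mem (hST ha) ht) _ (inv_mem ht) (fun hh => htD ?_) fun hh => htD (by simpa using inv_mem hh)
        have := conj_mem (hn (inv_mem ha)) hh
        simpa [mul_assoc] using this
    intro a ha b hb
    by_cases hbT : b ∈ T
    · exact ht a ha b hbT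
    by_cases haT : a ∈ T
    · have e : a * b * a⁻¹ * b⁻¹ = (b * a * b⁻¹ * a⁻¹)⁻¹ := by group
      rw [e]; exact inv_mem (ht b hb a haT)
    have hbT' : b⁻¹ ∉ T := fun hh => hbT (by simpa using inv_mem hh)
    have hab : a * b⁻¹ ∈ T := hindex a ha b⁻¹ (inv_mem hb) haT hbT'
    have e : a * b * a⁻¹ * b⁻¹ = (b * (a * b⁻¹) * b⁻¹ * (a * b⁻¹)⁻¹)⁻¹ := by group
    rw [e]; exact inv_mem (ht b hb _ hab)
  letI : CommGroup (↥R ⧸ N) :=
    { (inferInstance : Group (↥R ⧸ N)) with
      mul_comm := fun a b => by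
        obtain ⟨a, rfl⟩ := QuotientGroup.mk_surjective a
        obtain ⟨b, rfl⟩ := QuotientGroup.mk_surjective b
        rw [← QuotientGroup.mk_mul, ← QuotientGroup.mk_mul, QuotientGroup.eq]
        show ((a : G) * b)⁻¹ * ((b : G) * a) ∈ D
        have := hcomm _ (inv_mem b.2) _ (inv_mem a.2)
        rwa [show ((b : G))⁻¹ * (a : G)⁻¹ * (b : G)⁻¹⁻¹ * (a : G)⁻¹⁻¹ = ((a : G) * b)⁻¹ * ((b : G) * a) by
          group] at this }
  have hcR : c ∈ R := hTS (h.pair.V_le h.c_mem.1)
  refine not_mem_closure_odd (R := R) (Nat.not_even_iff_odd.mp fun he =>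
    S.not_dvd_index (even_iff_two_dvd.mp he)) (A := ↥R ⧸ N) ?_ (QuotientGroup.mk' N) hcR h.c_sq ?_ ?_
  · intro a
    obtain ⟨a, rfl⟩ := QuotientGroup.mk_surjective a
    obtain ⟨k, hk⟩ := S.isPGroup' a
    exact ⟨k, by rw [← QuotientGroup.mk_pow, hk]; rfl⟩
  · intro g hg
    refine (QuotientGroup.eq (s := N)).mpr ?_
    show (g⁻¹ * c * g)⁻¹ * c ∈ D
    have hxT : g⁻¹ * c * g ∈ T := by
      simpa using hcT g⁻¹ (by simpa using hg)
    have hxD : g⁻¹ * c * g ∉ D := by
      simpa using hDc g⁻¹ (by simpa using hxT)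
    exact hD2 _ (inv_mem hxT) _ (h.pair.V_le h.c_mem.1) (fun hh => hxD (by simpa using inv_mem hh)) hcD
  · intro he
    exact hcD ((QuotientGroup.eq_one_iff (N := N) _).mp he)

end RichPair

end CfsgLib.JComp
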