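import Cfsg.Agent.JComp.PairExist

/-!
The maximal 2-local subgroup of a configuration with small elementary abelian 2-core is `⟨K, T⟩`.
-/

set_option autoImplicit false

open Cfsg
open scoped Pointwise commutatorElement

namespace CfsgLib.JComp

variable {G : Type*} [Group G] [Finite G]

local instance : Fact (Nat.Prime 2) := ⟨Nat.prime_two⟩

omit [Finite G] in
theorem card_mulAut_le_six {W : Subgroup G} (hW : Nat.card W = 4) : Nat.card (MulAut ↥W) ≤ 6 := by
  classical
  haveI : Finite ↥W := Nat.finite_of_card_ne_zero (by omega)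
  have h3 : Nat.card {x : ↥W // x ≠ 1} = 3 := by
    have h : Nat.card ↥({1}ᶜ : Set ↥W) = 3 := by
      rw [Nat.card_coe_set_eq, Set.ncard_compl, Set.ncard_singleton, hW]
    exact h
  have hinj : Function.Injective fun σ : MulAut ↥W =>
      (σ.toEquiv.subtypeEquiv (p := fun x => x ≠ 1) (q := fun x => x ≠ 1) fun x => by simp) := by
    intro σ τ h
    refine MulEquiv.ext fun x => ?_
    rcases eq_or_ne x 1 with rfl | hx
    · simp
    · exact congrArg Subtype.val (DFunLike.congr_fun h (⟨x, hx⟩ : {x : ↥W // x ≠ 1}))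
  refine (Nat.card_le_card_of_injective _ hinj).trans ?_
  rw [Nat.card_perm, h3]
  decide

namespace Setup

variable {S : Sylow 2 G} {M T L : Subgroup G} (P : Setup S M T L)

include P

/-- If `O₂⟨K, T⟩` is elementary abelian of order at most 8, then `L = ⟨K, T⟩`. -/
theorem eq_sup_of_small {K : Subgroup G} (hK : K ∈ outComps M T L) (g : GoodComp T K)
    (hel : IsElementaryAbelian 2 (pCoreOf 2 (K ⊔ T))) (h8 : Nat.card ↥(pCoreOf 2 (K ⊔ T)) ≤ 8) :
    L = K ⊔ T := by
  classical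
  set V := pCoreOf 2 (K ⊔ T) with hV
  obtain ⟨hVab, hV2⟩ := CfsgLib.LocalP.isElementaryAbelian_iff.mp hel
  have hXL : K ⊔ T ≤ L := sup_le hK.2.1 P.T_le_L
  have hQV : pCoreOf 2 L ≤ V :=
    CfsgLib.LocalCharP.le_pCoreOf ((JComp.pCoreOf_le_T P.hLj).trans le_sup_right)
      (CfsgLib.LocalCharP.isPGroup_pCoreOf L) (hXL.trans (CfsgLib.LocalCharP.le_normalizer_pCoreOf L))
  have hVQ : V ≤ pCoreOf 2 L := fun v hv =>
    P.hLj.2.2 (Subgroup.mem_centralizer_iff.mpr fun q hq => hVab q (hQV hq) v hv)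
  have hQ : pCoreOf 2 L = V := le_antisymm hQV hVQ
  set W := wOf K with hW
  have hW4 : Nat.card ↥W = 4 := hK.1.2.2.2.2.1
  have hmod : ∀ X, IsJComponent T X → X ≤ L → wOf X ≤ V := by
    intro X hX hXL'
    obtain ⟨r, τ, x, hS⟩ := exists_lSystem P.hG P.hLj
    obtain ⟨i, rfl⟩ := hS.exists_eq_comp P.hG P.hLj hX hXL'
    exact ((hS.compGen P.hLj i).wOf_le_module.trans ((module_le P.hLj).trans inf_le_left)).trans hQV
  have hWV : W ≤ V := hmod K hK.1 hK.2.1
  have hLW : L ≤ Subgroup.normalizer (W : Set G) := by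
    intro l hl
    obtain ⟨hc, hcL⟩ := component_conj P.hG P.hLj hK.1 hK.2.1 hl
    have hW' : W.map (MulAut.conj l).toMonoidHom = wOf (K.map (MulAut.conj l).toMonoidHom) :=
      map_wOf _ _
    have hne : W ⊓ wOf (K.map (MulAut.conj l).toMonoidHom) ≠ ⊥ := by
      intro hb
      rw [← hW'] at hb
      have hsub : W.map (MulAut.conj l).toMonoidHom ≤ V := hW'.le.trans (hmod _ hc hcL)
      have hn : W.map (MulAut.conj l).toMonoidHom ≤ Subgroup.normalizer (W : Set G) := by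
        refine CfsgLib.LocalCharP.le_normalizer_of_conj_mem fun a ha x hx => ?_
        rw [hVab a (hsub ha) x (hWV hx), mul_inv_cancel_right]
        exact hx
      have h := card_sup_inf_of_normalizes hn
      rw [hb, Subgroup.card_bot, mul_one, Subgroup.card_map_of_injective (MulAut.conj l).injective,
        hW4] at h
      have h' := Subgroup.card_le_of_le (sup_le hWV hsub)
      omega
    have he := eq_of_wOf_inf P.hG P.hLj hK.1 hK.2.1 hc hcL hne
    exact normalizer_le_normalizer_wOf K (Subgroup.mem_normalizer_iff_map_conj_eq.mpr he.symm)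
  set C := L ⊓ Subgroup.centralizer (W : Set G) with hC
  have hLV : L ≤ Subgroup.normalizer (V : Set G) := hQ ▸ CfsgLib.LocalCharP.le_normalizer_pCoreOf L
  have hsq : ∀ x ∈ C, x * x ∈ V := by
    intro x hx
    refine g.charTwo (Subgroup.mem_centralizer_iff.mpr fun v hv => ?_)
    have hfix : ∀ w ∈ W, x * w * x⁻¹ = w := fun w hw => by
      rw [← Subgroup.mem_centralizer_iff.mp hx.2 w hw, mul_inv_cancel_right]
    suffices h : x * (x * v * x⁻¹) * x⁻¹ = v by
      calc v * (x * x) = x * (x * v * x⁻¹) * x⁻¹ * (x * x) := by rw [h]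
        _ = x * x * v := by group
    by_cases hvW : v ∈ W
    · rw [hfix v hvW, hfix v hvW]
    have hvV : x * v * x⁻¹ ∈ V := conj_mem (hLV hx.1) hv
    have hnW : x * v * x⁻¹ ∉ W := fun h => hvW (by
      have h2 := hfix _ h
      have e : x * v * x⁻¹ = v := mul_left_cancel (mul_right_cancel h2)
      rwa [e] at h)
    have hidx : (W.subgroupOf V).index = 2 := by
      have hc := card_mul_rel hWV
      rw [hW4, Subgroup.relIndex] at hc
      have h1 : (W.subgroupOf V).index ≠ 1 := fun h1 => hvW (Subgroup.relIndex_eq_one.mp h1 hv)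
      have h0 : (W.subgroupOf V).index ≠ 0 := Subgroup.index_ne_zero_of_finite
      omega
    have hd := (Subgroup.mul_mem_iff_of_index_two hidx (a := ⟨v, hv⟩)
      (b := ⟨x * v * x⁻¹, hvV⟩)).mpr (iff_of_false hvW hnW)
    have hd' : v * (x * v * x⁻¹) ∈ W := hd
    have hvv : ∀ a ∈ V, a * a = 1 := fun a ha => by rw [← sq]; exact hV2 a ha
    have e1 := hfix _ hd'
    calc x * (x * v * x⁻¹) * x⁻¹ = (x * v * x⁻¹)⁻¹ * (x * (v * (x * v * x⁻¹)) * x⁻¹) := by group
      _ = (x * v * x⁻¹)⁻¹ * (v * (x * v * x⁻¹)) := by rw [e1]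
      _ = v := by rw [hVab v hv _ hvV, inv_mul_cancel_left]
  have hCp : IsPGroup 2 ↥C := by
    intro x
    refine ⟨2, Subtype.ext ?_⟩
    have h := hV2 _ (hsq x x.2)
    rw [show ((x ^ 2 ^ 2 : ↥C) : G) = (x : G) ^ 2 ^ 2 from rfl]
    rw [show (2 : ℕ) ^ 2 = 2 * 2 from rfl, pow_mul, sq (x : G), Subgroup.coe_one]
    exact h
  have hCV : C ≤ V := by
    rw [← hQ]
    exact CfsgLib.LocalCharP.le_pCoreOf inf_le_left hCp
      (le_trans (le_inf Subgroup.le_normalizer (CfsgLib.Coprime.le_normalizer_centralizer hLW))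
        Subgroup.inf_normalizer_le_normalizer_inf)
  let φ : ↥L →* MulAut ↥W := W.normalizerMonoidHom.comp (Subgroup.inclusion hLW)
  have hker : φ.ker.map L.subtype ≤ C := by
    rintro _ ⟨l, hl, rfl⟩
    refine ⟨l.2, Subgroup.mem_centralizer_iff.mpr fun w hw => ?_⟩
    have h := congrArg Subtype.val (DFunLike.congr_fun (MonoidHom.mem_ker.mp hl) ⟨w, hw⟩)
    have h' : (l : G) * w * (l : G)⁻¹ = w := h
    exact (mul_inv_eq_iff_eq_mul.mp h').symm
  refine (Subgroup.eq_of_le_of_card_ge hXL ?_).symm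
  have h1 : Nat.card ↥L = Nat.card ↥φ.range * Nat.card ↥φ.ker := by
    rw [Subgroup.card_eq_card_quotient_mul_card_subgroup φ.ker,
      Nat.card_congr (QuotientGroup.quotientKerEquivRange φ).toEquiv]
  have h2 : Nat.card ↥φ.range ≤ 6 :=
    (Nat.card_le_card_of_injective _ Subtype.val_injective).trans (card_mulAut_le_six hW4)
  have h3 : Nat.card ↥φ.ker ≤ Nat.card ↥V := by
    rw [← Subgroup.card_map_of_injective L.subtype_injective]
    exact Subgroup.card_le_of_le (hker.trans hCV)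
  rw [h1, ← card_mul_rel (CfsgLib.LocalCharP.pCoreOf_le (p := 2) (K ⊔ T)), g.index_six, mul_comm _ 6]
  exact Nat.mul_le_mul h2 h3

end Setup

/-- Two maximal 2-local subgroups `⟨Kᵢ, T⟩`, both `S₄` or both `C₂ × S₄`. -/
theorem exists_two_maximal (S : Sylow 2 G) {M T : Subgroup G} (hG : ZN G) (hO : pCore 2 G = ⊥)
    (hMJ : Subgroup.normalizer (thompsonSubgroupOf 2 (S : Subgroup G) : Set G) ≤ M)
    (hT : T ∈ maxStraddlingTwoSubgroups M) :
    ∃ K K', GoodComp T K ∧ GoodComp T K' ∧ pCoreOf 2 ((K ⊔ T) ⊔ (K' ⊔ T)) = ⊥ ∧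
      IsMaximalTwoLocal (K ⊔ T) ∧ IsMaximalTwoLocal (K' ⊔ T) := by
  obtain ⟨S₁, hTS, hMJ₁⟩ := exists_sylow_ge S hMJ hT
  obtain ⟨M', K, K', L, L', P, P', hK, hK', hne⟩ := exists_two_configs S₁ hG hO hMJ₁ hT hTS
  obtain ⟨g, -⟩ := P.goodComp hO hTS hK
  obtain ⟨g', -⟩ := P'.goodComp hO hTS hK'
  have hbot := pCoreOf_pair_eq_bot P P' hK hK' hne
  have hbot' : pCoreOf 2 ((K' ⊔ T) ⊔ (K ⊔ T)) = ⊥ := by rwa [sup_comm (K' ⊔ T) (K ⊔ T)]
  refine ⟨K, K', g, g', hbot, ?_, ?_⟩
  · rw [← P.eq_sup_of_small hK g (g.amalgam g' hbot).1 (g.card_pCoreOf_le g' hbot)]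
    exact P.hLmax
  · rw [← P'.eq_sup_of_small hK' g' (g'.amalgam g hbot').1 (g'.card_pCoreOf_le g hbot')]
    exact P'.hLmax

end CfsgLib.JComp
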