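import Cfsg.Agent.JComp.Zero
import Cfsg.Agent.LocalP.AxB

/-!
Largest straddling 2-subgroups relative to a 2-local subgroup `M` containing `N(J(S))`, and the
uniqueness of the maximal 2-local overgroup of a component outside `M`.
-/

set_option autoImplicit false

open Cfsg
open scoped Pointwise commutatorElement

namespace CfsgLib.JComp

variable {G : Type*} [Group G] [Finite G]

local instance : Fact (Nat.Prime 2) := ⟨Nat.prime_two⟩

theorem sylowIn_of_sylow_le {M : Subgroup G} (S : Sylow 2 G) (hSM : (S : Subgroup G) ≤ M) :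
    IsSylowTwoIn (S : Subgroup G) M := by
  refine ⟨hSM, S.isPGroup', Nat.not_even_iff_odd.mp fun h => ?_⟩
  refine S.not_dvd_index ((even_iff_two_dvd.mp h).trans ?_)
  exact ⟨_, (Subgroup.relIndex_mul_index hSM).symm⟩

theorem sylow_le_of_normalizer_J_le {M : Subgroup G} (S : Sylow 2 G)
    (hMJ : Subgroup.normalizer (thompsonSubgroupOf 2 (S : Subgroup G) : Set G) ≤ M) : (S : Subgroup G) ≤ M :=
  Subgroup.le_normalizer.trans ((CfsgLib.LocalP.le_normalizer_thompsonSubgroupOf _).trans hMJ)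

section Straddle

variable {M T : Subgroup G}

theorem J_ne_bot_of_straddle (hT : T ∈ straddlingTwoSubgroups M) : thompsonSubgroupOf 2 T ≠ ⊥ :=
  J_ne_bot hT.1 hT.2.1

/-- A straddler containing `J(T)` has the same Thompson subgroup and is no larger. -/
theorem straddle_facts (hT : T ∈ maxStraddlingTwoSubgroups M) {R : Subgroup G}
    (hR : R ∈ straddlingTwoSubgroups M) (hJ : thompsonSubgroupOf 2 T ≤ R) :
    thompsonSubgroupOf 2 R = thompsonSubgroupOf 2 T ∧ Nat.card R ≤ Nat.card T := by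
  obtain ⟨h1, h2⟩ := hT.2 R hR
  have h3 : maxElemAbelianOrder T ≤ maxElemAbelianOrder R := by
    obtain ⟨A, hA⟩ := exists_maxE T
    obtain ⟨B, hB⟩ := exists_maxE R
    rw [maxElemAbelianOrder_eq hA, maxElemAbelianOrder_eq hB]
    exact hB.2.2 A ((maxE_le_J hA).trans hJ) hA.2.1
  obtain ⟨h4, h5⟩ := h2 (le_antisymm h1 h3)
  have h6 := (Subgroup.eq_of_le_of_card_ge (J_le_J hJ h1) h4).symm
  exact ⟨h6, h5 (by rw [h6])⟩

variable (S : Sylow 2 G) (hMJ : Subgroup.normalizer (thompsonSubgroupOf 2 (S : Subgroup G) : Set G) ≤ M)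

include hMJ

/-- `N(J(T)) ≤ M` for a largest straddler `T`. -/
theorem normalizer_J_le (hT : T ∈ maxStraddlingTwoSubgroups M) :
    Subgroup.normalizer (thompsonSubgroupOf 2 T : Set G) ≤ M := by
  obtain ⟨hTp, hT1, hTM, -⟩ := hT.1
  obtain ⟨m, hm, hle⟩ := exists_sylowIn_ge_conj (sylowIn_of_sylow_le S (sylow_le_of_normalizer_J_le S hMJ)) hTp hTM
  by_cases he : T = (S : Subgroup G).map (MulAut.conj m).toMonoidHom
  · intro x hx
    rw [he, J_map] at hx
    have h1 : m⁻¹ * x * m ∈ Subgroup.normalizer (thompsonSubgroupOf 2 (S : Subgroup G) : Set G) := by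
      rw [Subgroup.mem_normalizer_iff] at hx ⊢
      intro y
      have h := hx (m * y * m⁻¹)
      rw [mem_map_conj, mem_map_conj] at h
      simpa [mul_assoc] using h
    simpa [mul_assoc] using mul_mem (mul_mem hm (hMJ h1)) (inv_mem hm)
  by_contra hnot
  obtain ⟨y, hy, hyN, hyT⟩ := CfsgLib.LocalP.exists_normalizes_not_mem (S.isPGroup'.map _) hle he
  have hRle : T ⊔ Subgroup.zpowers y ≤ (S : Subgroup G).map (MulAut.conj m).toMonoidHom :=
    sup_le hle (Subgroup.zpowers_le.mpr hy)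
  have hRM : T ⊔ Subgroup.zpowers y ≤ M := by
    refine hRle.trans ?_
    rintro _ ⟨s, hs, rfl⟩
    exact mul_mem (mul_mem hm (sylow_le_of_normalizer_J_le S hMJ hs)) (inv_mem hm)
  have hRstr : T ⊔ Subgroup.zpowers y ∈ straddlingTwoSubgroups M :=
    ⟨(S.isPGroup'.map _).to_le hRle, ne_bot_of_le_ne_bot hT1 le_sup_left, hRM, _,
      ⟨_, J_isPGroup hTp, J_ne_bot_of_straddle hT.1, rfl⟩,
      sup_le (Subgroup.le_normalizer.trans (CfsgLib.LocalP.le_normalizer_thompsonSubgroupOf T))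
        (Subgroup.zpowers_le.mpr (CfsgLib.LocalP.le_normalizer_thompsonSubgroupOf T hyN)), hnot⟩
  have h := (straddle_facts hT hRstr ((CfsgLib.LocalP.thompsonSubgroupOf_le T).trans le_sup_left)).2
  exact hyT ((Subgroup.eq_of_le_of_card_ge le_sup_left h).ge (Subgroup.mem_sup_right (Subgroup.mem_zpowers y)))

/-- Sylow subgroups of 2-local subgroups outside `M` containing `J(T)`. -/
theorem sylow_outside (hG : ZN G) (hT : T ∈ maxStraddlingTwoSubgroups M) {L T₀ : Subgroup G}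
    (hL : IsTwoLocal L) (hLM : ¬ L ≤ M) (hT₀ : IsSylowTwoIn T₀ L) (hJ : thompsonSubgroupOf 2 T ≤ T₀) :
    thompsonSubgroupOf 2 T₀ = thompsonSubgroupOf 2 T ∧ T₀ ∈ straddlingTwoSubgroups M ∧
      L ∈ jOvergroups T₀ ∧ Nat.card T₀ ≤ Nat.card T := by
  have hJne := J_ne_bot_of_straddle hT.1
  have hJM : thompsonSubgroupOf 2 T ≤ M := (CfsgLib.LocalP.thompsonSubgroupOf_le T).trans hT.1.2.2.1
  have hR : T₀ ⊓ M ∈ straddlingTwoSubgroups M :=
    ⟨hT₀.2.1.to_le inf_le_left, ne_bot_of_le_ne_bot hJne (le_inf hJ hJM), inf_le_right, L, hL,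
      inf_le_left.trans hT₀.1, hLM⟩
  have hJR := (straddle_facts hT hR (le_inf hJ hJM)).1
  have hT₀M : T₀ ⊓ M = T₀ := by
    by_contra hne
    obtain ⟨y, hy, hyN, hyR⟩ := CfsgLib.LocalP.exists_normalizes_not_mem hT₀.2.1 inf_le_left hne
    refine hyR ⟨hy, normalizer_J_le S hMJ hT ?_⟩
    rw [← hJR]
    exact CfsgLib.LocalP.le_normalizer_thompsonSubgroupOf _ hyN
  rw [hT₀M] at hR hJR
  refine ⟨hJR, hR, ⟨hT₀, fun h => hLM ?_, hG.centralizer_pCore_le hL⟩, (straddle_facts hT hR hJ).2⟩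
  have h1 := CfsgLib.LocalP.thompsonSubgroupOf_eq_of_le (pCoreOf_le_sylowIn hT₀) h
  refine (CfsgLib.LocalCharP.le_normalizer_pCoreOf (p := 2) L).trans
    (le_trans (CfsgLib.LocalP.le_normalizer_thompsonSubgroupOf (p := 2) _) ?_)
  rw [h1, hJR]
  exact normalizer_J_le S hMJ hT

theorem mem_jOvergroups_of_le (hG : ZN G) (hT : T ∈ maxStraddlingTwoSubgroups M) {L : Subgroup G}
    (hL : IsTwoLocal L) (hLM : ¬ L ≤ M) (hTL : T ≤ L) : L ∈ jOvergroups T := by
  obtain ⟨T₁, hT₁, hle⟩ := exists_sylowIn hT.1.1 hTL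
  obtain ⟨-, -, hL1, hcard⟩ :=
    sylow_outside S hMJ hG hT hL hLM hT₁ ((CfsgLib.LocalP.thompsonSubgroupOf_le T).trans hle)
  rwa [← Subgroup.eq_of_le_of_card_ge hle hcard] at hL1

theorem jComponentsZero_of_not_le (hG : ZN G) (hT : T ∈ maxStraddlingTwoSubgroups M) {K : Subgroup G}
    (hK : IsJComponent T K) (hN : ¬ Subgroup.normalizer (wOf K : Set G) ≤ M) : K ∈ jComponentsZero T :=
  ⟨hK, fun _ hJS' hS' => (sylow_outside S hMJ hG hT (isTwoLocal_normalizer_wOf hK) hN hS' hJS').1⟩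

theorem exists_component_outside (hG : ZN G) (hT : T ∈ maxStraddlingTwoSubgroups M) :
    (jComponentsOutside M T).Nonempty := by
  obtain ⟨L, hL, hTL, hLM⟩ := hT.1.2.2.2
  have hLj := mem_jOvergroups_of_le S hMJ hG hT hL hLM hTL
  obtain ⟨r, τ, g, hS⟩ := exists_lSystem hG hLj
  obtain ⟨i, hi⟩ : ∃ i, ¬ compOf L (g i) ≤ M := by
    by_contra hcon
    push Not at hcon
    have hQM : pCoreOf 2 L ≤ M := (pCoreOf_le_T hLj).trans hT.1.2.2.1
    refine hLM (hS.factor.trans (sup_le (sup_le (sup_le hQM ?_) ?_)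
      (inf_le_right.trans (normalizer_J_le S hMJ hT))))
    · refine (Subgroup.closure_le _).mpr ?_
      rintro _ ⟨i, rfl⟩
      have h : g i ∈ pCoreOf 2 L ⊔ Subgroup.zpowers (hS.compGen hLj i).gen :=
        (hS.compGen hLj i).P_eq ▸ Subgroup.mem_sup_right (Subgroup.mem_zpowers _)
      exact sup_le hQM (Subgroup.zpowers_le.mpr (hcon i (hS.compGen hLj i).gen_mem)) h
    · exact (CfsgLib.LocalP.thompsonSubgroupOf_le T).trans hT.1.2.2.1
  have H := hS.compGen hLj i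
  refine ⟨_, jComponentsZero_of_not_le S hMJ hG hT H.isJComponent (fun h => hi ?_), hi, ?_⟩
  · exact (Subgroup.le_normalizer.trans (normalizer_le_normalizer_wOf _)).trans h
  · refine ne_bot_of_le_ne_bot (pCore_ne_bot_of_mem hLj) (CfsgLib.LocalCharP.le_pCoreOf
      ((pCoreOf_le_T hLj).trans le_sup_right) (CfsgLib.LocalCharP.isPGroup_pCoreOf L)
      ((sup_le H.comp_le hTL).trans (CfsgLib.LocalCharP.le_normalizer_pCoreOf L)))

omit hMJ in
theorem exists_maximal_twoLocal {N : Subgroup G} (hN : IsTwoLocal N) :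
    ∃ L, IsMaximalTwoLocal L ∧ N ≤ L := by
  classical
  haveI : Fintype (Subgroup G) := Fintype.ofFinite _
  obtain ⟨L, hL, hmax⟩ := Finset.exists_max_image
    (Finset.univ.filter fun L : Subgroup G => IsTwoLocal L ∧ N ≤ L) (fun L => Nat.card L)
    ⟨N, by simp [hN]⟩
  simp only [Finset.mem_filter, Finset.mem_univ, true_and] at hL hmax
  exact ⟨L, ⟨hL.1, fun L' hL' hle =>
    (Subgroup.eq_of_le_of_card_ge hle (hmax L' ⟨hL', hL.2.trans hle⟩)).symm⟩, hL.2⟩

omit hMJ in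
/-- The components contained in `X`. -/
def compsIn (T X : Subgroup G) : Set (Subgroup G) := {K | IsJComponent T K ∧ K ≤ X}

omit hMJ in
theorem comps_normalize {X T' K₁ K₂ : Subgroup G} (hG : ZN G) (hX : X ∈ jOvergroups T')
    (hJ : thompsonSubgroupOf 2 T' = thompsonSubgroupOf 2 T)
    (h₁ : K₁ ∈ compsIn T X) (h₂ : K₂ ∈ compsIn T X) : K₁ ≤ Subgroup.normalizer (K₂ : Set G) := by
  obtain ⟨r, τ, g, hS⟩ := exists_lSystem hG hX
  obtain ⟨i, rfl⟩ := hS.exists_eq_comp hG hX ((isJComponent_congr hJ).mpr h₁.1) h₁.2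
  obtain ⟨j, rfl⟩ := hS.exists_eq_comp hG hX ((isJComponent_congr hJ).mpr h₂.1) h₂.2
  exact (hS.comp_le_base hX i).trans (hS.base_le_normalizer hX j)

/-- A maximal 2-local overgroup of `⟨K, J(T)⟩` is determined by `K`. -/
theorem maximal_twoLocal_eq (hG : ZN G) (hT : T ∈ maxStraddlingTwoSubgroups M) {K : Subgroup G}
    (hK0 : K ∈ jComponentsZero T) (hKM : ¬ K ≤ M) {L : Subgroup G} (hLmax : IsMaximalTwoLocal L)
    (hKL : K ⊔ thompsonSubgroupOf 2 T ≤ L) :
    compsIn T L = compsIn T (Subgroup.normalizer (wOf K : Set G)) ∧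
      L = Subgroup.normalizer ((sSup (compsIn T L) : Subgroup G) : Set G) := by
  set N := Subgroup.normalizer (wOf K : Set G)
  have hLM : ¬ L ≤ M := fun h => hKM ((le_sup_left.trans hKL).trans h)
  obtain ⟨T', hT', hJT'⟩ := exists_sylowIn (J_isPGroup hT.1.1) (le_sup_right.trans hKL)
  obtain ⟨hJ', -, hLj, -⟩ := sylow_outside S hMJ hG hT hLmax.1 hLM hT' hJT'
  obtain ⟨S', hJS', hNj, hKN⟩ := exists_sylow_normalizer hG hT.1.1 hK0
  have hKin : K ∈ compsIn T L := ⟨hK0.1, le_sup_left.trans hKL⟩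
  have hsub : compsIn T L ⊆ compsIn T N := by
    intro K' hK'
    refine ⟨hK'.1, ?_⟩
    rcases eq_or_ne K' K with rfl | hne
    · exact hKN
    obtain ⟨r, τ, g, hS⟩ := exists_lSystem hG hLj
    obtain ⟨i, rfl⟩ := hS.exists_eq_comp hG hLj ((isJComponent_congr hJ').mpr hK'.1) hK'.2
    obtain ⟨j, rfl⟩ := hS.exists_eq_comp hG hLj ((isJComponent_congr hJ').mpr hKin.1) hKin.2
    exact (hS.comp_centralizes hLj fun h => hne (by rw [h])).trans (Subgroup.centralizer_le_normalizer _)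
  set P := sSup (compsIn T L) with hP
  have hKP : K ≤ P := le_sSup hKin
  have hLP : L ≤ Subgroup.normalizer (P : Set G) := by
    refine CfsgLib.LocalCharP.le_normalizer_of_conj_mem fun l hl x hx => ?_
    have hle : P ≤ P.comap (MulAut.conj l).toMonoidHom := sSup_le fun K' hK' => by
      obtain ⟨hc, hcL⟩ := component_conj hG hLj ((isJComponent_congr hJ').mpr hK'.1) hK'.2 hl
      exact Subgroup.map_le_iff_le_comap.mp
        (le_sSup (s := compsIn T L) ⟨(isJComponent_congr hJ').mp hc, hcL⟩)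
    exact hle hx
  have hPK : P ≤ Subgroup.normalizer (K : Set G) :=
    sSup_le fun K' hK' => comps_normalize hG hLj hJ' hK' hKin
  have hOne : pCoreOf 2 P ≠ ⊥ := by
    refine ne_bot_of_le_ne_bot (ne_bot_of_le_ne_bot (wOf_ne_bot hK0.1) (wOf_le_pCoreOf hK0.1)) ?_
    exact CfsgLib.LocalCharP.le_pCoreOf ((CfsgLib.LocalCharP.pCoreOf_le K).trans hKP)
      (CfsgLib.LocalCharP.isPGroup_pCoreOf K)
      (hPK.trans (CfsgLib.LocalCharP.normalizer_le_normalizer_pCoreOf K))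
  have hNP : Subgroup.normalizer (P : Set G) = L := by
    have h1 := CfsgLib.LocalCharP.normalizer_le_normalizer_pCoreOf (p := 2) P
    have h2 := hLmax.2 _ ⟨_, CfsgLib.LocalCharP.isPGroup_pCoreOf P, hOne, rfl⟩ (hLP.trans h1)
    exact le_antisymm (h1.trans h2.le) hLP
  refine ⟨Set.Subset.antisymm hsub fun K' hK' => ⟨hK'.1, ?_⟩, hNP.symm⟩
  rw [← hNP]
  refine fun x hx => Subgroup.mem_normalizer_iff.mpr ?_
  have hn : K' ≤ Subgroup.normalizer (P : Set G) := by
    refine CfsgLib.LocalCharP.le_normalizer_of_conj_mem fun l hl y hy => ?_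
    have hle : P ≤ P.comap (MulAut.conj l).toMonoidHom := sSup_le fun K'' hK'' z hz =>
      le_sSup (s := compsIn T L) hK''
        (conj_mem (comps_normalize hG hNj hJS' hK' (hsub hK'') hl) hz)
    exact hle hy
  exact Subgroup.mem_normalizer_iff.mp (hn hx)

theorem exists_unique_maximal (hG : ZN G) (hT : T ∈ maxStraddlingTwoSubgroups M) {K : Subgroup G}
    (hK : K ∈ jComponentsOutside M T) :
    ∃ L : Subgroup G, IsMaximalTwoLocal L ∧ K ⊔ thompsonSubgroupOf 2 T ≤ L ∧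
      (∀ L' : Subgroup G, IsMaximalTwoLocal L' → K ⊔ thompsonSubgroupOf 2 T ≤ L' → L' = L) ∧
      (K.subgroupOf L).IsSubnormal ∧ IsSylowTwoIn T L ∧ L ∈ jOvergroups T := by
  obtain ⟨hK0, hKM, hO⟩ := hK
  obtain ⟨L, hLmax, hle⟩ := exists_maximal_twoLocal
    (N := Subgroup.normalizer (pCoreOf 2 (K ⊔ T) : Set G)) ⟨_, CfsgLib.LocalCharP.isPGroup_pCoreOf _, hO, rfl⟩
  have hKT : K ⊔ T ≤ L := (CfsgLib.LocalCharP.le_normalizer_pCoreOf _).trans hle
  have hKJ : K ⊔ thompsonSubgroupOf 2 T ≤ L :=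
    (sup_le_sup_left (CfsgLib.LocalP.thompsonSubgroupOf_le T) _).trans hKT
  have hLj := mem_jOvergroups_of_le S hMJ hG hT hLmax.1
    (fun h => hKM ((le_sup_left.trans hKT).trans h)) (le_sup_right.trans hKT)
  refine ⟨L, hLmax, hKJ, fun L' hL' hle' => ?_,
    isSubnormal_of_component hG hLj hK0.1 (le_sup_left.trans hKT), hLj.1, hLj⟩
  obtain ⟨h1, h2⟩ := maximal_twoLocal_eq S hMJ hG hT hK0 hKM hLmax hKJ
  obtain ⟨h3, h4⟩ := maximal_twoLocal_eq S hMJ hG hT hK0 hKM hL' hle'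
  rw [h2, h4, h1, h3]

end Straddle

end CfsgLib.JComp
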