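import Cfsg.Agent.JComp.SFour

/-!
Two maximal 2-local subgroups `⟨K, T⟩`, `⟨K', T⟩` over a common Sylow 2-subgroup `T`: the elementary
abelian 2-cores and, in the `C₂ × S₄` case, the fusion of the central involutions.
-/

set_option autoImplicit false

open Cfsg
open scoped Pointwise commutatorElement

namespace CfsgLib.JComp

variable {G : Type*} [Group G] [Finite G]

local instance : Fact (Nat.Prime 2) := ⟨Nat.prime_two⟩

/-- Two good configurations with trivial common 2-core, both maximal 2-local subgroups. -/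
structure TwoPair (T K K' : Subgroup G) : Prop where
  g : GoodComp T K
  g' : GoodComp T K'
  bot : pCoreOf 2 ((K ⊔ T) ⊔ (K' ⊔ T)) = ⊥
  max : IsMaximalTwoLocal (K ⊔ T)
  max' : IsMaximalTwoLocal (K' ⊔ T)

/-- The 2-core of `⟨K, T⟩`. -/
abbrev coreP (T K : Subgroup G) : Subgroup G := pCoreOf 2 (K ⊔ T)

namespace TwoPair

variable {T K K' : Subgroup G} (h : TwoPair T K K')

include h

theorem symm : TwoPair T K' K :=
  ⟨h.g', h.g, by rw [sup_comm (K' ⊔ T) (K ⊔ T)]; exact h.bot, h.max', h.max⟩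

theorem V_le : coreP T K ≤ T := h.g.pCoreOf_le_T

theorem comm {a b : G} (ha : a ∈ coreP T K) (hb : b ∈ coreP T K) : a * b = b * a :=
  (CfsgLib.LocalP.isElementaryAbelian_iff.mp (h.g.amalgam h.g' h.bot).1).1 a ha b hb

theorem sq_one {a : G} (ha : a ∈ coreP T K) : a * a = 1 := by
  rw [← sq]
  exact (CfsgLib.LocalP.isElementaryAbelian_iff.mp (h.g.amalgam h.g' h.bot).1).2 a ha

theorem inv_self {a : G} (ha : a ∈ coreP T K) : a⁻¹ = a := inv_eq_of_mul_eq_one_right (h.sq_one ha)

theorem card_P : Nat.card ↥(K ⊔ T) = 6 * Nat.card ↥(coreP T K) := by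
  rw [← card_mul_rel (CfsgLib.LocalCharP.pCoreOf_le (p := 2) (K ⊔ T)), h.g.index_six, mul_comm]

theorem card_T : Nat.card T = 2 * Nat.card ↥(coreP T K) := by
  have h1 := h.card_P
  rw [h.g.card_eq] at h1
  omega

theorem index_two : ((coreP T K).subgroupOf T).index = 2 := by
  have h1 := card_mul_rel h.V_le
  rw [h.card_T, mul_comm 2] at h1
  exact Nat.eq_of_mul_eq_mul_left Nat.card_pos h1

theorem mul_mem_of_not_mem {a b : G} (ha : a ∈ T) (hb : b ∈ T) (ha' : a ∉ coreP T K) (hb' : b ∉ coreP T K) :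
    a * b ∈ coreP T K :=
  (Subgroup.mul_mem_iff_of_index_two h.index_two (a := ⟨a, ha⟩) (b := ⟨b, hb⟩)).mpr (iff_of_false ha' hb')

theorem ne : coreP T K ≠ coreP T K' := by
  intro he
  refine h.g.pCoreOf_ne_bot (le_bot_iff.mp ?_)
  refine le_trans ?_ h.bot.le
  exact CfsgLib.LocalCharP.le_pCoreOf ((CfsgLib.LocalCharP.pCoreOf_le _).trans le_sup_left)
    (CfsgLib.LocalCharP.isPGroup_pCoreOf _)
    (sup_le (CfsgLib.LocalCharP.le_normalizer_pCoreOf _)
      ((CfsgLib.LocalCharP.le_normalizer_pCoreOf _).trans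
        (by rw [show pCoreOf 2 (K' ⊔ T) = pCoreOf 2 (K ⊔ T) from he.symm])))

theorem card_V_eq : Nat.card ↥(coreP T K') = Nat.card ↥(coreP T K) := by
  have h1 := h.card_T
  have h2 := h.symm.card_T
  omega

theorem exists_not_mem : ∃ b ∈ coreP T K', b ∉ coreP T K :=
  Set.not_subset.mp fun hle => h.ne (Subgroup.eq_of_le_of_card_ge hle h.card_V_eq.ge).symm

theorem sup_eq : coreP T K ⊔ coreP T K' = T := by
  obtain ⟨b, hb, hbV⟩ := h.exists_not_mem
  refine le_antisymm (sup_le h.V_le h.symm.V_le) fun t ht => ?_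
  by_cases htV : t ∈ coreP T K
  · exact Subgroup.mem_sup_left htV
  · have h1 := h.mul_mem_of_not_mem ht (h.symm.V_le hb) htV hbV
    have := mul_mem (Subgroup.mem_sup_left (T := coreP T K') h1) (inv_mem (Subgroup.mem_sup_right hb))
    simpa using this

/-- An element of `K ⊔ T` centralizing `T` lies in both cores. -/
theorem mem_inter_of_central {x : G} (hx : x ∈ Subgroup.centralizer (T : Set G)) :
    x ∈ coreP T K ∧ x ∈ coreP T K' :=
  ⟨h.g.charTwo (Subgroup.centralizer_le h.V_le hx), h.g'.charTwo (Subgroup.centralizer_le h.symm.V_le hx)⟩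

theorem central_of_mem_inter {x : G} (hx : x ∈ coreP T K) (hx' : x ∈ coreP T K') :
    x ∈ Subgroup.centralizer (T : Set G) := by
  have hle : T ≤ Subgroup.centralizer ({x} : Set G) := by
    rw [← h.sup_eq]
    exact sup_le (fun a ha => Subgroup.mem_centralizer_singleton_iff.mpr (h.comm ha hx))
      fun a ha => Subgroup.mem_centralizer_singleton_iff.mpr (h.symm.comm ha hx')
  exact Subgroup.mem_centralizer_iff.mpr fun t ht => Subgroup.mem_centralizer_singleton_iff.mp (hle ht)

/-- An involution of `T` lies in one of the two cores. -/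
theorem mem_or_mem {t : G} (ht : t ∈ T) (ht2 : t * t = 1) : t ∈ coreP T K ∨ t ∈ coreP T K' := by
  by_contra hcon
  push Not at hcon
  obtain ⟨b, hb, hbV⟩ := h.exists_not_mem
  have hb2 := h.symm.sq_one hb
  have hbT := h.symm.V_le hb
  set a := t * b with hadef
  have ha : a ∈ coreP T K := h.mul_mem_of_not_mem ht hbT hcon.1 hbV
  have hab : a * b = b * a := by
    have e : a * b = t := by rw [hadef, mul_assoc, hb2, mul_one]
    have e' : b * a = t := by
      calc b * a = (a⁻¹ * b⁻¹)⁻¹ := by group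
        _ = (a * b)⁻¹ := by rw [h.inv_self ha, inv_eq_of_mul_eq_one_right hb2]
        _ = t := by rw [e, inv_eq_of_mul_eq_one_right ht2]
    rw [e, e']
  have hac : a ∈ Subgroup.centralizer (T : Set G) := by
    refine Subgroup.mem_centralizer_iff.mpr fun s hs => ?_
    by_cases hsV : s ∈ coreP T K
    · exact h.comm hsV ha
    · have h1 := h.comm (h.mul_mem_of_not_mem hs hbT hsV hbV) ha
      have e : s = s * b * b := by rw [mul_assoc, hb2, mul_one]
      rw [e, mul_assoc, ← hab, ← mul_assoc, h1, mul_assoc]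
  refine hcon.2 ?_
  have := mul_mem (h.mem_inter_of_central hac).2 hb
  rwa [hadef, mul_assoc, hb2, mul_one] at this

/-- An elementary abelian subgroup of `T` lies in one of the two cores. -/
theorem elem_le {E : Subgroup G} (hE : IsElementaryAbelian 2 E) (hET : E ≤ T) :
    E ≤ coreP T K ∨ E ≤ coreP T K' := by
  obtain ⟨hEab, hE2⟩ := CfsgLib.LocalP.isElementaryAbelian_iff.mp hE
  have hsq : ∀ e ∈ E, e * e = 1 := fun e he => by rw [← sq]; exact hE2 e he
  by_contra hcon
  push Not at hcon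
  obtain ⟨x, hxE, hxV⟩ := Set.not_subset.mp hcon.1
  obtain ⟨y, hyE, hyV⟩ := Set.not_subset.mp hcon.2
  have hx' := (h.mem_or_mem (hET hxE) (hsq x hxE)).resolve_left hxV
  have hy := (h.mem_or_mem (hET hyE) (hsq y hyE)).resolve_right hyV
  refine hyV (h.mem_inter_of_central ?_).2
  refine Subgroup.mem_centralizer_iff.mpr fun s hs => ?_
  by_cases hsV : s ∈ coreP T K
  · exact h.comm hsV hy
  · have h1 := h.comm (h.mul_mem_of_not_mem hs (hET hxE) hsV hxV) hy
    have e : s = s * x * x := by rw [mul_assoc, hsq x hxE, mul_one]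
    rw [e, mul_assoc, hEab x hxE y hyE, ← mul_assoc, h1, mul_assoc]

theorem T_ne_bot : T ≠ ⊥ := fun hb => by
  have h1 := h.card_T
  rw [hb, Subgroup.card_bot] at h1
  omega

theorem eq_of_normalizer_ge {U : Subgroup G} (hU : IsPGroup 2 ↥U) (hU1 : U ≠ ⊥)
    (hle : K ⊔ T ≤ Subgroup.normalizer (U : Set G)) : Subgroup.normalizer (U : Set G) = K ⊔ T :=
  h.max.2 _ ⟨U, hU, hU1, rfl⟩ hle

theorem P_le_normalizer_W : K ⊔ T ≤ Subgroup.normalizer (wOf K : Set G) :=
  (sup_le Subgroup.le_normalizer h.g.normT).trans (normalizer_le_normalizer_wOf K)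

theorem normalizer_W : Subgroup.normalizer (wOf K : Set G) = K ⊔ T :=
  h.eq_of_normalizer_ge (wOf_isPGroup h.g.comp) (wOf_ne_bot h.g.comp) h.P_le_normalizer_W

theorem W_le_V : wOf K ≤ coreP T K :=
  (wOf_le_pCoreOf h.g.comp).trans (CfsgLib.LocalCharP.le_pCoreOf
    ((CfsgLib.LocalCharP.pCoreOf_le K).trans le_sup_left) (CfsgLib.LocalCharP.isPGroup_pCoreOf K)
    ((sup_le Subgroup.le_normalizer h.g.normT).trans
      (CfsgLib.LocalCharP.normalizer_le_normalizer_pCoreOf K)))

theorem normalizer_V : Subgroup.normalizer (coreP T K : Set G) = K ⊔ T :=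
  h.eq_of_normalizer_ge (CfsgLib.LocalCharP.isPGroup_pCoreOf _) h.g.pCoreOf_ne_bot
    (CfsgLib.LocalCharP.le_normalizer_pCoreOf _)

theorem inf_eq : (K ⊔ T) ⊓ (K' ⊔ T) = T := h.g.inf_eq h.g' h.bot

theorem P_ne : K ⊔ T ≠ K' ⊔ T := fun he => h.ne (by rw [coreP, coreP, he])

/-- A 2-subgroup of `⟨K, T⟩` containing `T` equals `T`. -/
theorem two_eq {R : Subgroup G} (hR : IsPGroup 2 ↥R) (hle : R ≤ K ⊔ T) (hTR : T ≤ R) : R = T :=
  sylowIn_maximal h.g.sylow hR hle hTR

/-- A 2-element of `⟨K, T⟩` normalizing `T` and lying in a 2-group with it lies in `T`. -/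
theorem mem_T_of_mem {S : Subgroup G} (hS : IsPGroup 2 ↥S) (hTS : T ≤ S) {x : G} (hx : x ∈ S)
    (hxP : x ∈ K ⊔ T) : x ∈ T := by
  have he := h.two_eq (hS.to_le (sup_le hTS (Subgroup.zpowers_le.mpr hx)))
    (sup_le le_sup_right (Subgroup.zpowers_le.mpr hxP)) (le_sup_left : T ≤ T ⊔ Subgroup.zpowers x)
  exact he.le (Subgroup.mem_sup_right (Subgroup.mem_zpowers x))

end TwoPair

end CfsgLib.JComp
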