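import Cfsg.Agent.JComp.Components

/-!
Components of `jComponentsZero T`: the normalizer of the four-group is the normalizer of the
component, and it lies in the family of overgroups of one of its Sylow 2-subgroups.
-/

set_option autoImplicit false

open Cfsg
open scoped Pointwise commutatorElement

namespace CfsgLib.JComp

variable {G : Type*} [Group G] [Finite G]

local instance : Fact (Nat.Prime 2) := ⟨Nat.prime_two⟩

theorem maxElemAbelianOrder_congr {T T' : Subgroup G}
    (h : thompsonSubgroupOf 2 T = thompsonSubgroupOf 2 T') :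
    maxElemAbelianOrder T = maxElemAbelianOrder T' := by
  have key : ∀ {X Y : Subgroup G}, thompsonSubgroupOf 2 X = thompsonSubgroupOf 2 Y →
      maxElemAbelianOrder X ≤ maxElemAbelianOrder Y := by
    intro X Y h
    obtain ⟨A, hA⟩ := exists_maxE X
    obtain ⟨B, hB⟩ := exists_maxE Y
    rw [maxElemAbelianOrder_eq hA, maxElemAbelianOrder_eq hB]
    exact hB.2.2 A ((maxE_le_J hA).trans (h.le.trans (CfsgLib.LocalP.thompsonSubgroupOf_le Y))) hA.2.1
  exact le_antisymm (key h) (key h.symm)

theorem J_le_normalizer_component {T K : Subgroup G} (hK : IsJComponent T K) :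
    thompsonSubgroupOf 2 T ≤ Subgroup.normalizer (K : Set G) :=
  Subgroup.le_normalizer_iff_commutator_le_left.mpr hK.2.1.le

theorem normalizer_le_normalizer_wOf (K : Subgroup G) :
    Subgroup.normalizer (K : Set G) ≤ Subgroup.normalizer (wOf K : Set G) := by
  intro x hx
  rw [Subgroup.mem_normalizer_iff_map_conj_eq] at hx ⊢
  exact (map_wOf x K).trans (congrArg wOf hx)

omit [Finite G] in
theorem wOf_ne_bot {T K : Subgroup G} (hK : IsJComponent T K) : wOf K ≠ ⊥ := fun h => by
  have h4 := hK.2.2.2.2.1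
  rw [h, Subgroup.card_bot] at h4
  norm_num at h4

omit [Finite G] in
theorem wOf_isPGroup {T K : Subgroup G} (hK : IsJComponent T K) : IsPGroup 2 ↥(wOf K) :=
  IsPGroup.of_card (n := 2) hK.2.2.2.2.1

omit [Finite G] in
theorem isTwoLocal_normalizer_wOf {T K : Subgroup G} (hK : IsJComponent T K) :
    IsTwoLocal (Subgroup.normalizer (wOf K : Set G)) :=
  ⟨_, wOf_isPGroup hK, wOf_ne_bot hK, rfl⟩

theorem pCoreOf_ne_self {T K : Subgroup G} (hK : IsJComponent T K) : ¬ K ≤ pCoreOf 2 K := fun h => by
  have h3 := hK.2.2.1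
  rw [Subgroup.relIndex_eq_one.mpr h] at h3
  norm_num at h3

theorem wOf_le_pCoreOf {T K : Subgroup G} (_hK : IsJComponent T K) : wOf K ≤ pCoreOf 2 K := by
  refine le_trans ?_ (omegaCenterOf_le _)
  refine Subgroup.commutator_le.mpr fun u hu k hk => ?_
  have h := conj_mem (normalizer_le_normalizer_omegaCenterOf _
    (CfsgLib.LocalCharP.le_normalizer_pCoreOf K hk)) (inv_mem hu)
  simpa [commutatorElement_def, mul_assoc] using mul_mem hu h

theorem J_not_le_pCoreOf {T K N : Subgroup G} (hK : IsJComponent T K) (hKN : K ≤ N) :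
    ¬ thompsonSubgroupOf 2 T ≤ pCoreOf 2 N := fun h => by
  have hle : K ≤ pCoreOf 2 N := by
    rw [← hK.2.1]
    refine Subgroup.commutator_le.mpr fun k hk j hj => ?_
    exact mul_mem (conj_mem (CfsgLib.LocalCharP.le_normalizer_pCoreOf N (hKN hk)) (h hj)) (inv_mem (h hj))
  exact pCoreOf_ne_self hK (CfsgLib.LocalCharP.le_pCoreOf le_rfl
    ((CfsgLib.LocalCharP.isPGroup_pCoreOf N).to_le hle) Subgroup.le_normalizer)

/-- The normalizer of the four-group of a member of `jComponentsZero T` is in the family of a Sylow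
2-subgroup with the same Thompson subgroup. -/
theorem exists_sylow_normalizer {T K : Subgroup G} (hG : ZN G) (hT : IsPGroup 2 ↥T)
    (hK : K ∈ jComponentsZero T) :
    ∃ S' : Subgroup G, thompsonSubgroupOf 2 S' = thompsonSubgroupOf 2 T ∧
      Subgroup.normalizer (wOf K : Set G) ∈ jOvergroups S' ∧
      K ≤ Subgroup.normalizer (wOf K : Set G) := by
  obtain ⟨hK, hK0⟩ := hK
  set N := Subgroup.normalizer (wOf K : Set G)
  have hKN : K ≤ N := Subgroup.le_normalizer.trans (normalizer_le_normalizer_wOf K)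
  obtain ⟨S', hS', hJS'⟩ := exists_sylowIn (J_isPGroup hT)
    ((J_le_normalizer_component hK).trans (normalizer_le_normalizer_wOf K))
  have hJ := hK0 S' hJS' hS'
  refine ⟨S', hJ, ⟨hS', ?_, hG.centralizer_pCore_le (isTwoLocal_normalizer_wOf hK)⟩, hKN⟩
  rw [hJ]
  exact J_not_le_pCoreOf hK hKN

theorem normalizer_eq_normalizer_wOf {T K : Subgroup G} (hG : ZN G) (hT : IsPGroup 2 ↥T)
    (hK : K ∈ jComponentsZero T) :
    Subgroup.normalizer (K : Set G) = Subgroup.normalizer (wOf K : Set G) := by
  refine le_antisymm (normalizer_le_normalizer_wOf K) fun n hn => ?_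
  obtain ⟨S', hJ, hL, hKN⟩ := exists_sylow_normalizer hG hT hK
  have hK' : IsJComponent S' K := (isJComponent_congr hJ).mpr hK.1
  obtain ⟨hc, hcN⟩ := component_conj hG hL hK' hKN hn
  refine Subgroup.mem_normalizer_iff_map_conj_eq.mpr (eq_of_wOf_inf hG hL hc hcN hK' hKN ?_)
  rw [show ((MulAut.conj n : MulAut G) : G →* G) = (MulAut.conj n).toMonoidHom from rfl, ← map_wOf]
  have hne := wOf_ne_bot hK.1
  rw [show (wOf K).map (MulAut.conj n).toMonoidHom = wOf K from Subgroup.mem_normalizer_iff_map_conj_eq.mp hn]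
  rwa [inf_idem]

theorem isJComponent_conj_of_le {T K : Subgroup G} (hG : ZN G) (hT : IsPGroup 2 ↥T)
    (hK : K ∈ jComponentsZero T) (g : G)
    (hg : thompsonSubgroupOf 2 (T.map (MulAut.conj g).toMonoidHom) ≤ Subgroup.normalizer (wOf K : Set G)) :
    IsJComponent (T.map (MulAut.conj g).toMonoidHom) K := by
  obtain ⟨S', hJ, hL, hKN⟩ := exists_sylow_normalizer hG hT hK
  obtain ⟨n, hn, hle⟩ := exists_sylowIn_ge_conj hL.1 (J_isPGroup (hT.map (MulAut.conj g).toMonoidHom)) hg
  have ha : maxElemAbelianOrder (S'.map (MulAut.conj n).toMonoidHom) ≤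
      maxElemAbelianOrder (T.map (MulAut.conj g).toMonoidHom) := by
    rw [maxElemAbelianOrder_map, maxElemAbelianOrder_map, maxElemAbelianOrder_congr hJ]
  have h1 := J_le_J hle ha
  rw [J_map, J_map, hJ] at h1
  have h2 : thompsonSubgroupOf 2 (T.map (MulAut.conj n).toMonoidHom) =
      thompsonSubgroupOf 2 (T.map (MulAut.conj g).toMonoidHom) := by
    rw [J_map, J_map]
    refine (Subgroup.eq_of_le_of_card_ge h1 ?_).symm
    rw [Subgroup.card_map_of_injective (MulAut.conj n).injective,
      Subgroup.card_map_of_injective (MulAut.conj g).injective]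
  have h3 := isJComponent_map n hK.1
  rw [show K.map (MulAut.conj n).toMonoidHom = K from
    Subgroup.mem_normalizer_iff_map_conj_eq.mp ((normalizer_eq_normalizer_wOf hG hT hK).ge hn)] at h3
  exact (isJComponent_congr h2).mp h3

end CfsgLib.JComp
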